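import Groth.Agent.Brnch.K580.SumMin
import Groth.Agent.Hensel.Exist
import Mathlib.FieldTheory.PurelyInseparable.Basic

/-!
# One (geometric) branch means (geometrically) unibranch
-/

set_option autoImplicit false
universe u

noncomputable section

namespace K580.Unibranch

open CAlg2 IsLocalRing Brnch K580.NormRed K580.PiSpec K580.EmbCount K580.SumMin

variable (A : Type u) [CommRing A]

/-- `normRed A` is integral over `A`. -/
theorem isIntegral_normRed : Algebra.IsIntegral A (normRed A) := by
  have h1 : Algebra.IsIntegral A (red A) := Algebra.isIntegral_of_surjective Ideal.Quotient.mk_surjective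
  exact Algebra.IsIntegral.trans (red A)

/-- The nilradical is prime when `A_red` is a domain; then there is one minimal prime. -/
theorem minimalPrimes_of_isDomain_red (h : IsDomain (red A)) : minimalPrimes A = {nilradical A} := by
  have h1 : (nilradical A).IsPrime := (Ideal.Quotient.isDomain_iff_prime _).1 h
  ext p
  rw [Set.mem_singleton_iff]
  constructor
  · intro hp
    exact le_antisymm (hp.2 ⟨h1, bot_le⟩ (nilradical_le_prime p (H := hp.1.1)))
      (nilradical_le_prime p (H := hp.1.1))
  · rintro rfl
    exact ⟨⟨h1, bot_le⟩, fun q hq _ => nilradical_le_prime q (H := hq.1)⟩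

theorem isDomain_red_of_subsingleton [Nontrivial A] (h : Subsingleton (minimalPrimes A)) : IsDomain (red A) := by
  obtain ⟨m, hm⟩ := Ideal.exists_maximal A
  obtain ⟨p, hp, -⟩ := Ideal.exists_minimalPrimes_le (bot_le : (⊥ : Ideal A) ≤ m)
  have h1 : minimalPrimes A = {p} := by
    ext q
    rw [Set.mem_singleton_iff]
    exact ⟨fun hq => congrArg Subtype.val (Subsingleton.elim (⟨q, hq⟩ : minimalPrimes A) ⟨p, hp⟩),
      fun hq => hq ▸ hp⟩
  have h2 : nilradical A = p := by rw [NormRed.nilradical_eq_sInf, h1, sInf_singleton]
  have h3 : (nilradical A).IsPrime := h2 ▸ hp.1.1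
  exact (Ideal.Quotient.isDomain_iff_prime _).2 h3

/-- For a local ring: `normRed A` local (and finitely many minimal primes) implies `A_red` a domain. -/
theorem isDomain_red_of_isLocalRing [Nontrivial A] (hfin : (minimalPrimes A).Finite) (h : IsLocalRing (normRed A)) :
    IsDomain (red A) := by
  have hF : Finite (minimalPrimes A) := hfin.to_subtype
  obtain ⟨e, -⟩ := exists_normRedEquiv A hfin
  have h1 : IsLocalRing (∀ p : minimalPrimes A, normRed (A ⧸ p.1)) := e.isLocalRing
  have h2 : ∀ p : minimalPrimes A, Nontrivial (normRed (A ⧸ p.1)) := fun p => by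
    have := isPrime_minimalPrimes A p
    exact nontrivial_normRed _
  exact isDomain_red_of_subsingleton A (subsingleton_of_isLocalRing (fun p : minimalPrimes A => normRed (A ⧸ p.1)))

variable [IsLocalRing A]

theorem numBranches_eq_one_iff : numBranches A = 1 ↔ IsUnibranch A := by
  constructor
  · intro h
    have hfin : (minimalPrimes A).Finite := by
      by_contra hn
      rw [numBranches_of_not_finite hn] at h
      exact absurd h (by decide)
    rw [numBranches_of_finite hfin, ENat.card_eq_one_iff_unique] at h
    obtain ⟨hu⟩ := h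
    have hloc : IsLocalRing (normRed A) := IsLocalRing.of_singleton_maximalSpectrum
    exact ⟨isDomain_red_of_isLocalRing A hfin hloc, hloc⟩
  · rintro ⟨hdom, hloc⟩
    have hfin : (minimalPrimes A).Finite := by
      rw [minimalPrimes_of_isDomain_red A hdom]; exact Set.finite_singleton _
    rw [numBranches_of_finite hfin, ENat.card_eq_one_iff_unique]
    exact ⟨inferInstance⟩


section Field

variable {A} {F : Type u} [Field F] (g : A →+* F) (hg : ∀ a ∈ maximalIdeal A, g a = 0)

/-- The map of residue fields. -/
def resMap : ResidueField A →+* F := Ideal.Quotient.lift (maximalIdeal A) g hg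

theorem resMap_residue (a : A) : resMap g hg (residue A a) = g a := rfl

/-- Embeddings as algebra maps. -/
def embEquiv : letI := (resMap g hg).toAlgebra
    EmbG A g ≃ (F →ₐ[ResidueField A] AlgebraicClosure (ResidueField A)) :=
  letI := (resMap g hg).toAlgebra
  { toFun := fun σ => { σ.1 with
      commutes' := fun x => by
        obtain ⟨a, rfl⟩ := residue_surjective x
        exact DFunLike.congr_fun σ.2 a }
    invFun := fun τ => ⟨τ.toRingHom, RingHom.ext fun a => τ.commutes (residue A a)⟩
    left_inv := fun σ => rfl
    right_inv := fun τ => rfl }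

theorem isAlgebraic_resMap (hint : g.IsIntegral) :
    letI := (resMap g hg).toAlgebra
    Algebra.IsAlgebraic (ResidueField A) F := by
  let := (resMap g hg).toAlgebra
  have : Algebra.IsIntegral (ResidueField A) F := by
    refine ⟨fun x => ?_⟩
    exact RingHom.IsIntegralElem.of_comp (f := residue A) (g := algebraMap (ResidueField A) F) (hint x)
  infer_instance

/-- There is an embedding. -/
theorem nonempty_embG (hg : ∀ a ∈ maximalIdeal A, g a = 0) (hint : g.IsIntegral) : Nonempty (EmbG A g) := by
  let := (resMap g hg).toAlgebra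
  have := isAlgebraic_resMap g hg hint
  exact ⟨(embEquiv g hg).symm (IsAlgClosed.lift (M := AlgebraicClosure (ResidueField A)))⟩

theorem subsingleton_embG_iff (hg : ∀ a ∈ maximalIdeal A, g a = 0) (hint : g.IsIntegral) : Subsingleton (EmbG A g) ↔
    ∀ x : F, ∃ n : ℕ, x ^ (ringExpChar F) ^ n ∈ g.range := by
  let := (resMap g hg).toAlgebra
  have := isAlgebraic_resMap g hg hint
  have hr : (algebraMap (ResidueField A) F).range = g.range := by
    ext x
    constructor
    · rintro ⟨y, rfl⟩
      obtain ⟨a, rfl⟩ := residue_surjective y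
      exact ⟨a, rfl⟩
    · rintro ⟨a, rfl⟩
      exact ⟨residue A a, rfl⟩
  have hexp : ExpChar (ResidueField A) (ringExpChar F) :=
    (algebraMap (ResidueField A) F).expChar (algebraMap (ResidueField A) F).injective (ringExpChar F)
  constructor
  · intro h
    have h1 : Subsingleton (F →ₐ[ResidueField A] AlgebraicClosure (ResidueField A)) :=
      (embEquiv g hg).symm.subsingleton
    have h2 : IsPurelyInseparable (ResidueField A) F := by
      rw [isPurelyInseparable_iff_finSepDegree_eq_one, Field.finSepDegree_eq_of_isAlgClosed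
        (ResidueField A) F (AlgebraicClosure (ResidueField A))]
      have : Nonempty (F →ₐ[ResidueField A] AlgebraicClosure (ResidueField A)) :=
        ⟨IsAlgClosed.lift (M := AlgebraicClosure (ResidueField A))⟩
      exact Nat.card_unique
    intro x
    obtain ⟨n, hn⟩ := IsPurelyInseparable.pow_mem (ResidueField A) (ringExpChar F) x
    exact ⟨n, hr ▸ hn⟩
  · intro h
    refine ⟨fun σ τ => Subtype.ext (RingHom.ext fun x => ?_)⟩
    obtain ⟨n, a, ha⟩ := h x
    have h1 : ExpChar (AlgebraicClosure (ResidueField A)) (ringExpChar F) :=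
      expChar_of_injective_ringHom σ.1.injective _
    apply iterateFrobenius_inj (AlgebraicClosure (ResidueField A)) (ringExpChar F) n
    rw [iterateFrobenius_def, iterateFrobenius_def, ← map_pow, ← map_pow, ← ha]
    exact (DFunLike.congr_fun σ.2 a).trans (DFunLike.congr_fun τ.2 a).symm

end Field

/-- Elements of the maximal ideal of `A` map to zero in the residue fields of `normRed A`. -/
theorem toResidue_eq_zero (m' : MaximalSpectrum (normRed A)) (a : A) (ha : a ∈ maximalIdeal A) :
    toResidue A m' a = 0 := by
  have := isIntegral_normRed A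
  have := m'.isMaximal
  have h1 : (m'.asIdeal.comap (algebraMap A (normRed A))).IsMaximal :=
    Ideal.isMaximal_comap_of_isIntegral_of_isMaximal m'.asIdeal
  rw [← IsLocalRing.eq_maximalIdeal h1, Ideal.mem_comap] at ha
  exact Ideal.Quotient.eq_zero_iff_mem.2 ha

omit [IsLocalRing A] in
theorem isIntegral_toResidue (m' : MaximalSpectrum (normRed A)) : (toResidue A m').IsIntegral := by
  have := isIntegral_normRed A
  intro x
  obtain ⟨x, rfl⟩ := Ideal.Quotient.mk_surjective x
  obtain ⟨f, hf, hfx⟩ := Algebra.IsIntegral.isIntegral (R := A) x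
  refine ⟨f, hf, ?_⟩
  have h1 := Polynomial.hom_eval₂ f (algebraMap A (normRed A)) (Ideal.Quotient.mk m'.asIdeal) x
  rw [hfx, map_zero] at h1
  exact h1.symm

theorem nonempty_emb (m' : MaximalSpectrum (normRed A)) : Nonempty (Emb A m') := by
  have := m'.isMaximal
  let := Ideal.Quotient.field m'.asIdeal
  exact nonempty_embG (F := normRed A ⧸ m'.asIdeal) (toResidue A m') (toResidue_eq_zero A m')
    (isIntegral_toResidue A m')

theorem subsingleton_emb_iff (m' : MaximalSpectrum (normRed A)) : Subsingleton (Emb A m') ↔
    ∀ x : normRed A ⧸ m'.asIdeal, ∃ n : ℕ, x ^ (ringExpChar (normRed A ⧸ m'.asIdeal)) ^ n ∈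
      (toResidue A m').range := by
  have := m'.isMaximal
  let := Ideal.Quotient.field m'.asIdeal
  exact subsingleton_embG_iff (F := normRed A ⧸ m'.asIdeal) (toResidue A m') (toResidue_eq_zero A m')
    (isIntegral_toResidue A m')

theorem numGeomBranches_eq_one_iff : numGeomBranches A = 1 ↔ IsGeomUnibranch A := by
  constructor
  · intro h
    have hfin : (minimalPrimes A).Finite := by
      by_contra hn
      rw [numGeomBranches_of_not_finite hn] at h
      exact absurd h (by decide)
    rw [numGeomBranches_of_finite hfin, ENat.card_eq_one_iff_unique] at h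
    obtain ⟨hu⟩ := h
    have hsub : Subsingleton (MaximalSpectrum (normRed A)) := by
      refine ⟨fun m n => ?_⟩
      obtain ⟨σ⟩ := nonempty_emb A m
      obtain ⟨τ⟩ := nonempty_emb A n
      exact congrArg Sigma.fst (Subsingleton.elim (⟨m, σ⟩ : Σ m' : MaximalSpectrum (normRed A), Emb A m') ⟨n, τ⟩)
    have hne : Nonempty (MaximalSpectrum (normRed A)) := ⟨hu.default.1⟩
    have hloc : IsLocalRing (normRed A) := IsLocalRing.of_singleton_maximalSpectrum
    refine ⟨⟨isDomain_red_of_isLocalRing A hfin hloc, hloc⟩, fun m' hm' => ?_⟩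
    have h1 : Subsingleton (Emb A ⟨m', hm'⟩) := by
      refine ⟨fun σ τ => ?_⟩
      have h2 := Subsingleton.elim (⟨⟨m', hm'⟩, σ⟩ : Σ m' : MaximalSpectrum (normRed A), Emb A m')
        ⟨⟨m', hm'⟩, τ⟩
      simpa using h2
    exact (subsingleton_emb_iff A ⟨m', hm'⟩).1 h1
  · rintro ⟨⟨hdom, hloc⟩, h⟩
    have hfin : (minimalPrimes A).Finite := by
      rw [minimalPrimes_of_isDomain_red A hdom]; exact Set.finite_singleton _
    rw [numGeomBranches_of_finite hfin, ENat.card_eq_one_iff_unique, unique_iff_subsingleton_and_nonempty]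
    constructor
    · refine ⟨fun x y => ?_⟩
      obtain ⟨m, σ⟩ := x
      obtain ⟨n, τ⟩ := y
      obtain rfl : m = n := Subsingleton.elim m n
      have h1 : Subsingleton (Emb A m) := by
        have := m.isMaximal
        exact (subsingleton_emb_iff A m).2 (h m.asIdeal)
      rw [Subsingleton.elim σ τ]
    · obtain ⟨σ⟩ := nonempty_emb A ⟨maximalIdeal (normRed A), inferInstance⟩
      exact ⟨⟨_, σ⟩⟩

end K580.Unibranch
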