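import Groth.Agent.S2125
import Groth.Agent.CalgC.IndNormal
import Groth.Agent.CalgC.HenselIntDom
import Groth.Agent.Hensel.Lazard
import Groth.Agent.Brnch.K580.Unibranch

/-!
# Minimal primes of an ind-étale henselian local algebra `S` over `A` and maximal ideals of `normRed A ⊗ S`
-/

set_option autoImplicit false
universe u

noncomputable section

namespace K580.HullBij

open TensorProduct CAlg2 IsLocalRing K580.NormRed K580.PiSpec K580.SumMin K580.Unibranch
  Groth.Agent.CalgC.IndEtale Groth.Agent.Desc.NormalSmooth

section Normal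

variable (A : Type u) [CommRing A]

theorem normalAt_congr {R : Type*} [CommRing R] {p q : Ideal R} [p.IsPrime] [q.IsPrime] (h : p = q)
    (hp : NormalAt R p) : NormalAt R q := by
  subst h; exact hp

/-- Normality is invariant under ring isomorphisms. -/
theorem normalAt_of_equiv {R S : Type*} [CommRing R] [CommRing S] (e : R ≃+* S) (p : Ideal R) [p.IsPrime]
    (q : Ideal S) [q.IsPrime] (hpq : p = q.comap e) (h : NormalAt S q) : NormalAt R p := by
  have e' : Localization.AtPrime q ≃+* Localization.AtPrime p :=
    (IsLocalization.ringEquivOfRingEquiv (M := q.primeCompl) (T := p.primeCompl)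
      (Localization.AtPrime q) (Localization.AtPrime p) e.symm (by
        ext x
        rw [Submonoid.mem_map]
        constructor
        · rintro ⟨y, hy, rfl⟩
          intro hmem
          rw [SetLike.mem_coe, hpq] at hmem
          apply hy
          have h2 : e (e.symm y) ∈ q := hmem
          rwa [e.apply_symm_apply] at h2
        · intro hx
          refine ⟨e x, fun hmem => hx ?_, e.symm_apply_apply x⟩
          rw [SetLike.mem_coe, hpq]
          exact hmem))
  exact normalAt_of_ringEquiv e' h

/-- `normRed A` is a normal ring when `A` has finitely many minimal primes. -/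
theorem normalAt_normRed (hfin : (minimalPrimes A).Finite) (q : Ideal (normRed A)) [q.IsPrime] :
    NormalAt (normRed A) q := by
  have hF : Finite (minimalPrimes A) := hfin.to_subtype
  obtain ⟨e, -⟩ := exists_normRedEquiv A hfin
  have hq : (q.comap e.symm).IsPrime := Ideal.comap_isPrime _ _
  refine normalAt_of_equiv e q (q.comap e.symm) ?_ ?_
  · ext x
    change x ∈ q ↔ e.symm (e x) ∈ q
    rw [e.symm_apply_apply]
  · refine normalAt_pi (fun p : minimalPrimes A => normRed (A ⧸ p.1)) (fun p r hr => ?_) _
    have hp := isPrime_minimalPrimes A p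
    have hd : IsDomain (red (A ⧸ p.1)) := by
      have h3 : (nilradical (A ⧸ p.1)).IsPrime := by
        rw [nilradical_eq_zero]; exact Ideal.isPrime_bot
      exact Ideal.Quotient.isDomain _
    have h2 : IsIntegrallyClosed (normRed (A ⧸ p.1)) :=
      integralClosure.isIntegrallyClosedOfFiniteExtension (FractionRing (red (A ⧸ p.1)))
    exact ⟨IsLocalization.isDomain_localization (Ideal.primeCompl_le_nonZeroDivisors _),
      isIntegrallyClosed_of_isLocalization (R := normRed (A ⧸ p.1)) _ r.primeCompl
        (Ideal.primeCompl_le_nonZeroDivisors _)⟩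

end Normal

variable {A S : Type u} [CommRing A] [CommRing S] [Algebra A S]

theorem isEtaleCovered (h : IsIndEtale A S) : Groth.Agent.Hensel.EtaleNbhd.IsEtaleCovered A S := by
  intro s
  obtain ⟨E, _, _, hE, χ, hχ⟩ := IsIndP.exists_stage_of_finite ((isIndEtale_iff A S).1 h) (s : Set S)
    s.finite_toSet
  exact ⟨E, inferInstance, inferInstance, hE, χ, hχ⟩

theorem flat (h : IsIndEtale A S) : Module.Flat A S := IsInd.flat isGood_etale ((isIndEtale_iff A S).1 h)

/-- The local rings of `N ⊗ S` are normal domains when `N` is normal and `S` is ind-étale. -/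
theorem normalAt_tensor {N : Type u} [CommRing N] [Algebra A N]
    (hN : ∀ (q : Ideal N) [q.IsPrime], NormalAt N q) (h : IsIndEtale A S)
    (n : Ideal (N ⊗[A] S)) [n.IsPrime] : NormalAt (N ⊗[A] S) n := by
  have h1 : IsIndEtale N (N ⊗[A] S) :=
    IsInd.baseChange isGood_etale ((isIndEtale_iff A S).1 h) N
  have h2 : IsIndEtale (N ⊗[A] S) (Localization.AtPrime n) :=
    isIndEtale_of_isLocalization n.primeCompl _
  have h3 : IsIndEtale N (Localization.AtPrime n) :=
    IsInd.comp isGood_etale ((isIndEtale_iff _ _).1 h1) ((isIndEtale_iff _ _).1 h2)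
  have h4 : IsIndSmooth N (Localization.AtPrime n) :=
    IsInd.of_isIndEtale isGood_smooth h3
  exact Groth.Agent.CalgC.IndNormal.isDomain_and_isIntegrallyClosed h4 (hN _)

/-- A ring is integral over `S` after base change. -/
theorem isIntegral_tensor (B : Type u) [CommRing B] [Algebra A B] [Algebra.IsIntegral A B] :
    letI : Algebra S (B ⊗[A] S) := Algebra.TensorProduct.rightAlgebra
    Algebra.IsIntegral S (B ⊗[A] S) := by
  let : Algebra S (B ⊗[A] S) := Algebra.TensorProduct.rightAlgebra
  have h0 : Algebra.IsIntegral S (S ⊗[A] B) := inferInstance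
  refine ⟨fun x => ?_⟩
  have h1 := Algebra.IsIntegral.isIntegral (R := S) (Algebra.TensorProduct.comm A B S x)
  obtain ⟨p, hp, hpx⟩ := h1
  refine ⟨p, hp, ?_⟩
  apply (Algebra.TensorProduct.comm A B S).injective
  rw [map_zero, ← hpx, ← RingHom.coe_coe, Polynomial.hom_eval₂]
  congr 1

/-- In a ring whose localization at the prime `n` is a domain, `n` contains exactly one minimal prime. -/
theorem existsUnique_minimalPrime_le {T : Type*} [CommRing T] (n : Ideal T) [n.IsPrime]
    (h : IsDomain (Localization.AtPrime n)) : ∃! q : Ideal T, q ∈ minimalPrimes T ∧ q ≤ n := by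
  obtain ⟨q, hq, hqn⟩ := Ideal.exists_minimalPrimes_le (bot_le : (⊥ : Ideal T) ≤ n)
  have key : ∀ q' : Ideal T, q' ∈ minimalPrimes T → q' ≤ n →
      q' = (⊥ : Ideal (Localization.AtPrime n)).comap (algebraMap T _) := by
    intro q' hq' hle
    have hp' : q'.IsPrime := hq'.1.1
    have hdisj : Disjoint (n.primeCompl : Set T) q' := by
      rw [Set.disjoint_left]
      intro x hx hx'
      exact hx (hle hx')
    have h1 := IsLocalization.under_map_of_isPrime_disjoint n.primeCompl (Localization.AtPrime n) hp' hdisj
    have h2 : (q'.map (algebraMap T (Localization.AtPrime n))).IsPrime :=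
      IsLocalization.isPrime_of_isPrime_disjoint n.primeCompl _ q' hp' hdisj
    have h3 : (⊥ : Ideal (Localization.AtPrime n)).comap (algebraMap T _) ≤ q' := by
      rw [← h1]
      exact Ideal.comap_mono bot_le
    have h4 : ((⊥ : Ideal (Localization.AtPrime n)).comap (algebraMap T _)).IsPrime :=
      Ideal.comap_isPrime _ _
    exact le_antisymm (hq'.2 ⟨h4, bot_le⟩ h3) h3
  exact ⟨q, ⟨hq, hqn⟩, fun q' ⟨hq', hle⟩ => (key q' hq' hle).trans (key q hq hqn).symm⟩

/-- If `T` is integral over a henselian local ring, a prime of `T` is contained in exactly one maximal ideal. -/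
theorem existsUnique_maximal_ge {S T : Type u} [CommRing S] [HenselianLocalRing S] [CommRing T] [Algebra S T]
    [Algebra.IsIntegral S T] (q : Ideal T) [q.IsPrime] : ∃! m : Ideal T, m.IsMaximal ∧ q ≤ m := by
  have h0 : Algebra.IsIntegral S (T ⧸ q) := Algebra.IsIntegral.trans T
  have hloc : IsLocalRing (T ⧸ q) := Groth.Agent.CalgC.HenselIntDom.isLocalRing_of_isIntegral (A := S)
  refine ⟨(maximalIdeal (T ⧸ q)).comap (Ideal.Quotient.mk q),
    ⟨Ideal.comap_isMaximal_of_surjective _ Ideal.Quotient.mk_surjective, ?_⟩, ?_⟩
  · intro x hx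
    rw [Ideal.mem_comap, Ideal.Quotient.eq_zero_iff_mem.2 hx]
    exact Ideal.zero_mem _
  · rintro m ⟨hm, hqm⟩
    have h1 : (m.map (Ideal.Quotient.mk q)).IsMaximal := by
      rcases Ideal.map_eq_top_or_isMaximal_of_surjective (Ideal.Quotient.mk q) Ideal.Quotient.mk_surjective hm with
        h | h
      · exfalso
        have h2 : (m.map (Ideal.Quotient.mk q)).comap (Ideal.Quotient.mk q) = m := by
          rw [Ideal.comap_map_of_surjective _ Ideal.Quotient.mk_surjective, ← RingHom.ker_eq_comap_bot,
            Ideal.mk_ker, sup_eq_left.2 hqm]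
        rw [h, Ideal.comap_top] at h2
        exact hm.ne_top h2.symm
      · exact h
    rw [← IsLocalRing.eq_maximalIdeal h1, Ideal.comap_map_of_surjective _ Ideal.Quotient.mk_surjective,
      ← RingHom.ker_eq_comap_bot, Ideal.mk_ker, sup_eq_left.2 hqm]

section Henselian

variable {A S : Type u} [CommRing A] [CommRing S] [HenselianLocalRing S] [Algebra A S]
  {N : Type u} [CommRing N] [Algebra A N] [Algebra.IsIntegral A N]

theorem existsUnique_maximal_tensor (q : Ideal (N ⊗[A] S)) [q.IsPrime] :
    ∃! m : Ideal (N ⊗[A] S), m.IsMaximal ∧ q ≤ m := by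
  let : Algebra S (N ⊗[A] S) := Algebra.TensorProduct.rightAlgebra
  have : Algebra.IsIntegral S (N ⊗[A] S) := isIntegral_tensor N
  exact existsUnique_maximal_ge (S := S) q

/-- A bijection between minimal primes and maximal ideals. -/
theorem card_minimalPrimes_eq_card_maximalSpectrum
    (hN : ∀ (q : Ideal N) [q.IsPrime], NormalAt N q) (h : IsIndEtale A S) :
    ENat.card (minimalPrimes (N ⊗[A] S)) = ENat.card (MaximalSpectrum (N ⊗[A] S)) := by
  have h1 : ∀ q : minimalPrimes (N ⊗[A] S), ∃! m : Ideal (N ⊗[A] S), m.IsMaximal ∧ q.1 ≤ m := fun q => by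
    have : q.1.IsPrime := q.2.1.1
    exact existsUnique_maximal_tensor q.1
  have h2 : ∀ m : MaximalSpectrum (N ⊗[A] S), ∃! q : Ideal (N ⊗[A] S),
      q ∈ minimalPrimes (N ⊗[A] S) ∧ q ≤ m.asIdeal := fun m => by
    have := m.isMaximal.isPrime
    exact existsUnique_minimalPrime_le m.asIdeal (normalAt_tensor hN h m.asIdeal).1
  choose f hf hf' using h1
  choose g hg hg' using h2
  refine ENat.card_congr
    { toFun := fun q => ⟨f q, (hf q).1⟩
      invFun := fun m => ⟨g m, (hg m).1⟩
      left_inv := fun q => Subtype.ext (hg' _ q.1 ⟨q.2, (hf q).2⟩).symm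
      right_inv := fun m => MaximalSpectrum.ext (hf' _ m.asIdeal ⟨m.isMaximal, (hg m).2⟩).symm }

end Henselian

section Bij

variable {A S : Type u} [CommRing A] [CommRing S] [Algebra A S]

/-- Contraction is a bijection from the minimal primes of `normRed A ⊗ S` to those of `S`, for `S` ind-étale over
the ring `A` with finitely many minimal primes. -/
theorem bijOn_comap [Nontrivial A] (hfin : (minimalPrimes A).Finite) (h : IsIndEtale A S) :
    Set.BijOn (fun P : Ideal (normRed A ⊗[A] S) =>
        P.comap (Algebra.TensorProduct.includeRight.toRingHom : S →+* (normRed A) ⊗[A] S))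
      (minimalPrimes (normRed A ⊗[A] S)) (minimalPrimes S) := by
  have hff : Module.Flat A S := flat h
  have hcov := isEtaleCovered h
  have hmap : ∀ r : A, algebraMap A (CAlg2.normRed A) r =
      algebraMap (CAlg2.red A) (CAlg2.normRed A) (Ideal.Quotient.mk (nilradical A) r) := fun r => rfl
  have hnt : Nontrivial (CAlg2.red A) := by
    refine Ideal.Quotient.nontrivial_iff.2 ?_
    intro h
    have h1 : (1 : A) ∈ nilradical A := h ▸ Submodule.mem_top
    exact not_isNilpotent_one h1
  have hint : Algebra.IsIntegral A (CAlg2.normRed A) := isIntegral_normRed A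
  have hinj : Function.Injective (algebraMap (CAlg2.red A) (CAlg2.normRed A)) := by
    have h1 : Function.Injective (algebraMap (CAlg2.red A) (FractionRing (CAlg2.red A))) :=
      IsFractionRing.injective _ _
    exact Function.Injective.of_comp (f := ((↑) : CAlg2.normRed A → FractionRing (CAlg2.red A))) h1
  refine Groth.Agent.S2125.bijOn_of
    (fun P Q _ _ hle h => Groth.Agent.Hensel.EtaleNbhd.eq_of_le_of_comap_eq hcov P Q hle h)
    ((nonZeroDivisors (CAlg2.red A)).comap (Ideal.Quotient.mk (nilradical A)).toMonoidHom) ?_ ?_ ?_ ?_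
  · intro s hs
    rw [hmap, mem_nonZeroDivisors_iff_right]
    intro x hx
    have h1 : IsUnit (algebraMap (CAlg2.red A) (FractionRing (CAlg2.red A)) (Ideal.Quotient.mk (nilradical A) s)) :=
      IsLocalization.map_units (M := nonZeroDivisors (CAlg2.red A)) (FractionRing (CAlg2.red A))
        ⟨Ideal.Quotient.mk (nilradical A) s, hs⟩
    have h2 : (x : FractionRing (CAlg2.red A)) *
        algebraMap (CAlg2.red A) (FractionRing (CAlg2.red A)) (Ideal.Quotient.mk (nilradical A) s) = 0 :=
      congrArg (fun y : CAlg2.normRed A => (y : FractionRing (CAlg2.red A))) hx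
    exact Subtype.ext ((h1.mul_left_eq_zero).1 h2)
  · intro p hp h
    exact Groth.Agent.S2125.mem_minimalPrimes_of_forall_notMem hfin p h
  · intro a
    obtain ⟨⟨r, s⟩, h⟩ := IsLocalization.surj (nonZeroDivisors (CAlg2.red A)) (a : FractionRing (CAlg2.red A))
    obtain ⟨r', hr'⟩ := Ideal.Quotient.mk_surjective r
    obtain ⟨s', hs'⟩ := Ideal.Quotient.mk_surjective (s : CAlg2.red A)
    refine ⟨s', ?_, r', ?_⟩
    · have h1 : Ideal.Quotient.mk (nilradical A) s' ∈ nonZeroDivisors (CAlg2.red A) := by
        rw [hs']; exact s.2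
      exact h1
    · rw [hmap, hmap, hs', hr', mul_comm]
      exact Subtype.ext h
  · intro x hx
    have h1 : ((1 : CAlg2.normRed A) ⊗ₜ[A] x : (CAlg2.normRed A) ⊗[A] S) = 0 := hx
    let i : CAlg2.red A →ₗ[A] CAlg2.normRed A :=
      (Algebra.linearMap (CAlg2.red A) (CAlg2.normRed A)).restrictScalars A
    have h2 : Function.Injective (LinearMap.rTensor S i) :=
      Module.Flat.rTensor_preserves_injective_linearMap i hinj
    have h3 : ((1 : CAlg2.red A) ⊗ₜ[A] x : (CAlg2.red A) ⊗[A] S) = 0 := by
      apply h2
      rw [map_zero, LinearMap.rTensor_tmul]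
      have : i 1 = 1 := map_one (algebraMap (CAlg2.red A) (CAlg2.normRed A))
      rw [this, h1]
    have h4 := congrArg (TensorProduct.quotTensorEquivQuotSMul S (nilradical A)) h3
    rw [map_zero] at h4
    have h5 : (Submodule.Quotient.mk x : S ⧸ (nilradical A • (⊤ : Submodule A S))) = 0 := by
      rw [← h4]
      have := TensorProduct.quotTensorEquivQuotSMul_mk_tmul (nilradical A) (1 : A) x
      rw [one_smul] at this
      exact this.symm
    rw [Submodule.Quotient.mk_eq_zero] at h5
    have h6 : (nilradical A • (⊤ : Submodule A S)) ≤ (nilradical S).restrictScalars A := by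
      rw [Submodule.smul_le]
      intro r hr y _
      rw [Algebra.smul_def]
      exact Ideal.mul_mem_right _ _ (by
        change IsNilpotent _
        exact IsNilpotent.map (show IsNilpotent r from hr) (algebraMap A S))
    exact h6 h5

end Bij

section Card

variable {A S : Type u} [CommRing A] [Nontrivial A] [CommRing S] [HenselianLocalRing S] [Algebra A S]

/-- The number of minimal primes of `S` is the number of maximal ideals of `normRed A ⊗ S`. -/
theorem card_minimalPrimes_eq (hfin : (minimalPrimes A).Finite) (h : IsIndEtale A S) :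
    ENat.card (minimalPrimes S) = ENat.card (MaximalSpectrum (normRed A ⊗[A] S)) := by
  have hint : Algebra.IsIntegral A (CAlg2.normRed A) := isIntegral_normRed A
  rw [← card_minimalPrimes_eq_card_maximalSpectrum (N := normRed A) (fun q _ => normalAt_normRed A hfin q) h]
  exact (ENat.card_congr ((bijOn_comap hfin h).equiv _)).symm

end Card

end K580.HullBij
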