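import Groth.Agent.Brnch.K580.MaxTensor
import Groth.Agent.CalgC.MinPrimesCount

/-!
# The number of minimal primes of a (strict) henselization is the number of (geometric) branches
-/

set_option autoImplicit false
universe u

noncomputable section

namespace K580.CountHens

open TensorProduct CAlg2 IsLocalRing Brnch K580.EmbCount K580.SumMin K580.HullBij K580.MaxTensor

/-- Minimal primes surject along a faithfully flat map. -/
theorem surjective_comap_minimalPrimes {A S : Type*} [CommRing A] [CommRing S] [Algebra A S]
    [Module.FaithfullyFlat A S] :
    Set.SurjOn (Ideal.comap (algebraMap A S)) (minimalPrimes S) (minimalPrimes A) := by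
  intro p hp
  have : p.IsPrime := hp.1.1
  obtain ⟨Q, hQ, hQp⟩ := Ideal.exists_isPrime_liesOver_of_faithfullyFlat (A := A) (B := S) p
  obtain ⟨q, hq, hqQ⟩ := Ideal.exists_minimalPrimes_le (bot_le : (⊥ : Ideal S) ≤ Q)
  refine ⟨q, hq, ?_⟩
  have h1 : q.comap (algebraMap A S) ≤ p := by
    rw [hQp.over]
    exact Ideal.comap_mono hqQ
  have hqp : q.IsPrime := hq.1.1
  exact le_antisymm h1 (hp.2 ⟨Ideal.comap_isPrime _ _, bot_le⟩ h1)

theorem mapsTo_comap_minimalPrimes {A S : Type*} [CommRing A] [CommRing S] [Algebra A S]
    [Module.Flat A S] :
    Set.MapsTo (Ideal.comap (algebraMap A S)) (minimalPrimes S) (minimalPrimes A) :=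
  fun _ hQ => Groth.Agent.CalgC.MinPrimesCount.comap_mem_minimalPrimes hQ

theorem finite_minimalPrimes_of_faithfullyFlat {A S : Type*} [CommRing A] [CommRing S] [Algebra A S]
    [Module.FaithfullyFlat A S] (h : (minimalPrimes S).Finite) : (minimalPrimes A).Finite :=
  (h.image _).subset surjective_comap_minimalPrimes

/-- The number of minimal primes does not decrease along faithfully flat maps. -/
theorem card_minimalPrimes_le {A S : Type*} [CommRing A] [CommRing S] [Algebra A S]
    [Module.FaithfullyFlat A S] : ENat.card (minimalPrimes A) ≤ ENat.card (minimalPrimes S) := by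
  change (minimalPrimes A).encard ≤ (minimalPrimes S).encard
  exact (Set.encard_le_encard (surjective_comap_minimalPrimes (A := A) (S := S))).trans (Set.encard_image_le _ _)

variable (A S : Type u) [CommRing A] [IsLocalRing A] [CommRing S] [HenselianLocalRing S] [Algebra A S]
    [IsLocalHom (algebraMap A S)]

/-- General form for an ind-étale henselian local algebra without residue field extension. -/
theorem card_minimalPrimes_eq_numBranches (h : Groth.Agent.CalgC.IndEtale.IsIndEtale A S)
    (hres : Function.Surjective (ResidueField.map (algebraMap A S))) :
    ENat.card (minimalPrimes S) = numBranches A := by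
  have := HullBij.flat h
  have : Module.FaithfullyFlat A S := Module.FaithfullyFlat.of_flat_of_isLocalHom
  by_cases hfin : (minimalPrimes A).Finite
  · have := K580.Unibranch.isIntegral_normRed A
    rw [numBranches_of_finite hfin, card_minimalPrimes_eq hfin h]
    exact card_maximalSpectrum_of_residue (N := normRed A) hres
  · rw [numBranches_of_not_finite hfin, ENat.card_eq_top]
    by_contra hn
    rw [not_infinite_iff_finite] at hn
    exact hfin (finite_minimalPrimes_of_faithfullyFlat (S := S) (Set.toFinite _))

/-- General form for an ind-étale strictly henselian local algebra whose residue field is algebraic over that of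
`A`. -/
theorem card_minimalPrimes_eq_numGeomBranches (h : Groth.Agent.CalgC.IndEtale.IsIndEtale A S)
    [IsSepClosed (ResidueField S)] [Algebra.IsAlgebraic (ResidueField A) (ResidueField S)] :
    ENat.card (minimalPrimes S) = numGeomBranches A := by
  have := HullBij.flat h
  have : Module.FaithfullyFlat A S := Module.FaithfullyFlat.of_flat_of_isLocalHom
  by_cases hfin : (minimalPrimes A).Finite
  · have := K580.Unibranch.isIntegral_normRed A
    rw [numGeomBranches_of_finite hfin, card_minimalPrimes_eq hfin h]
    refine (card_maximalSpectrum_of_isSepClosed (N := normRed A)).trans ?_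
    exact (card_sigma_embG A (normRed A)).symm
  · rw [numGeomBranches_of_not_finite hfin, ENat.card_eq_top]
    by_contra hn
    rw [not_infinite_iff_finite] at hn
    exact hfin (finite_minimalPrimes_of_faithfullyFlat (S := S) (Set.toFinite _))

end K580.CountHens

namespace K580.CountHens

open IsLocalRing Brnch

variable (A S : Type u) [CommRing A] [IsLocalRing A] [CommRing S] [IsLocalRing S] [Algebra A S]
    [IsLocalHom (algebraMap A S)]

/-- The number of minimal primes of a henselization. -/
theorem henselization [Hensel.IsHenselization A S] : ENat.card (minimalPrimes S) = numBranches A := by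
  have : HenselianLocalRing S := Hensel.IsHenselization.henselian (R := A)
  exact card_minimalPrimes_eq_numBranches A S (Groth.Agent.Hensel.Lazard.laz_of_isHenselization A S)
    (Groth.Agent.Hensel.Exist.residueField_bijective_of_isHenselization A S).2

/-- The number of minimal primes of a strict henselization. -/
theorem strictHenselization [Hensel.IsStrictHenselization A S] :
    ENat.card (minimalPrimes S) = numGeomBranches A := by
  have : HenselianLocalRing S := Hensel.IsStrictHenselization.henselian (R := A)
  have h2 : IsSepClosure (ResidueField A) (ResidueField S) := Hensel.IsStrictHenselization.isSepClosure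
  have h3 : IsSepClosed (ResidueField S) := h2.sep_closed
  have h4 : Algebra.IsSeparable (ResidueField A) (ResidueField S) := h2.separable
  have h5 : Algebra.IsAlgebraic (ResidueField A) (ResidueField S) := inferInstance
  exact card_minimalPrimes_eq_numGeomBranches A S (Groth.Agent.Hensel.Lazard.laz_of_isStrictHenselization A S)

end K580.CountHens
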