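import Groth.Agent.Brnch.K580.CountHens
import Groth.Agent.Flat2G.StrictHens
import Groth.Agent.Proet.WEtale2

/-!
# (Geometric) branches do not decrease along flat local homomorphisms

A local homomorphism `A → B` extends to (strict) henselizations; the extension is flat if `A → B` is.
-/

set_option autoImplicit false
universe u

noncomputable section

namespace K580.FlatLe

open CAlg2 IsLocalRing Brnch

/-- A ring map over `A` out of a local algebra `S` with `m_A S = m_S` is local. -/
theorem isLocalHom_of_comp {A S T : Type u} [CommRing A] [IsLocalRing A] [CommRing S] [IsLocalRing S]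
    [Algebra A S] [CommRing T] [IsLocalRing T] 
    (hm : (maximalIdeal A).map (algebraMap A S) = maximalIdeal S)
    (f : A →+* T) [IsLocalHom f] (g : S →+* T) (hg : g.comp (algebraMap A S) = f) : IsLocalHom g := by
  refine ⟨fun x hx => ?_⟩
  by_contra hn
  have h1 : x ∈ maximalIdeal S := (mem_maximalIdeal x).2 hn
  rw [← hm] at h1
  have h2 := Ideal.mem_map_of_mem g h1
  rw [Ideal.map_map, hg] at h2
  have h4 : (maximalIdeal A).map f ≤ maximalIdeal T :=
    ((IsLocalRing.local_hom_TFAE f).out 0 2).1 ‹IsLocalHom f›
  have h3 : g x ∈ maximalIdeal T := h4 h2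
  exact (mem_maximalIdeal _).1 h3 hx

/-- Flatness of a local extension of a flat map to an ind-étale algebra. -/
theorem faithfullyFlat_of_indEtale {A S T : Type u} [CommRing A] [CommRing S] [IsLocalRing S]
    [Algebra A S] [CommRing T] [IsLocalRing T] [Algebra A T] [Algebra S T] [IsScalarTower A S T]
    (h : Groth.Agent.CalgC.IndEtale.IsIndEtale A S)
    [IsLocalHom (algebraMap S T)] [Module.Flat A T] : Module.FaithfullyFlat S T := by
  have h1 : Algebra.WeaklyEtale A S := Groth.Agent.Flat2G.StrictHens.weaklyEtale_of_laz h
  have h2 : Module.Flat S T := Groth.Agent.Proet.WEtale2.flat_of_weaklyEtale_of_flat A S T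
  exact Module.FaithfullyFlat.of_flat_of_isLocalHom

/-- The faithfully flat extension to a henselization of `A` of a flat local homomorphism to a henselian ring. -/
theorem exists_hens {A S T : Type u} [CommRing A] [IsLocalRing A] [CommRing S] [IsLocalRing S]
    [Algebra A S] [IsLocalHom (algebraMap A S)] [Hensel.IsHenselization A S] [CommRing T]
    [HenselianLocalRing T] [Algebra A T] [IsLocalHom (algebraMap A T)] [Module.Flat A T]
    (g : S →+* T) (hg : g.comp (algebraMap A S) = algebraMap A T) :
    letI := g.toAlgebra; Module.FaithfullyFlat S T := by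
  have hloc : IsLocalHom g := isLocalHom_of_comp
    (Groth.Agent.Hensel.Exist.map_maximalIdeal_of_isHenselization A S) (algebraMap A T) g hg
  let _ := g.toAlgebra
  have : IsLocalHom (algebraMap S T) := hloc
  have : IsScalarTower A S T := IsScalarTower.of_algebraMap_eq' hg.symm
  exact faithfullyFlat_of_indEtale (A := A) (Groth.Agent.Hensel.Lazard.laz_of_isHenselization A S)

/-- The number of branches does not decrease along a flat local homomorphism. -/
theorem numBranches_le (A B : Type u) [CommRing A] [IsLocalRing A] [CommRing B] [IsLocalRing B]
    [Algebra A B] [IsLocalHom (algebraMap A B)] [Module.Flat A B] : numBranches A ≤ numBranches B := by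
  obtain ⟨S, _, _, _, _, hS, -⟩ := Groth.Agent.Hensel.Exist.exists_isHenselization (R := A)
  obtain ⟨T, _, _, _, _, hT, -⟩ := Groth.Agent.Hensel.Exist.exists_isHenselization (R := B)
  have := hT.henselian
  have := Groth.Agent.Hensel.Lazard.faithfullyFlat_of_isHenselization B T
  let _ : Algebra A T := ((algebraMap B T).comp (algebraMap A B)).toAlgebra
  have : IsScalarTower A B T := IsScalarTower.of_algebraMap_eq' rfl
  have : Module.Flat A T := Module.Flat.trans A B T
  have hl : IsLocalHom (algebraMap A T) := RingHom.isLocalHom_comp (algebraMap B T) (algebraMap A B)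
  obtain ⟨g, hg, -⟩ := hS.universal T (algebraMap A T) hl
  have h := exists_hens g hg
  let _ := g.toAlgebra
  rw [← CountHens.henselization A S, ← CountHens.henselization B T]
  exact CountHens.card_minimalPrimes_le

/-- The faithfully flat extension to a strict henselization of `A` of a flat local homomorphism to a
henselian ring. -/
theorem exists_strictHens {A S T : Type u} [CommRing A] [IsLocalRing A] [CommRing S] [IsLocalRing S]
    [Algebra A S] [IsLocalHom (algebraMap A S)] [Hensel.IsStrictHenselization A S] [CommRing T]
    [HenselianLocalRing T] [Algebra A T] [IsLocalHom (algebraMap A T)] [Module.Flat A T]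
    (g : S →+* T) (hg : g.comp (algebraMap A S) = algebraMap A T) :
    letI := g.toAlgebra; Module.FaithfullyFlat S T := by
  have hloc : IsLocalHom g := isLocalHom_of_comp
    (Groth.Agent.Hensel.Exist.map_maximalIdeal_of_isStrictHenselization A S) (algebraMap A T) g hg
  let _ := g.toAlgebra
  have : IsLocalHom (algebraMap S T) := hloc
  have : IsScalarTower A S T := IsScalarTower.of_algebraMap_eq' hg.symm
  exact faithfullyFlat_of_indEtale (A := A) (Groth.Agent.Hensel.Lazard.laz_of_isStrictHenselization A S)

/-- Any local homomorphism to a strictly henselian ring extends to the strict henselization. -/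
theorem exists_lift_strictHens {A S T : Type u} [CommRing A] [IsLocalRing A] [CommRing S] [IsLocalRing S]
    [Algebra A S] [IsLocalHom (algebraMap A S)] [hS : Hensel.IsStrictHenselization A S] [CommRing T]
    [HenselianLocalRing T] [IsSepClosed (ResidueField T)] [Algebra A T] [IsLocalHom (algebraMap A T)] :
    ∃ g : S →+* T, g.comp (algebraMap A S) = algebraMap A T := by
  have h0 : IsSepClosure (ResidueField A) (ResidueField S) := hS.isSepClosure
  have h1 : Algebra.IsSeparable (ResidueField A) (ResidueField S) := h0.separable
  let τ : ResidueField S →ₐ[ResidueField A] ResidueField T := IsSepClosed.lift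
  obtain ⟨g, ⟨hg, -⟩, -⟩ := hS.universal T (algebraMap A T) τ.toRingHom τ.comp_algebraMap
  exact ⟨g, hg⟩

/-- The number of geometric branches does not decrease along a flat local homomorphism. -/
theorem numGeomBranches_le (A B : Type u) [CommRing A] [IsLocalRing A] [CommRing B] [IsLocalRing B]
    [Algebra A B] [IsLocalHom (algebraMap A B)] [Module.Flat A B] :
    numGeomBranches A ≤ numGeomBranches B := by
  obtain ⟨S, _, _, _, _, hS, -⟩ := Groth.Agent.Hensel.Exist.exists_isStrictHenselization (R := A)
  obtain ⟨T, _, _, _, _, hT, -⟩ := Groth.Agent.Hensel.Exist.exists_isStrictHenselization (R := B)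
  have := hT.henselian
  have h0 : IsSepClosure (ResidueField B) (ResidueField T) := hT.isSepClosure
  have : IsSepClosed (ResidueField T) := h0.sep_closed
  have := Groth.Agent.Hensel.Lazard.faithfullyFlat_of_isStrictHenselization B T
  let _ : Algebra A T := ((algebraMap B T).comp (algebraMap A B)).toAlgebra
  have : IsScalarTower A B T := IsScalarTower.of_algebraMap_eq' rfl
  have : Module.Flat A T := Module.Flat.trans A B T
  have hl : IsLocalHom (algebraMap A T) := RingHom.isLocalHom_comp (algebraMap B T) (algebraMap A B)
  obtain ⟨g, hg⟩ := exists_lift_strictHens (A := A) (S := S) (T := T)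
  have h := exists_strictHens g hg
  let _ := g.toAlgebra
  rw [← CountHens.strictHenselization A S, ← CountHens.strictHenselization B T]
  exact CountHens.card_minimalPrimes_le

/-- A henselian local ring: the branches are the minimal primes. -/
theorem numBranches_of_henselian (A : Type u) [CommRing A] [HenselianLocalRing A] :
    numBranches A = ENat.card (minimalPrimes A) := by
  have h : Groth.Agent.CalgC.IndEtale.IsIndEtale A A :=
    Groth.Agent.CalgC.IndEtale.IsInd.of_self (Q := fun A E _ _ _ => Algebra.Etale A E) inferInstance
  refine (CountHens.card_minimalPrimes_eq_numBranches A A h ?_).symm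
  intro x
  obtain ⟨a, rfl⟩ := residue_surjective x
  exact ⟨residue A a, by simp⟩

end K580.FlatLe
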