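import Groth.Agent.Brnch.K580.FlatLe
import Groth.Agent.CurvesB.EtaleCompl
import Groth.Agent.Pi1A.LefExt
import Groth.Agent.Ega4A.CplFlat
import Groth.Agent.Hensel.EtaleNbhd

/-!
# Completion of a Noetherian local ring and its henselization

The comparison map `ψ : S → Â` from a henselization `S` of a Noetherian local ring `A` to the completion of
`A` identifies `Â` with the completion of `S`; in particular it is faithfully flat.
-/

set_option autoImplicit false
universe u

noncomputable section

namespace K580.Cpl

open CAlg2 IsLocalRing Brnch

variable (A : Type u) [CommRing A] [IsLocalRing A] [IsNoetherianRing A]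

/-- The completion of a Noetherian local ring is henselian. -/
theorem henselian : HenselianLocalRing (AdicCompletion (maximalIdeal A) A) := by
  have hc : IsAdicComplete (maximalIdeal (AdicCompletion (maximalIdeal A) A))
      (AdicCompletion (maximalIdeal A) A) := inferInstance
  exact Groth.Agent.Pi1A.LefExt.henselianLocalRing_of_isAdicComplete _

theorem isNoetherianRing : IsNoetherianRing (AdicCompletion (maximalIdeal A) A) :=
  Groth.Agent.Ega4A.CplFlat.isNoetherianRing_cpl A

theorem faithfullyFlat : Module.FaithfullyFlat A (AdicCompletion (maximalIdeal A) A) :=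
  Module.FaithfullyFlat.of_flat_of_isLocalHom

theorem numBranches_le : numBranches A ≤ numBranches (AdicCompletion (maximalIdeal A) A) :=
  FlatLe.numBranches_le A _

theorem numGeomBranches_le : numGeomBranches A ≤ numGeomBranches (AdicCompletion (maximalIdeal A) A) :=
  FlatLe.numGeomBranches_le A _

variable (S : Type u) [CommRing S] [IsLocalRing S] [Algebra A S] [IsLocalHom (algebraMap A S)]
    [Hensel.IsHenselization A S]

include A in
/-- A henselization of a Noetherian local ring is Noetherian. -/
theorem isNoetherianRing_henselization : IsNoetherianRing S := by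
  have := Groth.Agent.Hensel.Lazard.faithfullyFlat_of_isHenselization A S
  exact (Groth.Agent.Hensel.EtaleNbhd.isNoetherianRing_iff (R := A)
    (Groth.Agent.Hensel.Exist.isHull_of_isHenselization A S).exists_etale_finset).1 inferInstance

variable {A S} (ψ : S →+* AdicCompletion (maximalIdeal A) A)
    (hψ : ψ.comp (algebraMap A S) = algebraMap A (AdicCompletion (maximalIdeal A) A))

include hψ in
/-- `ψ` is faithfully flat. -/
theorem faithfullyFlat_comp : letI := ψ.toAlgebra; Module.FaithfullyFlat S (AdicCompletion (maximalIdeal A) A) := by
  have := henselian A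
  have hl : IsLocalHom (algebraMap A (AdicCompletion (maximalIdeal A) A)) := inferInstance
  have hf : Module.Flat A (AdicCompletion (maximalIdeal A) A) := inferInstance
  have := FlatLe.exists_hens (A := A) (S := S) (T := AdicCompletion (maximalIdeal A) A) ψ hψ
  exact this

include hψ in
theorem mapsTo : Set.MapsTo (Ideal.comap ψ) (minimalPrimes (AdicCompletion (maximalIdeal A) A)) (minimalPrimes S) := by
  have := faithfullyFlat_comp ψ hψ
  let _ := ψ.toAlgebra
  exact CountHens.mapsTo_comap_minimalPrimes (A := S) (S := AdicCompletion (maximalIdeal A) A)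

include hψ in
theorem surjOn : Set.SurjOn (Ideal.comap ψ) (minimalPrimes (AdicCompletion (maximalIdeal A) A)) (minimalPrimes S) := by
  have := faithfullyFlat_comp ψ hψ
  let _ := ψ.toAlgebra
  exact CountHens.surjective_comap_minimalPrimes (A := S) (S := AdicCompletion (maximalIdeal A) A)

include hψ in
/-- `ψ` identifies the completion of `A` with the completion of its henselization `S`. -/
theorem exists_ringEquiv : ∃ e : AdicCompletion (maximalIdeal A) A ≃+* AdicCompletion (maximalIdeal S) S,
    ∀ s, e (ψ s) = algebraMap S _ s := by
  have hS := isNoetherianRing_henselization A S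
  have hff := Groth.Agent.Hensel.Lazard.faithfullyFlat_of_isHenselization A S
  have hm := Groth.Agent.Hensel.Exist.map_maximalIdeal_of_isHenselization A S
  have hres : ∀ b : S, ∃ a : A, b - algebraMap A S a ∈ maximalIdeal S := by
    intro b
    obtain ⟨x, hx⟩ := (Groth.Agent.Hensel.Exist.residueField_bijective_of_isHenselization A S).2
      (residue S b)
    obtain ⟨a, rfl⟩ := residue_surjective x
    refine ⟨a, ?_⟩
    rw [ResidueField.map_residue] at hx
    rw [← residue_eq_zero_iff, map_sub, hx, sub_self]
  obtain ⟨e, he⟩ :=
    Groth.Agent.CurvesB.EtaleCompl.exists_completion_ringEquiv_of_flat (A := A) (B := S) hm hres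
  refine ⟨e, fun s => ?_⟩
  have hhens : HenselianLocalRing (AdicCompletion (maximalIdeal S) S) := henselian S
  have hl : IsLocalHom ((algebraMap S (AdicCompletion (maximalIdeal S) S)).comp (algebraMap A S)) :=
    RingHom.isLocalHom_comp _ _
  have huniq := (Hensel.IsHenselization.universal (R := A) (S := S) (AdicCompletion (maximalIdeal S) S)
    ((algebraMap S (AdicCompletion (maximalIdeal S) S)).comp (algebraMap A S)) hl).unique
    (y₁ := e.toRingHom.comp ψ) (y₂ := algebraMap S _) (by
      rw [RingHom.comp_assoc, hψ]
      ext1 a
      exact he a) rfl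
  exact DFunLike.congr_fun huniq s

end K580.Cpl
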