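import Groth.Agent.Brnch.K580.CountHens
import Groth.Agent.Brnch.K580.Cpl
import Groth.Agent.EtAlg.K361.ReducedWE
import Groth.Agent.Flat2G.StrictHens

/-!
# Minimal primes extended from the henselization
-/

set_option autoImplicit false
universe u

noncomputable section

namespace K580.ExtMin

open TensorProduct CAlg2 IsLocalRing Brnch K580.EmbCount K580.SumMin K580.HullBij K580.MaxTensor
  Groth.Agent.CalgC.IndEtale

/-- A surjective map between finite sets of the same cardinality is injective. -/
theorem injOn_of_surjOn {α β : Type*} (f : α → β) (s : Set α) (t : Set β) (hs : s.Finite)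
    (hm : Set.MapsTo f s t) (hf : Set.SurjOn f s t) (h : s.encard ≤ t.encard) : Set.InjOn f s := by
  have h1 : (f '' s) = t := subset_antisymm hm.image_subset hf
  have h2 : s.encard ≤ (f '' s).encard := h1 ▸ h
  exact hs.injOn_of_encard_image_eq (le_antisymm (Set.encard_image_le f s) h2)

theorem eq_map_comap_iff {B C : Type u} [CommRing B] [CommRing C] [Algebra B C] (h : IsIndEtale B C)
    [Module.FaithfullyFlat B C] (hfin : (minimalPrimes C).Finite) :
    (∀ Q ∈ minimalPrimes C, Q = Ideal.map (algebraMap B C) (Q.comap (algebraMap B C))) ↔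
      ENat.card (minimalPrimes C) = ENat.card (minimalPrimes B) := by
  constructor
  · intro h1
    have h2 : Set.BijOn (Ideal.comap (algebraMap B C)) (minimalPrimes C) (minimalPrimes B) := by
      refine ⟨CountHens.mapsTo_comap_minimalPrimes, ?_, CountHens.surjective_comap_minimalPrimes⟩
      intro P hP Q hQ hPQ
      have hPQ' : P.comap (algebraMap B C) = Q.comap (algebraMap B C) := hPQ
      rw [h1 P hP, h1 Q hQ, hPQ']
    exact ENat.card_congr (h2.equiv _)
  · intro hcard
    have hinj : Set.InjOn (Ideal.comap (algebraMap B C)) (minimalPrimes C) :=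
      injOn_of_surjOn _ _ _ hfin CountHens.mapsTo_comap_minimalPrimes
        CountHens.surjective_comap_minimalPrimes (le_of_eq hcard)
    intro Q hQ
    have hQp : Q.IsPrime := hQ.1.1
    have hqm : Q.comap (algebraMap B C) ∈ minimalPrimes B := CountHens.mapsTo_comap_minimalPrimes hQ
    have hq : (Q.comap (algebraMap B C)).IsPrime := Ideal.comap_isPrime _ _
    generalize hqq : Q.comap (algebraMap B C) = q at *
    let J : Ideal C := q.map (algebraMap B C)
    have hJQ : J ≤ Q := by
      rw [Ideal.map_le_iff_le_comap, hqq]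
    have hrad : J.IsRadical := by
      have hdom : IsDomain (B ⧸ q) := inferInstance
      have hred : IsReduced (B ⧸ q) := inferInstance
      have hwe : Algebra.WeaklyEtale (B ⧸ q) ((B ⧸ q) ⊗[B] C) :=
        Groth.Agent.Flat2G.StrictHens.weaklyEtale_of_laz
          (IsInd.baseChange isGood_etale ((isIndEtale_iff B C).1 h) (B ⧸ q))
      have hr : IsReduced ((B ⧸ q) ⊗[B] C) := K361.ReducedWE.isReduced (B ⧸ q) _
      have hr' : IsReduced (C ⧸ J) :=
        isReduced_of_injective (Algebra.TensorProduct.quotIdealMapEquivQuotTensor C q).toRingEquiv.toRingHom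
          (Algebra.TensorProduct.quotIdealMapEquivQuotTensor C q).injective
      exact (Ideal.isRadical_iff_quotient_reduced J).2 hr'
    refine le_antisymm ?_ hJQ
    intro x hx
    change x ∈ J
    rw [← hrad.radical, Ideal.radical_eq_sInf, Ideal.mem_sInf]
    rintro P ⟨hJP, hP⟩
    have hle : q ≤ P.comap (algebraMap B C) := Ideal.map_le_iff_le_comap.1 hJP
    have : P.LiesOver (P.comap (algebraMap B C)) := ⟨rfl⟩
    have hp' : (P.comap (algebraMap B C)).IsPrime := Ideal.comap_isPrime _ _
    obtain ⟨Q₁, hQ₁P, hQ₁, hQ₁q⟩ := Ideal.exists_ideal_le_liesOver_of_le (R := B) P hle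
    obtain ⟨Q₀, hQ₀, hQ₀Q₁⟩ := Ideal.exists_minimalPrimes_le (bot_le : (⊥ : Ideal C) ≤ Q₁)
    have hQ₀p : Q₀.IsPrime := hQ₀.1.1
    have h3 : Q₀.comap (algebraMap B C) ≤ q := by
      rw [hQ₁q.over]
      exact Ideal.comap_mono hQ₀Q₁
    have h4 : Q₀.comap (algebraMap B C) = q :=
      le_antisymm h3 (hqm.2 ⟨Ideal.comap_isPrime _ _, bot_le⟩ h3)
    have h5 : Q₀ = Q := hinj hQ₀ hQ (h4.trans hqq.symm)
    exact hQ₁P (hQ₀Q₁ (h5 ▸ hx))

section HomOver

variable (A : Type u) [CommRing A] [IsLocalRing A] (N : Type u) [CommRing N] [Algebra A N]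
  [Algebra.IsIntegral A N]

/-- All residue field extensions are purely inseparable iff there are as many geometric points as maximal
ideals. -/
theorem forall_subsingleton_iff (hfin : Finite (MaximalSpectrum N)) (hfin' : Finite (HomOver A N)) :
    (∀ m : MaximalSpectrum N, Subsingleton (EmbG A (resAt A N m))) ↔
      ENat.card (HomOver A N) = ENat.card (MaximalSpectrum N) := by
  have hne : ∀ m : MaximalSpectrum N, Nonempty (EmbG A (resAt A N m)) := fun m => by
    have hm : m.asIdeal.IsMaximal := m.isMaximal
    let := Ideal.Quotient.field m.asIdeal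
    refine K580.Unibranch.nonempty_embG (resAt A N m) ?_ ?_
    · intro a ha
      have h1 : (m.asIdeal.comap (algebraMap A N)).IsMaximal := Ideal.isMaximal_comap_of_isIntegral_of_isMaximal _
      rw [← IsLocalRing.eq_maximalIdeal h1] at ha
      exact Ideal.Quotient.eq_zero_iff_mem.2 ha
    · intro x
      obtain ⟨x, rfl⟩ := Ideal.Quotient.mk_surjective x
      obtain ⟨p, hp, hpx⟩ := Algebra.IsIntegral.isIntegral (R := A) x
      refine ⟨p, hp, ?_⟩
      have h1 := Polynomial.hom_eval₂ p (algebraMap A N) (Ideal.Quotient.mk m.asIdeal) x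
      rw [hpx, map_zero] at h1
      exact h1.symm
  rw [← card_sigma_embG A N]
  have hcard : ENat.card (Σ m : MaximalSpectrum N, EmbG A (resAt A N m)) = ENat.card (HomOver A N) :=
    card_sigma_embG A N
  have hfs : Finite (Σ m : MaximalSpectrum N, EmbG A (resAt A N m)) := by
    rw [← ENat.card_lt_top, hcard, ENat.card_lt_top]
    exact hfin'
  have hsurj : Function.Surjective
      (Sigma.fst : (Σ m : MaximalSpectrum N, EmbG A (resAt A N m)) → MaximalSpectrum N) :=
    fun m => ⟨⟨m, (hne m).some⟩, rfl⟩
  constructor
  · intro h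
    refine ENat.card_congr (Equiv.ofBijective Sigma.fst ⟨?_, hsurj⟩)
    rintro ⟨m, σ⟩ ⟨n, τ⟩ hmn
    obtain rfl : m = n := hmn
    have := h m
    rw [Subsingleton.elim σ τ]
  · intro h
    have hinj : Function.Injective
        (Sigma.fst : (Σ m : MaximalSpectrum N, EmbG A (resAt A N m)) → MaximalSpectrum N) := by
      rw [← Set.injOn_univ]
      refine injOn_of_surjOn _ _ Set.univ Set.finite_univ (Set.mapsTo_univ _ _) ?_ ?_
      · intro y _
        obtain ⟨x, hx⟩ := hsurj y
        exact ⟨x, trivial, hx⟩
      · rw [Set.encard_univ, Set.encard_univ, h]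
    intro m
    refine ⟨fun σ τ => ?_⟩
    have h1 := @hinj ⟨m, σ⟩ ⟨m, τ⟩ rfl
    exact eq_of_heq (Sigma.mk.inj h1).2

end HomOver

/-- For reduced `A` the ring `normRed A` is the integral closure of `A` in its total ring of fractions. -/
theorem exists_algEquiv_normRed (A : Type u) [CommRing A] [IsReduced A] :
    Nonempty (integralClosure A (FractionRing A) ≃ₐ[A] normRed A) := by
  have hbot : nilradical A = ⊥ := nilradical_eq_bot_iff.mpr inferInstance
  let e0 : A ≃+* red A := (RingEquiv.quotientBot A).symm.trans (Ideal.quotEquivOfEq hbot.symm)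
  have he0 : ∀ a, e0 a = Ideal.Quotient.mk (nilradical A) a := fun a => rfl
  have : IsFractionRing A (FractionRing (red A)) := by
    refine IsFractionRing.of_ringEquiv_left e0 (fun x => ?_)
    rw [he0, IsScalarTower.algebraMap_apply A (red A) (FractionRing (red A))]
    rfl
  have hmem : ∀ x : FractionRing (red A), IsIntegral (red A) x ↔ IsIntegral A x :=
    K580.NormRed.isIntegral_iff_of_surjective Ideal.Quotient.mk_surjective
  let e1 : FractionRing A ≃ₐ[A] FractionRing (red A) := IsLocalization.algEquiv (nonZeroDivisors A) _ _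
  let e2 : (integralClosure A (FractionRing (red A))) ≃ₐ[A] (integralClosure (red A) (FractionRing (red A))) :=
    { toFun := fun x => ⟨x.1, (hmem _).mpr x.2⟩
      invFun := fun x => ⟨x.1, (hmem _).mp x.2⟩
      left_inv := fun x => rfl
      right_inv := fun x => rfl
      map_mul' := fun x y => rfl
      map_add' := fun x y => rfl
      commutes' := fun a => by
        apply Subtype.ext
        change algebraMap A (FractionRing (red A)) a = (algebraMap A (normRed A) a).1
        rw [IsScalarTower.algebraMap_apply A (red A) (FractionRing (red A))]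
        rfl }
  exact ⟨(e1.mapIntegralClosure).trans e2⟩

/-- Invariance of `HomOver`. -/
theorem card_homOver_congr (A : Type u) [CommRing A] [IsLocalRing A] {N N' : Type u} [CommRing N] [CommRing N']
    [Algebra A N] [Algebra A N'] (e : N ≃ₐ[A] N') : ENat.card (HomOver A N) = ENat.card (HomOver A N') := by
  refine ENat.card_congr
    { toFun := fun ρ => ⟨ρ.1.comp (e.symm : N' →+* N), ?_⟩
      invFun := fun ρ => ⟨ρ.1.comp (e : N →+* N'), ?_⟩
      left_inv := fun ρ => Subtype.ext (RingHom.ext fun x => congrArg ρ.1 (e.symm_apply_apply x))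
      right_inv := fun ρ => Subtype.ext (RingHom.ext fun x => congrArg ρ.1 (e.apply_symm_apply x)) }
  · rw [RingHom.comp_assoc]
    have : (e.symm : N' →+* N).comp (algebraMap A N') = algebraMap A N := RingHom.ext fun a => e.symm.commutes a
    rw [this]
    exact ρ.2
  · rw [RingHom.comp_assoc]
    have : (e : N →+* N').comp (algebraMap A N) = algebraMap A N' := RingHom.ext fun a => e.commutes a
    rw [this]
    exact ρ.2

theorem card_maximalSpectrum_congr {N N' : Type u} [CommRing N] [CommRing N'] (e : N ≃+* N') :
    ENat.card (MaximalSpectrum N) = ENat.card (MaximalSpectrum N') := by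
  have key : ∀ {N N' : Type u} [CommRing N] [CommRing N'] (e : N ≃+* N') (m : MaximalSpectrum N),
      (m.asIdeal.comap (e.symm : N' →+* N)).IsMaximal := fun e m => by
    have := m.isMaximal
    exact Ideal.comap_isMaximal_of_surjective _ e.symm.surjective
  refine ENat.card_congr
    { toFun := fun m => ⟨m.asIdeal.comap (e.symm : N' →+* N), key e m⟩
      invFun := fun m => ⟨m.asIdeal.comap (e : N →+* N'), key e.symm m⟩
      left_inv := fun m => MaximalSpectrum.ext (by
        ext x
        change e.symm (e x) ∈ m.asIdeal ↔ x ∈ m.asIdeal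
        rw [e.symm_apply_apply])
      right_inv := fun m => MaximalSpectrum.ext (by
        ext x
        change e (e.symm x) ∈ m.asIdeal ↔ x ∈ m.asIdeal
        rw [e.apply_symm_apply]) }

/-- The main statement. -/
theorem main (A Ah Ash : Type u) [CommRing A] [IsLocalRing A] [IsReduced A] [IsNoetherianRing A]
    [CommRing Ah] [IsLocalRing Ah] [Algebra A Ah] [IsLocalHom (algebraMap A Ah)]
    [Hensel.IsHenselization A Ah]
    [CommRing Ash] [IsLocalRing Ash] [Algebra A Ash] [IsLocalHom (algebraMap A Ash)]
    [Hensel.IsStrictHenselization A Ash] [Algebra Ah Ash] [IsScalarTower A Ah Ash] :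
    (∀ (M : Ideal (integralClosure A (FractionRing A))) [M.IsMaximal],
      ∀ x : (integralClosure A (FractionRing A)) ⧸ M, ∃ n : ℕ,
        x ^ (ringExpChar ((integralClosure A (FractionRing A)) ⧸ M)) ^ n ∈
          ((Ideal.Quotient.mk M).comp (algebraMap A (integralClosure A (FractionRing A)))).range) ↔
      (∀ Q ∈ minimalPrimes Ash, Q = Ideal.map (algebraMap Ah Ash) (Q.comap (algebraMap Ah Ash))) := by
  have hNAh : IsNoetherianRing Ah := Cpl.isNoetherianRing_henselization A Ah
  have hNAsh : IsNoetherianRing Ash := by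
    have := Groth.Agent.Hensel.Lazard.faithfullyFlat_of_isStrictHenselization A Ash
    exact (Groth.Agent.Hensel.EtaleNbhd.isNoetherianRing_iff (R := A)
      (Groth.Agent.Hensel.Exist.isHull_of_isStrictHenselization A Ash).exists_etale_finset).1 inferInstance
  have hAh := Groth.Agent.Hensel.Lazard.laz_of_isHenselization A Ah
  have hAsh := Groth.Agent.Hensel.Lazard.laz_of_isStrictHenselization A Ash
  have hind : IsIndEtale Ah Ash :=
    IsInd.cancel isGood_etale hAh ((isIndEtale_iff A Ash).1 hAsh)
  have hflA : Module.Flat A Ash := HullBij.flat hAsh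
  have hloc : IsLocalHom (algebraMap Ah Ash) := FlatLe.isLocalHom_of_comp
    (Groth.Agent.Hensel.Exist.map_maximalIdeal_of_isHenselization A Ah) (algebraMap A Ash)
    (algebraMap Ah Ash) (IsScalarTower.algebraMap_eq A Ah Ash).symm
  have hff : Module.FaithfullyFlat Ah Ash := FlatLe.faithfullyFlat_of_indEtale hAh
  have hfin : (minimalPrimes A).Finite := minimalPrimes.finite_of_isNoetherianRing A
  have hfinh : (minimalPrimes Ah).Finite := minimalPrimes.finite_of_isNoetherianRing Ah
  have hfinsh : (minimalPrimes Ash).Finite := minimalPrimes.finite_of_isNoetherianRing Ash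
  rw [eq_map_comap_iff hind hfinsh, CountHens.henselization A Ah, CountHens.strictHenselization A Ash]
  obtain ⟨e⟩ := exists_algEquiv_normRed A
  have hintN : Algebra.IsIntegral A (normRed A) := K580.Unibranch.isIntegral_normRed A
  have c1 : numBranches A = ENat.card (MaximalSpectrum (integralClosure A (FractionRing A))) := by
    rw [numBranches_of_finite hfin, card_maximalSpectrum_congr e.toRingEquiv]
  have c2 : numGeomBranches A = ENat.card (HomOver A (integralClosure A (FractionRing A))) := by
    rw [numGeomBranches_of_finite hfin, card_homOver_congr A e]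
    exact card_sigma_embG A (normRed A)
  have f1 : Finite (MaximalSpectrum (integralClosure A (FractionRing A))) := by
    rw [← ENat.card_lt_top, ← c1, ← CountHens.henselization A Ah]
    exact hfinh.encard_lt_top
  have f2 : Finite (HomOver A (integralClosure A (FractionRing A))) := by
    rw [← ENat.card_lt_top, ← c2, ← CountHens.strictHenselization A Ash]
    exact hfinsh.encard_lt_top
  rw [c1, c2, ← forall_subsingleton_iff A (integralClosure A (FractionRing A)) f1 f2]
  have key : ∀ m : MaximalSpectrum (integralClosure A (FractionRing A)),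
      (Subsingleton (EmbG A (resAt A (integralClosure A (FractionRing A)) m)) ↔
      ∀ x : (integralClosure A (FractionRing A)) ⧸ m.asIdeal, ∃ n : ℕ,
        x ^ (ringExpChar ((integralClosure A (FractionRing A)) ⧸ m.asIdeal)) ^ n ∈
          ((Ideal.Quotient.mk m.asIdeal).comp
            (algebraMap A (integralClosure A (FractionRing A)))).range) := fun m => by
    have hm : m.asIdeal.IsMaximal := m.isMaximal
    let := Ideal.Quotient.field m.asIdeal
    refine K580.Unibranch.subsingleton_embG_iff (resAt A (integralClosure A (FractionRing A)) m) ?_ ?_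
    · intro a ha
      have h1 : (m.asIdeal.comap (algebraMap A (integralClosure A (FractionRing A)))).IsMaximal :=
        Ideal.isMaximal_comap_of_isIntegral_of_isMaximal _
      rw [← IsLocalRing.eq_maximalIdeal h1] at ha
      exact Ideal.Quotient.eq_zero_iff_mem.2 ha
    · intro x
      obtain ⟨x, rfl⟩ := Ideal.Quotient.mk_surjective x
      obtain ⟨p, hp, hpx⟩ := Algebra.IsIntegral.isIntegral (R := A) x
      refine ⟨p, hp, ?_⟩
      have h1 := Polynomial.hom_eval₂ p (algebraMap A (integralClosure A (FractionRing A)))
        (Ideal.Quotient.mk m.asIdeal) x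
      rw [hpx, map_zero] at h1
      exact h1.symm
  constructor
  · intro h m
    have := m.isMaximal
    exact (key m).2 (h m.asIdeal)
  · intro h M hM
    exact (key ⟨M, hM⟩).1 (h _)

end K580.ExtMin
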