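import Groth.Agent.Brnch.K580.HullBij
import Groth.Agent.Brnch.K580.ExtMin
import Mathlib.RingTheory.QuasiFinite.Basic
import Mathlib.RingTheory.Artinian.Ring

/-!
# Algebras algebraic over a reduced Noetherian ring
-/

set_option autoImplicit false
universe u

noncomputable section

namespace K580.AlgOver

open TensorProduct IsLocalRing Groth.Agent.CalgC.IndEtale

section Base

variable (A : Type u) [CommRing A] [IsNoetherianRing A] [IsReduced A]

theorem mem_minimalPrimes (p : Ideal A) [hp : p.IsPrime] (h : ∀ s ∈ nonZeroDivisors A, s ∉ p) :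
    p ∈ minimalPrimes A := by
  classical
  have hfin : (minimalPrimes A).Finite := minimalPrimes.finite_of_isNoetherianRing A
  by_contra hn
  have key : ¬ ((p : Set A) ⊆ ⋃ i ∈ (↑hfin.toFinset : Set (Ideal A)), (i : Set A)) := by
    intro hsub
    have := (Ideal.subset_union_prime (R := A) (s := hfin.toFinset) (f := fun i => i) ⊥ ⊥
      (fun i hi _ _ => ((hfin.mem_toFinset.1 hi).1.1 : i.IsPrime)) (I := p)).1 hsub
    obtain ⟨i, hi, hle⟩ := this
    have hi' := hfin.mem_toFinset.1 hi
    have : i ≤ p := hi'.2 ⟨hp, bot_le⟩ hle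
    exact hn ((le_antisymm hle this) ▸ hi')
  rw [Set.not_subset] at key
  obtain ⟨s, hsp, hs⟩ := key
  refine h s ?_ hsp
  rw [mem_nonZeroDivisors_iff_right]
  intro x hx
  have hnil : sInf (minimalPrimes A) = ⊥ := by
    rw [minimalPrimes, Ideal.sInf_minimalPrimes]
    exact nilradical_eq_zero A
  rw [← Ideal.mem_bot, ← hnil, Ideal.mem_sInf]
  intro q hq
  have hqp : q.IsPrime := hq.1.1
  have h0 : x * s ∈ q := by rw [hx]; exact q.zero_mem
  rcases hqp.mem_or_mem h0 with h1 | h1
  · exact h1
  · exact absurd (Set.mem_biUnion (hfin.mem_toFinset.2 hq) h1) hs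

theorem isArtinianRing_fractionRing : IsArtinianRing (FractionRing A) := by
  rw [isArtinianRing_iff_isNoetherianRing_krullDimLE_zero]
  refine ⟨inferInstance, Ring.krullDimLE_zero_iff.2 fun I hI => ?_⟩
  obtain ⟨M, hM, hIM⟩ := Ideal.exists_le_maximal I hI.ne_top
  have h1 : ∀ J : Ideal (FractionRing A), J.IsPrime → J.comap (algebraMap A (FractionRing A)) ∈ minimalPrimes A := by
    intro J hJ
    have : (J.comap (algebraMap A (FractionRing A))).IsPrime := Ideal.comap_isPrime _ _
    refine mem_minimalPrimes A _ fun s hs hsJ => ?_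
    have h2 : IsUnit (algebraMap A (FractionRing A) s) :=
      IsLocalization.map_units (FractionRing A) (⟨s, hs⟩ : nonZeroDivisors A)
    exact hJ.ne_top (Ideal.eq_top_of_isUnit_mem _ hsJ h2)
  have h3 : I.comap (algebraMap A (FractionRing A)) = M.comap (algebraMap A (FractionRing A)) := by
    have h4 := Ideal.comap_mono (f := algebraMap A (FractionRing A)) hIM
    exact le_antisymm h4 ((h1 M hM.isPrime).2 ⟨Ideal.comap_isPrime _ _, bot_le⟩ h4)
  have h5 := congrArg (Ideal.map (algebraMap A (FractionRing A))) h3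
  rw [IsLocalization.map_under (nonZeroDivisors A), IsLocalization.map_under (nonZeroDivisors A)] at h5
  rw [h5]
  exact hM

end Base

/-- Every element becomes integral after multiplication with a nonzerodivisor of the base. -/
def IsAlgOver (A D : Type u) [CommRing A] [CommRing D] [Algebra A D] : Prop :=
  ∀ d : D, ∃ a ∈ nonZeroDivisors A, IsIntegral A (algebraMap A D a * d)

section Etale

variable {A : Type u} [CommRing A] [IsNoetherianRing A] [IsReduced A]

theorem algOver_of_quasiFinite (E : Type u) [CommRing E] [Algebra A E] [Algebra.QuasiFinite A E]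
    [Module.Flat A E] : IsAlgOver A E := by
  intro e
  have := isArtinianRing_fractionRing A
  let F := FractionRing A
  have h1 : Module.Finite F (F ⊗[A] E) := Module.Finite.of_quasiFinite
  have h2 : IsIntegral F ((1 : F) ⊗ₜ[A] e) := Algebra.IsIntegral.isIntegral _
  obtain ⟨m, hm⟩ := IsIntegral.exists_multiple_integral_of_isLocalization (nonZeroDivisors A) _ h2
  refine ⟨m, m.2, ?_⟩
  have hinj : Function.Injective (Algebra.TensorProduct.includeRight : E →ₐ[A] F ⊗[A] E) := by
    have h := Module.Flat.rTensor_preserves_injective_linearMap (M := E)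
      (Algebra.linearMap A F) (IsFractionRing.injective A F)
    intro x y hxy
    have h2 : ((1 : A) ⊗ₜ[A] x) = (1 : A) ⊗ₜ[A] y := by
      apply h
      simpa using hxy
    have h3 := congrArg (TensorProduct.lid A E) h2
    simpa using h3
  rw [← isIntegral_algHom_iff (Algebra.TensorProduct.includeRight : E →ₐ[A] F ⊗[A] E) hinj]
  have h3 : (Algebra.TensorProduct.includeRight : E →ₐ[A] F ⊗[A] E) (algebraMap A E m * e) =
      m • ((1 : F) ⊗ₜ[A] e) := by
    rw [← Algebra.smul_def, map_smul]
    rfl
  rw [h3]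
  exact hm

theorem algOver_of_isIndEtale {S : Type u} [CommRing S] [Algebra A S] (h : IsIndEtale A S) : IsAlgOver A S := by
  intro s
  obtain ⟨E, _, _, hE, χ, hχ⟩ := IsIndP.exists_stage_of_finite ((isIndEtale_iff A S).1 h) {s}
    (Set.finite_singleton s)
  obtain ⟨e, he⟩ := hχ (Set.mem_singleton s)
  obtain ⟨a, ha, hae⟩ := algOver_of_quasiFinite (A := A) E e
  refine ⟨a, ha, ?_⟩
  have h1 := hae.map χ
  rwa [map_mul, χ.commutes, he] at h1

end Etale

section Sub

variable {A D : Type u} [CommRing A] [CommRing D] [Algebra A D]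

theorem IsAlgOver.of_injective {S : Type u} [CommRing S] [Algebra A S] (h : IsAlgOver A S) (f : D →ₐ[A] S)
    (hf : Function.Injective f) : IsAlgOver A D := by
  intro d
  obtain ⟨a, ha, had⟩ := h (f d)
  refine ⟨a, ha, ?_⟩
  rw [← isIntegral_algHom_iff f hf, map_mul, f.commutes]
  exact had

/-- Primes avoiding the nonzerodivisors of the base are minimal. -/
theorem IsAlgOver.mem_minimalPrimes [IsNoetherianRing A] [IsReduced A] (h : IsAlgOver A D) (P : Ideal D) [hP : P.IsPrime]
    (hPA : ∀ a ∈ nonZeroDivisors A, algebraMap A D a ∉ P) : P ∈ minimalPrimes D := by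
  refine ⟨⟨hP, bot_le⟩, ?_⟩
  rintro Q ⟨hQ, -⟩ hle
  have hp : P.comap (algebraMap A D) ∈ minimalPrimes A := by
    have : (P.comap (algebraMap A D)).IsPrime := Ideal.comap_isPrime _ _
    exact K580.AlgOver.mem_minimalPrimes A _ hPA
  have h1 : Q.comap (algebraMap A D) ≤ P.comap (algebraMap A D) := Ideal.comap_mono hle
  have h2 : P.comap (algebraMap A D) ≤ Q.comap (algebraMap A D) := hp.2 ⟨Ideal.comap_isPrime _ _, bot_le⟩ h1
  intro x hx
  by_contra hxQ
  obtain ⟨a, ha, hax⟩ := h x
  have h3 : algebraMap A D a * x ∈ (P : Set D) \ Q := by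
    refine ⟨P.mul_mem_left _ hx, fun h4 => ?_⟩
    rcases hQ.mem_or_mem h4 with h5 | h5
    · exact hPA a ha (hle h5)
    · exact hxQ h5
  have h6 := Ideal.comap_lt_comap_of_integral_mem_sdiff hle h3 hax
  exact absurd h2 (not_le_of_gt h6)

/-- Nonzerodivisors divide nonzerodivisors of the base. -/
theorem IsAlgOver.exists_mul_eq [IsNoetherianRing A] [IsReduced A] (h : IsAlgOver A D) (d : D)
    (hd : d ∈ nonZeroDivisors D) : ∃ d' : D, ∃ a ∈ nonZeroDivisors A, d * d' = algebraMap A D a := by
  by_contra hn
  push Not at hn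
  have hdisj : Disjoint ((Ideal.span {d} : Ideal D) : Set D)
      ((Algebra.algebraMapSubmonoid D (nonZeroDivisors A) : Submonoid D) : Set D) := by
    rw [Set.disjoint_left]
    rintro x hx ⟨a, ha, rfl⟩
    obtain ⟨d', hd'⟩ := Ideal.mem_span_singleton.1 hx
    exact hn d' a ha hd'.symm
  obtain ⟨P, hP, hdP, hPd⟩ := Ideal.exists_le_prime_disjoint _ _ hdisj
  have h1 : P ∈ minimalPrimes D := h.mem_minimalPrimes P fun a ha haP =>
    Set.disjoint_left.1 hPd haP ⟨a, ha, rfl⟩
  exact (Ideal.disjoint_nonZeroDivisors_of_mem_minimalPrimes h1).le_bot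
    ⟨hdP (Ideal.mem_span_singleton_self d), hd⟩

end Sub

section Norm

/-- A nonzerodivisor stays one in flat algebras. -/
theorem map_mem_nonZeroDivisors {A S : Type*} [CommRing A] [CommRing S] [Algebra A S] [Module.Flat A S] (a : A)
    (ha : a ∈ nonZeroDivisors A) : algebraMap A S a ∈ nonZeroDivisors S := by
  rw [mem_nonZeroDivisors_iff_right]
  intro x hx
  have h1 : IsSMulRegular S a := Module.Flat.isSMulRegular_of_nonZeroDivisors ha
  apply h1
  change a • x = a • 0
  rw [smul_zero, Algebra.smul_def, mul_comm, hx]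

/-- Identification of a normalization inside the total ring of fractions of a flat algebra `S`. -/
theorem exists_equiv {A D S K : Type u} [CommRing A] [IsNoetherianRing A] [IsReduced A] [CommRing D] [CommRing S]
    [CommRing K] [Algebra A D] [Algebra A S] [Module.Flat A S] [Algebra D S] [IsScalarTower A D S]
    [Algebra S K] [IsFractionRing S K] [Algebra A K] [IsScalarTower A S K] [Algebra D K] [IsScalarTower D S K]
    (hD : IsAlgOver A D) (hinj : Function.Injective (algebraMap D S))
    {N' : Type u} [CommRing N'] (j : N' →+* K) (hj : Function.Injective j)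
    (hN' : ∀ x : K, x ∈ j.range ↔ (IsIntegral D x ∧
      ∃ a ∈ nonZeroDivisors A, ∃ d : D, algebraMap A K a * x = algebraMap D K d)) :
    ∃ e : integralClosure D (FractionRing D) ≃+* N', ∀ d : D,
      j (e (algebraMap D (integralClosure D (FractionRing D)) d)) = algebraMap D K d := by
  have hAS : ∀ a ∈ nonZeroDivisors A, algebraMap A S a ∈ nonZeroDivisors S := fun a ha =>
    map_mem_nonZeroDivisors a ha
  have hKA : ∀ a ∈ nonZeroDivisors A, IsUnit (algebraMap A K a) := fun a ha => by
    rw [IsScalarTower.algebraMap_apply A S K]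
    exact IsLocalization.map_units K (⟨_, hAS a ha⟩ : nonZeroDivisors S)
  have hAD : ∀ a : A, algebraMap D K (algebraMap A D a) = algebraMap A K a := fun a => by
    rw [IsScalarTower.algebraMap_apply D S K, ← IsScalarTower.algebraMap_apply A D S,
      ← IsScalarTower.algebraMap_apply A S K]
  have hDK : ∀ d : nonZeroDivisors D, IsUnit (algebraMap D K d) := fun d => by
    obtain ⟨d', a, ha, hda⟩ := hD.exists_mul_eq d d.2
    have h1 := hKA a ha
    rw [← hAD, ← hda, map_mul] at h1
    exact isUnit_of_mul_isUnit_left h1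
  have hDinj : Function.Injective (algebraMap D K) := by
    rw [IsScalarTower.algebraMap_eq D S K]
    exact (IsFractionRing.injective S K).comp hinj
  let φ : FractionRing D →ₐ[D] K :=
    IsLocalization.liftAlgHom (M := nonZeroDivisors D) (f := Algebra.ofId D K) hDK
  have hφinj : Function.Injective φ := by
    rw [injective_iff_map_eq_zero]
    intro x hx
    obtain ⟨d, s, rfl⟩ := IsLocalization.exists_mk'_eq (nonZeroDivisors D) x
    have h1 : φ (IsLocalization.mk' (FractionRing D) d s * algebraMap D (FractionRing D) s) = 0 := by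
      rw [map_mul, hx, zero_mul]
    rw [IsLocalization.mk'_spec, φ.commutes, ← map_zero (algebraMap D K)] at h1
    rw [hDinj h1, IsLocalization.mk'_zero]
  have hrange : ∀ x : FractionRing D, φ x ∈ j.range ↔ IsIntegral D x := by
    intro x
    rw [hN', isIntegral_algHom_iff φ hφinj, and_iff_left_iff_imp]
    intro _
    obtain ⟨d, s, rfl⟩ := IsLocalization.exists_mk'_eq (nonZeroDivisors D) x
    obtain ⟨d', a, ha, hda⟩ := hD.exists_mul_eq s s.2
    refine ⟨a, ha, d' * d, ?_⟩
    rw [← hAD, ← hda, ← φ.commutes, ← φ.commutes, ← map_mul φ]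
    congr 1
    rw [map_mul, map_mul, mul_comm (algebraMap D (FractionRing D) _), mul_assoc,
      mul_comm (algebraMap D (FractionRing D) _) (IsLocalization.mk' _ _ _), IsLocalization.mk'_spec]
  have hsurj : ∀ y : N', ∃ x : FractionRing D, φ x = j y := by
    intro y
    obtain ⟨-, a, ha, d, had⟩ := (hN' (j y)).1 ⟨y, rfl⟩
    have haD : algebraMap A D a ∈ nonZeroDivisors D := by
      rw [mem_nonZeroDivisors_iff_right]
      intro z hz
      apply hinj
      rw [map_zero]
      refine (mem_nonZeroDivisors_iff_right.1 (hAS a ha)) _ ?_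
      rw [IsScalarTower.algebraMap_apply A D S, ← map_mul, hz, map_zero]
    refine ⟨IsLocalization.mk' (FractionRing D) d (⟨algebraMap A D a, haD⟩ : nonZeroDivisors D), ?_⟩
    have h1 := hKA a ha
    apply h1.mul_right_injective
    change algebraMap A K a * _ = algebraMap A K a * _
    rw [had, ← hAD, ← φ.commutes, ← φ.commutes, ← map_mul φ]
    congr 1
    rw [mul_comm]
    exact IsLocalization.mk'_spec _ d (⟨algebraMap A D a, haD⟩ : nonZeroDivisors D)
  choose g hg using fun x : integralClosure D (FractionRing D) => (hrange x.1).2 x.2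
  have hginj : Function.Injective g := fun x y hxy => by
    apply Subtype.ext
    apply hφinj
    rw [← hg, ← hg, hxy]
  let g' : integralClosure D (FractionRing D) →+* N' :=
    { toFun := g
      map_one' := hj (by rw [hg, map_one]; exact map_one φ)
      map_mul' := fun x y => hj (by rw [hg, map_mul, hg, hg]; exact map_mul φ _ _)
      map_zero' := hj (by rw [hg, map_zero]; exact map_zero φ)
      map_add' := fun x y => hj (by rw [hg, map_add, hg, hg]; exact map_add φ _ _) }
  refine ⟨RingEquiv.ofBijective g' ⟨hginj, fun y => ?_⟩, fun d => ?_⟩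
  · obtain ⟨x, hx⟩ := hsurj y
    have hxi : IsIntegral D x := (hrange x).1 ⟨y, hx.symm⟩
    refine ⟨⟨x, hxi⟩, hj ?_⟩
    exact (hg ⟨x, hxi⟩).trans hx
  · refine (hg _).trans ?_
    exact φ.commutes d

end Norm

end K580.AlgOver
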