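import Groth.Agent.Brnch.K580.CountHens
import Groth.Agent.Etbase.QuotHens

/-!
# Base change of a (strict) henselization along a surjection of local rings

For `A → R` surjective, `S` a (strict) henselization of `A`, the ring `T = R ⊗[A] S` is a local henselian
ring whose minimal primes count the (geometric) branches of `R`.
-/

set_option autoImplicit false
set_option linter.unusedSectionVars false
universe u

noncomputable section

namespace K580.BaseSurj

open TensorProduct IsLocalRing Brnch Groth.Agent.CalgC.IndEtale

variable (A R S : Type u) [CommRing A] [IsLocalRing A] [CommRing R] [IsLocalRing R] [CommRing S]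
    [IsLocalRing S] [Algebra A R] [Algebra A S] [IsLocalHom (algebraMap A S)]
    (hsurj : Function.Surjective (algebraMap A R))

include hsurj

theorem surj : Function.Surjective (Algebra.TensorProduct.includeRight : S →ₐ[A] R ⊗[A] S) :=
  Algebra.TensorProduct.includeRight_surjective _ hsurj

theorem isLocalRing [Module.FaithfullyFlat A S] : IsLocalRing (R ⊗[A] S) :=
  IsLocalRing.of_surjective' (Algebra.TensorProduct.includeRight : S →ₐ[A] R ⊗[A] S).toRingHom
    (surj A R S hsurj)

theorem henselian [Module.FaithfullyFlat A S] (hS : HenselianLocalRing S) :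
    HenselianLocalRing (R ⊗[A] S) :=
  have := isLocalRing A R S hsurj
  Groth.Agent.Etbase.QuotHens.henselianLocalRing_of_surjective
    (Algebra.TensorProduct.includeRight : S →ₐ[A] R ⊗[A] S).toRingHom (surj A R S hsurj)

theorem isLocalHom_right [Module.FaithfullyFlat A S] :
    IsLocalHom (Algebra.TensorProduct.includeRight : S →ₐ[A] R ⊗[A] S).toRingHom := by
  have := isLocalRing A R S hsurj
  exact IsLocalHom.of_surjective _ (surj A R S hsurj)

theorem comp_eq : (algebraMap R (R ⊗[A] S)).comp (algebraMap A R) =
    (Algebra.TensorProduct.includeRight : S →ₐ[A] R ⊗[A] S).toRingHom.comp (algebraMap A S) := by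
  ext a
  change algebraMap A R a ⊗ₜ[A] (1 : S) = (1 : R) ⊗ₜ[A] algebraMap A S a
  rw [Algebra.algebraMap_eq_smul_one, Algebra.algebraMap_eq_smul_one, TensorProduct.smul_tmul]

theorem isLocalHom_left [Module.FaithfullyFlat A S] : IsLocalHom (algebraMap R (R ⊗[A] S)) := by
  have := isLocalRing A R S hsurj
  have h1 := isLocalHom_right A R S hsurj
  constructor
  intro r hr
  obtain ⟨a, rfl⟩ := hsurj r
  have h2 : IsUnit ((algebraMap R (R ⊗[A] S)).comp (algebraMap A R) a) := hr
  rw [comp_eq A R S hsurj] at h2
  have h3 : IsUnit (algebraMap A S a) :=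
    (isUnit_map_iff (Algebra.TensorProduct.includeRight : S →ₐ[A] R ⊗[A] S).toRingHom
      (algebraMap A S a)).1 h2
  exact ((isUnit_map_iff (algebraMap A S) a).1 h3).map _

theorem residue_bijective_right [Module.FaithfullyFlat A S] [IsLocalRing (R ⊗[A] S)]
    [IsLocalHom (Algebra.TensorProduct.includeRight : S →ₐ[A] R ⊗[A] S).toRingHom] :
    Function.Bijective (ResidueField.map
      (Algebra.TensorProduct.includeRight : S →ₐ[A] R ⊗[A] S).toRingHom) := by
  refine ⟨RingHom.injective _, fun t => ?_⟩
  obtain ⟨t, rfl⟩ := residue_surjective t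
  obtain ⟨s, rfl⟩ := surj A R S hsurj t
  exact ⟨residue S s, rfl⟩

/-- The branches of `R` are counted by the minimal primes of the base change of a henselization of `A`. -/
theorem card_minimalPrimes_eq_numBranches [hS : Hensel.IsHenselization A S] :
    ENat.card (minimalPrimes (R ⊗[A] S)) = numBranches R := by
  have := Groth.Agent.Hensel.Lazard.faithfullyFlat_of_isHenselization A S
  have := isLocalRing A R S hsurj
  have := henselian A R S hsurj hS.henselian
  have := isLocalHom_left A R S hsurj
  have h : IsIndEtale R (R ⊗[A] S) :=
    IsInd.baseChange isGood_etale (Groth.Agent.Hensel.Lazard.laz_of_isHenselization A S) R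
  refine CountHens.card_minimalPrimes_eq_numBranches R (R ⊗[A] S) h ?_
  intro t
  obtain ⟨t, rfl⟩ := residue_surjective t
  obtain ⟨s, rfl⟩ := surj A R S hsurj t
  obtain ⟨x, hx⟩ := (Groth.Agent.Hensel.Exist.residueField_bijective_of_isHenselization A S).2
    (residue S s)
  obtain ⟨a, rfl⟩ := residue_surjective x
  have hloc := isLocalHom_right A R S hsurj
  refine ⟨residue R (algebraMap A R a), ?_⟩
  rw [ResidueField.map_residue] at hx ⊢
  have h1 : algebraMap R (R ⊗[A] S) (algebraMap A R a) =
      (Algebra.TensorProduct.includeRight : S →ₐ[A] R ⊗[A] S).toRingHom (algebraMap A S a) :=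
    congr($(comp_eq A R S hsurj) a)
  rw [h1]
  exact congrArg (ResidueField.map
    (Algebra.TensorProduct.includeRight : S →ₐ[A] R ⊗[A] S).toRingHom) hx

/-- The geometric branches of `R` are counted by the minimal primes of the base change of a strict
henselization of `A`. -/
theorem card_minimalPrimes_eq_numGeomBranches [hS : Hensel.IsStrictHenselization A S] :
    ENat.card (minimalPrimes (R ⊗[A] S)) = numGeomBranches R := by
  have := Groth.Agent.Hensel.Lazard.faithfullyFlat_of_isStrictHenselization A S
  have := isLocalRing A R S hsurj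
  have := henselian A R S hsurj hS.henselian
  have := isLocalHom_left A R S hsurj
  have := isLocalHom_right A R S hsurj
  have h : IsIndEtale R (R ⊗[A] S) :=
    IsInd.baseChange isGood_etale (Groth.Agent.Hensel.Lazard.laz_of_isStrictHenselization A S) R
  have h0 := hS.isSepClosure
  have h1 : IsSepClosed (ResidueField S) := h0.sep_closed
  have h2 : Algebra.IsSeparable (ResidueField A) (ResidueField S) := h0.separable
  let e : ResidueField S ≃+* ResidueField (R ⊗[A] S) :=
    RingEquiv.ofBijective _ (residue_bijective_right A R S hsurj)
  have h3 : IsSepClosed (ResidueField (R ⊗[A] S)) :=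
    Groth.Agent.Hensel.Exist.isSepClosed_of_ringEquiv e.symm
  have h4 : Algebra.IsAlgebraic (ResidueField R) (ResidueField (R ⊗[A] S)) := by
    rw [Algebra.isAlgebraic_iff_isIntegral, ← algebraMap_isIntegral_iff]
    have h5 : ((ResidueField.map (algebraMap A S)).comp (residue A)).IsIntegral :=
      (RingHom.isIntegral_of_surjective _ residue_surjective).trans _ _
        (algebraMap_isIntegral_iff.2 inferInstance)
    have h6 : (e.toRingHom.comp ((ResidueField.map (algebraMap A S)).comp (residue A))).IsIntegral :=
      h5.trans _ _ (RingHom.isIntegral_of_surjective _ e.surjective)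
    have h7 : e.toRingHom.comp ((ResidueField.map (algebraMap A S)).comp (residue A)) =
        (algebraMap (ResidueField R) (ResidueField (R ⊗[A] S))).comp
          ((residue R).comp (algebraMap A R)) := by
      ext a
      have h8 : algebraMap R (R ⊗[A] S) (algebraMap A R a) =
          (Algebra.TensorProduct.includeRight : S →ₐ[A] R ⊗[A] S).toRingHom (algebraMap A S a) :=
        congr($(comp_eq A R S hsurj) a)
      exact congrArg (residue (R ⊗[A] S)) h8.symm
    rw [h7] at h6
    exact h6.tower_top _ _
  exact CountHens.card_minimalPrimes_eq_numGeomBranches R (R ⊗[A] S) h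

end K580.BaseSurj
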