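import Groth.Agent.Brnch.K580.Cpl
import Groth.Agent.Ega4A.CplFlat

/-!
# Geometric branches of the completion

If the strict henselization `S` of `A` has as many branches as its completion then `A` and `Â` have the
same number of geometric branches.
-/

set_option autoImplicit false
universe u

noncomputable section

namespace K580.CplGeom

open IsLocalRing Brnch

/-- The strict henselization of a Noetherian local ring is Noetherian. -/
theorem isNoetherianRing_strictHenselization (A S : Type u) [CommRing A] [IsLocalRing A]
    [IsNoetherianRing A] [CommRing S] [IsLocalRing S] [Algebra A S] [IsLocalHom (algebraMap A S)]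
    [Hensel.IsStrictHenselization A S] : IsNoetherianRing S := by
  have := Groth.Agent.Hensel.Lazard.faithfullyFlat_of_isStrictHenselization A S
  exact (Groth.Agent.Hensel.EtaleNbhd.isNoetherianRing_iff (R := A)
    (Groth.Agent.Hensel.Exist.isHull_of_isStrictHenselization A S).exists_etale_finset).1 inferInstance

theorem numGeomBranches_eq (A S : Type u) [CommRing A] [IsLocalRing A]
    [IsNoetherianRing A] [CommRing S] [IsLocalRing S] [Algebra A S] [IsLocalHom (algebraMap A S)]
    [hS : Hensel.IsStrictHenselization A S] [hN : IsNoetherianRing S]
    (h : numBranches S = numBranches (AdicCompletion (maximalIdeal S) S)) :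
    numGeomBranches (AdicCompletion (maximalIdeal A) A) = numGeomBranches A := by
  have hff := Groth.Agent.Hensel.Lazard.faithfullyFlat_of_isStrictHenselization A S
  have hSh := hS.henselian
  apply le_antisymm
  · have hN' := Cpl.isNoetherianRing A
    obtain ⟨T, _, _, _, _, hT, -⟩ := Groth.Agent.Hensel.Exist.exists_isStrictHenselization
      (R := AdicCompletion (maximalIdeal A) A)
    have hC := Cpl.henselian S
    let _ : Algebra (AdicCompletion (maximalIdeal A) A) (AdicCompletion (maximalIdeal S) S) :=
      (Groth.Agent.Ega4A.CplFlat.cplMap A S).toAlgebra
    have hl : IsLocalHom (algebraMap (AdicCompletion (maximalIdeal A) A)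
      (AdicCompletion (maximalIdeal S) S)) := Groth.Agent.Ega4A.CplFlat.isLocalHom_cplMap A S
    have hfl : Module.Flat (AdicCompletion (maximalIdeal A) A) (AdicCompletion (maximalIdeal S) S) :=
      Groth.Agent.Ega4A.CplFlat.flat_cplMap A S
    have hsc : IsSepClosed (ResidueField S) := hS.isSepClosure.sep_closed
    have hsc' : IsSepClosed (ResidueField (AdicCompletion (maximalIdeal S) S)) := by
      have hb := AdicCompletion.residueField_map_bijective (R := S)
      exact Groth.Agent.Hensel.Exist.isSepClosed_of_ringEquiv (RingEquiv.ofBijective _ hb).symm
    obtain ⟨g, hg⟩ := FlatLe.exists_lift_strictHens (A := AdicCompletion (maximalIdeal A) A) (S := T)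
      (T := AdicCompletion (maximalIdeal S) S)
    have hgf := FlatLe.exists_strictHens g hg
    let _ := g.toAlgebra
    rw [← CountHens.strictHenselization A S, ← CountHens.strictHenselization _ T,
      ← FlatLe.numBranches_of_henselian S, h, FlatLe.numBranches_of_henselian]
    exact CountHens.card_minimalPrimes_le
  · exact Cpl.numGeomBranches_le A

end K580.CplGeom
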