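import Groth.Agent.Brnch.K580.RadPrime
import Groth.Agent.Brnch.K580.Cpl

/-!
# Branches of the completion and radicals of extended minimal primes
-/

set_option autoImplicit false
universe u

noncomputable section

namespace K580.CplRad

open CAlg2 IsLocalRing Brnch

variable {A S : Type u} [CommRing A] [IsLocalRing A] [IsNoetherianRing A] [CommRing S] [IsLocalRing S]
    [Algebra A S] [IsLocalHom (algebraMap A S)] [Hensel.IsHenselization A S]
    (ψ : S →+* AdicCompletion (maximalIdeal A) A)
    (hψ : ψ.comp (algebraMap A S) = algebraMap A (AdicCompletion (maximalIdeal A) A))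

include hψ in
theorem numBranches_eq_iff :
    numBranches A = numBranches (AdicCompletion (maximalIdeal A) A) ↔
      ∀ q ∈ minimalPrimes S, (Ideal.map ψ q).radical.IsPrime := by
  have := Cpl.henselian A
  have := Cpl.isNoetherianRing A
  rw [← CountHens.henselization A S, FlatLe.numBranches_of_henselian]
  have := Cpl.faithfullyFlat_comp ψ hψ
  let _ := ψ.toAlgebra
  exact RadPrime.encard_eq_iff (A := S) (B := AdicCompletion (maximalIdeal A) A)
    (minimalPrimes.finite_of_isNoetherianRing _)

end K580.CplRad
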