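import Groth.Agent.Brnch.K580.PunctConn
import Groth.Agent.Brnch.K580.CplRad
import Groth.Agent.S0547
import Mathlib.RingTheory.KrullDimension.Zero

/-!
# Minimal primes of the completion with one-dimensional quotient
-/

set_option autoImplicit false
universe u

noncomputable section

namespace K580.DimOne

open IsLocalRing Groth.Agent.Sga2lef.H75.PConn Brnch

variable {A A' : Type u} [CommRing A] [CommRing A'] [IsLocalRing A'] [Algebra A A']

/-- A minimal prime `q` of `A'` with `dim A'/q = 1` is the radical of an extended minimal prime. -/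
theorem exists_minimalPrime [IsNoetherianRing A] [HenselianLocalRing A]
    [IsNoetherianRing A'] [Module.Flat A A']
    (hm : (maximalIdeal A).map (algebraMap A A') = maximalIdeal A')
    (hres : ∀ y : A', ∃ a : A, y - algebraMap A A' a ∈ maximalIdeal A')
    (q : Ideal A') (hq : q ∈ minimalPrimes A') (hdim : ringKrullDim (A' ⧸ q) = 1) :
    ∃ q' ∈ minimalPrimes A, (q'.map (algebraMap A A')).radical = q := by
  have hqp : q.IsPrime := hq.1.1
  have hqm : q ≠ maximalIdeal A' := by
    rintro rfl
    let _ : Field (A' ⧸ maximalIdeal A') := Ideal.Quotient.field _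
    rw [ringKrullDim_eq_zero_of_field] at hdim
    exact zero_ne_one hdim
  have hfin : (minimalPrimes A').Finite := minimalPrimes.finite_of_isNoetherianRing A'
  let J₂ : Ideal A' := sInf (minimalPrimes A' \ {q})
  have hJ : q * J₂ ≤ nilradical A' := by
    rw [nilradical, ← Ideal.sInf_minimalPrimes]
    refine le_sInf fun p hp => ?_
    by_cases hpq : p = q
    · rw [hpq]
      exact Ideal.mul_le_left
    · have h0 : J₂ ≤ p := sInf_le ⟨hp, hpq⟩
      exact Ideal.mul_le_right.trans h0
  have hn : ∃ n, maximalIdeal A' ^ n ≤ q ⊔ J₂ := by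
    refine exists_pow_le_of_forall _ fun p hp hle => ?_
    refine (eq_or_eq_of_dim_lt_two q (by rw [hdim]; decide) p (le_sup_left.trans hle)).resolve_left ?_
    rintro rfl
    have h1 : J₂ ≤ p := le_sup_right.trans hle
    have h2 : (hfin.subset Set.sdiff_subset : (minimalPrimes A' \ {p}).Finite).toFinset.inf id ≤ p := by
      refine le_trans (le_of_eq ?_) h1
      rw [Finset.inf_id_eq_sInf, Set.Finite.coe_toFinset]
    obtain ⟨p', hp', hle'⟩ := (Ideal.IsPrime.inf_le' hp).1 h2
    rw [Set.Finite.mem_toFinset] at hp'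
    have hp'p : p'.IsPrime := hp'.1.1.1
    exact hp'.2 (le_antisymm hle' (hq.2 ⟨hp'p, bot_le⟩ hle'))
  obtain ⟨I₁, I₂, -, -, hiff⟩ := PunctGen.exists_ideals hm hres q J₂ hJ hn
  refine ⟨q.comap (algebraMap A A'), CountHens.mapsTo_comap_minimalPrimes hq, ?_⟩
  apply le_antisymm
  · exact hqp.radical_le_iff.2 Ideal.map_comap_le
  · rw [Ideal.radical_eq_sInf]
    refine le_sInf fun p hp => ?_
    have hpp : p.IsPrime := hp.2
    by_cases hpm : p = maximalIdeal A'
    · rw [hpm]
      exact le_maximalIdeal hqp.ne_top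
    · rw [hiff p hpp hpm]
      have h1 : I₁ ≤ q.comap (algebraMap A A') := by
        rw [← Ideal.map_le_iff_le_comap]
        exact (hiff q hqp hqm).1 le_rfl
      exact (Ideal.map_mono h1).trans hp.1

section Cpl

variable {A S : Type u} [CommRing A] [IsLocalRing A] [IsNoetherianRing A] [CommRing S] [IsLocalRing S]
    [Algebra A S] [IsLocalHom (algebraMap A S)] [hS : Hensel.IsHenselization A S]
    (ψ : S →+* AdicCompletion (maximalIdeal A) A)
    (hψ : ψ.comp (algebraMap A S) = algebraMap A (AdicCompletion (maximalIdeal A) A))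

include hψ in
theorem exists_minimalPrime_completion (q : Ideal (AdicCompletion (maximalIdeal A) A))
    (hq : q ∈ minimalPrimes (AdicCompletion (maximalIdeal A) A))
    (hdim : ringKrullDim (AdicCompletion (maximalIdeal A) A ⧸ q) = 1) :
    ∃ q' ∈ minimalPrimes S, (Ideal.map ψ q').radical = q := by
  have hhens := Cpl.henselian A
  have hhensS := hS.henselian
  have := Cpl.isNoetherianRing A
  have := Cpl.isNoetherianRing_henselization A S
  have hff := Cpl.faithfullyFlat_comp ψ hψ
  have hm := PunctConn.map_maximalIdeal ψ hψ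
  have hres := PunctConn.exists_sub_mem ψ hψ
  let _ := ψ.toAlgebra
  exact exists_minimalPrime (A := S) hm hres q hq hdim

/-- A minimal prime of a one-dimensional local ring has one-dimensional quotient unless it is maximal. -/
theorem ringKrullDim_quotient_eq_one {B : Type u} [CommRing B] [IsLocalRing B]
    (hB : ringKrullDim B = 1) (q : Ideal B) (hq : q ∈ minimalPrimes B) : ringKrullDim (B ⧸ q) = 1 := by
  have hqp : q.IsPrime := hq.1.1
  refine le_antisymm ((ringKrullDim_quotient_le q).trans hB.le) ?_
  by_contra hlt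
  have h0 : ringKrullDim (B ⧸ q) ≤ (0 : ℕ) := by
    rw [not_le] at hlt
    exact ENat.WithBot.lt_add_one_iff.1 (by simpa using hlt)
  have h1 : Ring.KrullDimLE 0 (B ⧸ q) := (Ring.krullDimLE_iff).2 h0
  have h2 : IsField (B ⧸ q) := Ring.KrullDimLE.isField_of_isDomain
  have h3 : q.IsMaximal := (Ideal.Quotient.maximal_ideal_iff_isField_quotient q).2 h2
  have h4 : Ring.KrullDimLE 0 B := by
    rw [Ring.krullDimLE_zero_iff]
    intro p hp
    have h5 : p ≤ q := by
      rw [IsLocalRing.eq_maximalIdeal h3]
      exact le_maximalIdeal hp.ne_top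
    have h6 : p = q := le_antisymm h5 (hq.2 ⟨hp, bot_le⟩ h5)
    rw [h6]
    exact h3
  rw [Ring.krullDimLE_iff, hB] at h4
  exact absurd h4 (by decide)

/-- In dimension one the completion has the same number of branches. -/
theorem numBranches_eq (A : Type u) [CommRing A] [IsLocalRing A] [IsNoetherianRing A]
    (hA : ringKrullDim A = 1) :
    numBranches A = numBranches (AdicCompletion (maximalIdeal A) A) := by
  obtain ⟨S, _, _, _, _, hS, -⟩ := Groth.Agent.Hensel.Exist.exists_isHenselization (R := A)
  have hhens := Cpl.henselian A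
  obtain ⟨ψ, hψ, -⟩ := hS.universal (AdicCompletion (maximalIdeal A) A)
    (algebraMap A _) inferInstance
  rw [CplRad.numBranches_eq_iff ψ hψ]
  intro q' hq'
  obtain ⟨q, hq, hqq'⟩ := Cpl.surjOn ψ hψ hq'
  have hdim : ringKrullDim (AdicCompletion (maximalIdeal A) A ⧸ q) = 1 := by
    refine ringKrullDim_quotient_eq_one ?_ q hq
    rw [Groth.Agent.S0547.result, hA]
  obtain ⟨q'', hq'', hrad⟩ := exists_minimalPrime_completion ψ hψ q hq hdim
  have h1 : q'' ≤ q' := by
    rw [← hqq', ← Ideal.map_le_iff_le_comap, ← hrad]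
    exact Ideal.le_radical
  have h2 : q'' = q' := le_antisymm h1 (hq'.2 ⟨hq''.1.1, bot_le⟩ h1)
  rw [← h2, hrad]
  exact hq.1.1

end Cpl

end K580.DimOne
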