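import Groth.Agent.Brnch.K580.DimOne
import Groth.Agent.Brnch.K580.CplGeom

/-!
# Geometric branches of the completion in dimension one
-/

set_option autoImplicit false
universe u

noncomputable section

namespace K580.DimOneGeom

open IsLocalRing Brnch

theorem numGeomBranches_eq (A : Type u) [CommRing A] [IsLocalRing A] [IsNoetherianRing A]
    (hA : ringKrullDim A = 1) :
    numGeomBranches (AdicCompletion (maximalIdeal A) A) = numGeomBranches A := by
  obtain ⟨S, _, _, _, _, hS, -⟩ := Groth.Agent.Hensel.Exist.exists_isStrictHenselization (R := A)
  have hN := CplGeom.isNoetherianRing_strictHenselization A S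
  have hff := Groth.Agent.Hensel.Lazard.faithfullyFlat_of_isStrictHenselization A S
  have hdim : ringKrullDim S = 1 := by
    rw [← hA]
    exact Groth.Agent.Hensel.EtaleNbhd.ringKrullDim_eq
      (Groth.Agent.Hensel.Exist.isHull_of_isStrictHenselization A S).exists_etale_finset
  exact CplGeom.numGeomBranches_eq A S (DimOne.numBranches_eq S hdim)

end K580.DimOneGeom
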