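import Mathlib.RingTheory.Spectrum.Maximal.Basic
import Mathlib.SetTheory.Cardinal.Finite
import Mathlib.RingTheory.Localization.AtPrime.Basic
import Mathlib.RingTheory.Ideal.Maps
import Mathlib.Algebra.BigOperators.Pi
import Groth.Agent.Desc.NormalSmooth

/-!
# Finite products of rings: maximal ideals, normality; cardinality of sigma types in `ℕ∞`
-/

set_option autoImplicit false
universe u v

namespace K580.PiSpec

/-- The cardinality of a sigma type with finite base, in `ℕ∞`. -/
theorem enatCard_sigma {ι : Type*} [Fintype ι] (β : ι → Type*) :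
    ENat.card (Σ i, β i) = ∑ i, ENat.card (β i) := by
  classical
  by_cases h : ∀ i, Finite (β i)
  · have : ∀ i, Fintype (β i) := fun i => Fintype.ofFinite _
    simp only [ENat.card_eq_coe_fintype_card, Fintype.card_sigma]
    rw [Nat.cast_sum]
  · push Not at h
    obtain ⟨i, hi⟩ := h
    have h1 : Infinite (Σ i, β i) := Infinite.of_injective (fun b : β i => (⟨i, b⟩ : Σ i, β i))
      (fun a b hab => by simpa using hab)
    rw [ENat.card_eq_top_of_infinite]
    symm
    have h2 : ENat.card (β i) ≤ ∑ i, ENat.card (β i) :=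
      Finset.single_le_sum (f := fun i => ENat.card (β i)) (fun _ _ => zero_le) (Finset.mem_univ i)
    rw [ENat.card_eq_top_of_infinite] at h2
    exact top_le_iff.1 h2

section

variable {ι : Type*} (R : ι → Type u) [∀ i, CommRing (R i)]

/-- A maximal ideal of a factor gives a maximal ideal of the product. -/
def toMax (x : Σ i, MaximalSpectrum (R i)) : MaximalSpectrum (∀ i, R i) :=
  ⟨x.2.asIdeal.comap (Pi.evalRingHom R x.1),
    have := x.2.isMaximal
    Ideal.comap_isMaximal_of_surjective (Pi.evalRingHom R x.1) (Function.surjective_eval x.1)⟩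

@[simp] theorem toMax_asIdeal (x : Σ i, MaximalSpectrum (R i)) :
    (toMax R x).asIdeal = x.2.asIdeal.comap (Pi.evalRingHom R x.1) := rfl

/-- A prime of a finite product does not contain one of the standard idempotents. -/
theorem exists_single_notMem [Finite ι] [DecidableEq ι] (q : Ideal (∀ i, R i)) [hq : q.IsPrime] :
    ∃ i, (Pi.single i 1 : ∀ i, R i) ∉ q := by
  cases nonempty_fintype ι
  by_contra! h
  apply hq.ne_top
  rw [Ideal.eq_top_iff_one]
  have h1 : (∑ i, Pi.single i 1 : ∀ i, R i) = 1 := Finset.univ_sum_single (1 : ∀ i, R i)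
  rw [← h1]
  exact Ideal.sum_mem _ fun i _ => h i

theorem mem_of_apply_eq_zero [DecidableEq ι] (q : Ideal (∀ i, R i)) [hq : q.IsPrime] {i : ι}
    (hi : (Pi.single i 1 : ∀ i, R i) ∉ q) (x : ∀ i, R i) (hx : x i = 0) : x ∈ q := by
  refine (hq.mem_or_mem (x := x) (y := Pi.single i 1) ?_).resolve_right hi
  have : x * Pi.single i 1 = 0 := by
    funext j
    by_cases hj : j = i
    · subst hj; simp [hx]
    · simp [Pi.single_eq_of_ne hj]
  rw [this]
  exact q.zero_mem

/-- The prime of the factor attached to a prime of the product. -/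
theorem comap_map_eval [DecidableEq ι] (q : Ideal (∀ i, R i)) [hq : q.IsPrime] {i : ι}
    (hi : (Pi.single i 1 : ∀ i, R i) ∉ q) :
    (q.map (Pi.evalRingHom R i)).comap (Pi.evalRingHom R i) = q := by
  rw [Ideal.comap_map_of_surjective _ (Function.surjective_eval i), sup_eq_left]
  intro x hx
  exact mem_of_apply_eq_zero R q hi x hx

theorem toMax_injective : Function.Injective (toMax R) := by
  classical
  rintro ⟨i, m⟩ ⟨j, n⟩ h
  have h1 : m.asIdeal.comap (Pi.evalRingHom R i) = n.asIdeal.comap (Pi.evalRingHom R j) :=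
    congrArg MaximalSpectrum.asIdeal h
  by_cases hij : i = j
  · subst hij
    have h2 : m.asIdeal = n.asIdeal := by
      rw [← Ideal.map_comap_of_surjective (Pi.evalRingHom R i) (Function.surjective_eval i) m.asIdeal, h1,
        Ideal.map_comap_of_surjective _ (Function.surjective_eval i)]
    have h3 : m = n := MaximalSpectrum.ext h2
    rw [h3]
  · exfalso
    have h2 : (Pi.single j 1 : ∀ i, R i) ∈ m.asIdeal.comap (Pi.evalRingHom R i) := by
      rw [Ideal.mem_comap, Pi.evalRingHom_apply, Pi.single_eq_of_ne hij]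
      exact Ideal.zero_mem _
    rw [h1, Ideal.mem_comap, Pi.evalRingHom_apply, Pi.single_eq_same] at h2
    exact n.isMaximal.ne_top ((Ideal.eq_top_iff_one _).2 h2)

theorem toMax_surjective [Finite ι] : Function.Surjective (toMax R) := by
  classical
  intro m
  have := m.isMaximal
  obtain ⟨i, hi⟩ := exists_single_notMem R m.asIdeal
  have h1 := comap_map_eval R m.asIdeal hi
  have h2 : (m.asIdeal.map (Pi.evalRingHom R i)).IsMaximal := by
    rcases Ideal.map_eq_top_or_isMaximal_of_surjective (Pi.evalRingHom R i) (Function.surjective_eval i)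
      m.isMaximal with h | h
    · exfalso
      rw [h, Ideal.comap_top] at h1
      exact m.isMaximal.ne_top h1.symm
    · exact h
  exact ⟨⟨i, ⟨_, h2⟩⟩, MaximalSpectrum.ext h1⟩

/-- The maximal ideals of a finite product. -/
noncomputable def maxEquiv [Finite ι] : (Σ i, MaximalSpectrum (R i)) ≃ MaximalSpectrum (∀ i, R i) :=
  Equiv.ofBijective (toMax R) ⟨toMax_injective R, toMax_surjective R⟩

/-- A finite product of nontrivial rings which is local has one factor. -/
theorem subsingleton_of_isLocalRing [Finite ι] [∀ i, Nontrivial (R i)] [IsLocalRing (∀ i, R i)] :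
    Subsingleton ι := by
  refine ⟨fun i j => ?_⟩
  obtain ⟨m, hm⟩ := Ideal.exists_maximal (R i)
  obtain ⟨n, hn⟩ := Ideal.exists_maximal (R j)
  have h1 : toMax R ⟨i, ⟨m, hm⟩⟩ = toMax R ⟨j, ⟨n, hn⟩⟩ := by
    apply MaximalSpectrum.ext
    rw [IsLocalRing.eq_maximalIdeal (toMax R ⟨i, ⟨m, hm⟩⟩).isMaximal,
      IsLocalRing.eq_maximalIdeal (toMax R ⟨j, ⟨n, hn⟩⟩).isMaximal]
  exact congrArg Sigma.fst (toMax_injective R h1)

/-- The localization of a finite product at a prime. -/
theorem normalAt_pi [Finite ι] (h : ∀ (i : ι) (q : Ideal (R i)) [q.IsPrime],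
    Groth.Agent.Desc.NormalSmooth.NormalAt (R i) q) (q : Ideal (∀ i, R i)) [hq : q.IsPrime] :
    Groth.Agent.Desc.NormalSmooth.NormalAt (∀ i, R i) q := by
  classical
  obtain ⟨i, hi⟩ := exists_single_notMem R q
  have h1 := comap_map_eval R q hi
  let q' := q.map (Pi.evalRingHom R i)
  have hmem : ∀ x : ∀ i, R i, x ∈ q ↔ x i ∈ q' := fun x => by
    conv_lhs => rw [← h1]
    rfl
  have hq' : q'.IsPrime := by
    refine Ideal.map_isPrime_of_surjective (Function.surjective_eval i) ?_
    intro x hx
    exact mem_of_apply_eq_zero R q hi x hx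
  let : Algebra (∀ i, R i) (Localization.AtPrime q') :=
    ((algebraMap (R i) (Localization.AtPrime q')).comp (Pi.evalRingHom R i)).toAlgebra
  have halg : ∀ x : ∀ i, R i, algebraMap (∀ i, R i) (Localization.AtPrime q') x =
    algebraMap (R i) (Localization.AtPrime q') (x i) := fun x => rfl
  have hloc : IsLocalization q.primeCompl (Localization.AtPrime q') := by
    refine (isLocalization_iff _ _).2 ⟨fun s => ?_, fun z => ?_, fun {x y} hxy => ?_⟩
    · rw [halg]
      have h2 : (s : ∀ i, R i) i ∈ q'.primeCompl := fun h2 => s.2 ((hmem _).2 h2)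
      exact IsLocalization.map_units (Localization.AtPrime q') (⟨_, h2⟩ : q'.primeCompl)
    · obtain ⟨⟨a, b⟩, hab⟩ := IsLocalization.surj q'.primeCompl z
      refine ⟨(Pi.single i a, ⟨Pi.single i b, fun hb => b.2 ?_⟩), ?_⟩
      · have hb' := (hmem _).1 hb
        rwa [Pi.single_eq_same] at hb'
      · rw [halg, halg]
        simpa using hab
    · rw [halg, halg, IsLocalization.eq_iff_exists q'.primeCompl] at hxy
      obtain ⟨c, hc⟩ := hxy
      refine ⟨⟨Pi.single i c, fun hb => c.2 ?_⟩, ?_⟩
      · have hb' := (hmem _).1 hb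
        rwa [Pi.single_eq_same] at hb'
      · funext j
        by_cases hj : j = i
        · subst hj; simpa using hc
        · simp [Pi.single_eq_of_ne hj]
  have e : Localization.AtPrime q' ≃+* Localization.AtPrime q :=
    (IsLocalization.algEquiv q.primeCompl (Localization.AtPrime q') (Localization.AtPrime q)).toRingEquiv
  exact Groth.Agent.Desc.NormalSmooth.normalAt_of_ringEquiv e (h i q')

end

/-- Maximal ideals along a ring isomorphism. -/
def maxCongr {R S : Type*} [CommRing R] [CommRing S] (e : R ≃+* S) : MaximalSpectrum S ≃ MaximalSpectrum R where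
  toFun m := ⟨m.asIdeal.comap e, have := m.isMaximal
    Ideal.comap_isMaximal_of_surjective (e : R →+* S) e.surjective⟩
  invFun m := ⟨m.asIdeal.comap e.symm, have := m.isMaximal
    Ideal.comap_isMaximal_of_surjective (e.symm : S →+* R) e.symm.surjective⟩
  left_inv m := MaximalSpectrum.ext (by
    ext x
    change e (e.symm x) ∈ m.asIdeal ↔ _
    rw [e.apply_symm_apply])
  right_inv m := MaximalSpectrum.ext (by
    ext x
    change e.symm (e x) ∈ m.asIdeal ↔ _
    rw [e.symm_apply_apply])

end K580.PiSpec
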