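import Groth.Agent.Brnch.K580.NormRed
import Groth.Agent.Brnch.K580.PiSpec
import Mathlib.FieldTheory.IsAlgClosed.Basic

/-!
# Embeddings of residue fields into the algebraic closure: invariance properties
-/

set_option autoImplicit false
universe u

noncomputable section

namespace K580.EmbCount

open CAlg2 IsLocalRing Brnch

section Emb

variable (A : Type u) [CommRing A] [IsLocalRing A]

/-- Embeddings of an `A`-field `F` into the algebraic closure of the residue field of `A`. -/
abbrev EmbG {F : Type u} [Semiring F] (g : A →+* F) : Type u :=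
  {σ : F →+* AlgebraicClosure (ResidueField A) // σ.comp g = toClosure A}

theorem emb_eq (m' : MaximalSpectrum (normRed A)) :
    Emb A m' = EmbG A (F := normRed A ⧸ m'.asIdeal) (toResidue A m') := rfl

variable {A}

/-- Invariance under isomorphisms of fields. -/
def embGCongr {F F' : Type u} [Semiring F] [Semiring F'] {g : A →+* F} {g' : A →+* F'} (e : F ≃+* F')
    (he : ∀ a, e (g a) = g' a) : EmbG A g ≃ EmbG A g' where
  toFun σ := ⟨σ.1.comp (e.symm : F' →+* F), RingHom.ext fun a => by
    change σ.1 (e.symm (g' a)) = _
    rw [← he, e.symm_apply_apply]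
    exact DFunLike.congr_fun σ.2 a⟩
  invFun σ := ⟨σ.1.comp (e : F →+* F'), RingHom.ext fun a => by
    change σ.1 (e (g a)) = _
    rw [he]
    exact DFunLike.congr_fun σ.2 a⟩
  left_inv σ := Subtype.ext (RingHom.ext fun x => by
    change σ.1 (e.symm (e x)) = _
    rw [e.symm_apply_apply])
  right_inv σ := Subtype.ext (RingHom.ext fun x => by
    change σ.1 (e (e.symm x)) = _
    rw [e.apply_symm_apply])

variable {B : Type u} [CommRing B] [IsLocalRing B]

/-- The algebraic closures of the residue fields along a ring map inducing an isomorphism on residue fields. -/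
theorem exists_closureEquiv (π : A →+* B) [IsLocalHom π] (hπ : Function.Surjective (ResidueField.map π)) :
    ∃ e : AlgebraicClosure (ResidueField A) ≃+* AlgebraicClosure (ResidueField B),
      ∀ a, e (toClosure A a) = toClosure B (π a) := by
  let e₀ : ResidueField A ≃+* ResidueField B := RingEquiv.ofBijective (ResidueField.map π)
    ⟨(ResidueField.map π).injective, hπ⟩
  let e := IsAlgClosure.equivOfEquiv (AlgebraicClosure (ResidueField A)) (AlgebraicClosure (ResidueField B)) e₀
  refine ⟨e, fun a => ?_⟩
  have h1 := IsAlgClosure.equivOfEquiv_algebraMap (AlgebraicClosure (ResidueField A))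
    (AlgebraicClosure (ResidueField B)) e₀ (residue A a)
  exact h1

/-- Change of the local ring along a surjective local homomorphism. -/
theorem embG_comp (π : A →+* B) [IsLocalHom π] (hπ : Function.Surjective (ResidueField.map π))
    (h : Function.Surjective π) {F : Type u} [Semiring F] (g : B →+* F) :
    Nonempty (EmbG A (g.comp π) ≃ EmbG B g) := by
  obtain ⟨e, he⟩ := exists_closureEquiv π hπ
  refine ⟨{ toFun := fun σ => ⟨(e : _ →+* _).comp σ.1, ?_⟩
            invFun := fun σ => ⟨(e.symm : _ →+* _).comp σ.1, ?_⟩
            left_inv := fun σ => Subtype.ext (RingHom.ext fun x => e.symm_apply_apply _)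
            right_inv := fun σ => Subtype.ext (RingHom.ext fun x => e.apply_symm_apply _) }⟩
  · refine RingHom.ext fun b => ?_
    obtain ⟨a, rfl⟩ := h b
    change e (σ.1 (g (π a))) = _
    rw [← he a]
    exact congrArg e (DFunLike.congr_fun σ.2 a)
  · refine RingHom.ext fun a => ?_
    change e.symm (σ.1 (g (π a))) = _
    rw [RingEquiv.symm_apply_eq, he a]
    exact DFunLike.congr_fun σ.2 (π a)

/-- Comparison of the embeddings attached to maximal ideals of the normalizations. -/
theorem emb_equiv (π : A →+* B) [IsLocalHom π] (hπ : Function.Surjective (ResidueField.map π))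
    (h : Function.Surjective π) (φ : normRed A →+* normRed B) (hφ : Function.Surjective φ)
    (hφπ : ∀ a, φ (algebraMap (red A) (normRed A) (Ideal.Quotient.mk (nilradical A) a)) =
      algebraMap (red B) (normRed B) (Ideal.Quotient.mk (nilradical B) (π a)))
    (m' : MaximalSpectrum (normRed A)) (m'' : MaximalSpectrum (normRed B))
    (hm : m'.asIdeal = m''.asIdeal.comap φ) : Nonempty (Emb A m' ≃ Emb B m'') := by
  let f : normRed A ⧸ m'.asIdeal →+* normRed B ⧸ m''.asIdeal := Ideal.quotientMap m''.asIdeal φ hm.le
  have hf : Function.Bijective f :=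
    ⟨Ideal.quotientMap_injective' (hm ▸ le_rfl), Ideal.quotientMap_surjective hφ⟩
  let e : (normRed A ⧸ m'.asIdeal) ≃+* (normRed B ⧸ m''.asIdeal) := RingEquiv.ofBijective f hf
  obtain ⟨e'⟩ := embG_comp π hπ h (toResidue B m'')
  refine ⟨(embGCongr e fun a => ?_).trans e'⟩
  change f (toResidue A m' a) = toResidue B m'' (π a)
  change f (Ideal.Quotient.mk _ _) = Ideal.Quotient.mk _ _
  rw [Ideal.quotientMap_mk]
  exact congrArg _ (hφπ a)

end Emb

end K580.EmbCount
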