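import Groth.Agent.Brnch.K580.StrictOf
import Groth.Prelude.Def_EssEt

/-!
# Ind-étale local algebras as unions of essentially étale subalgebras
-/

set_option autoImplicit false
universe u

noncomputable section

namespace K580.EssEt

open TensorProduct IsLocalRing Groth.Agent.CalgC.IndEtale

variable {A C S : Type u} [CommRing A] [IsLocalRing A] [CommRing C] [IsLocalRing C] [CommRing S]
  [Algebra A C] [Algebra A S] [Algebra C S] [IsScalarTower A C S]

/-- Finitely many elements of an ind-étale local algebra lie in an essentially étale local subalgebra. -/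
theorem exists_essEtale [IsLocalHom (algebraMap A C)] (hC : IsIndEtale A C)
    (hinj : Function.Injective (algebraMap C S)) (s : Finset S) (hs : (s : Set S) ⊆ Set.range (algebraMap C S)) :
    ∃ E : Subalgebra A S, (s : Set S) ⊆ (E : Set S) ∧ (E : Set S) ⊆ Set.range (algebraMap C S) ∧
      ∃ _ : IsLocalRing E, EGA4loc.IsEssentiallyEtale A E := by
  have hfin : ((algebraMap C S) ⁻¹' (s : Set S)).Finite := s.finite_toSet.preimage hinj.injOn
  obtain ⟨E₀, _, _, hE₀, χ, hχ⟩ := IsIndP.exists_stage_of_finite ((isIndEtale_iff A C).1 hC) _ hfin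
  let q : Ideal E₀ := (maximalIdeal C).comap χ.toRingHom
  have hq : q.IsPrime := Ideal.comap_isPrime _ _
  let L := Localization.AtPrime q
  have hunit : ∀ y : q.primeCompl, IsUnit (χ y) := by
    intro y
    by_contra hy
    exact y.2 ((mem_maximalIdeal _).2 hy)
  let _ : Algebra E₀ C := χ.toRingHom.toAlgebra
  have tow1 : IsScalarTower A E₀ C := IsScalarTower.of_algebraMap_eq fun a => (χ.commutes a).symm
  let η : L →ₐ[E₀] C := IsLocalization.liftAlgHom (M := q.primeCompl) (f := Algebra.ofId E₀ C) hunit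
  let _ : Algebra L C := η.toRingHom.toAlgebra
  have tow2 : IsScalarTower A L C := IsScalarTower.of_algebraMap_eq fun a => by
    change _ = η (algebraMap A L a)
    rw [IsScalarTower.algebraMap_apply A E₀ L, η.commutes, ← IsScalarTower.algebraMap_apply A E₀ C]
  have hlLC : IsLocalHom (algebraMap L C) := by
    refine ⟨fun x hx => ?_⟩
    obtain ⟨e, t, rfl⟩ := IsLocalization.exists_mk'_eq q.primeCompl x
    rw [IsLocalization.AtPrime.isUnit_mk'_iff L q]
    intro heq
    have h1 : χ e ∈ maximalIdeal C := heq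
    have h2 : η (IsLocalization.mk' L e t) * χ t = χ e := by
      have h3 := congrArg η (IsLocalization.mk'_spec L e t)
      rw [map_mul, η.commutes, η.commutes] at h3
      exact h3
    have h3 : IsUnit (χ e) := by
      rw [← h2]
      exact IsUnit.mul hx (hunit t)
    exact (mem_maximalIdeal _).1 h1 h3
  have hL : IsIndEtale A L := by
    have h1 : IsIndEtale E₀ L := isIndEtale_of_isLocalization q.primeCompl _
    have h2 : IsIndEtale A E₀ := IsInd.of_self (Q := fun A E _ _ _ => Algebra.Etale A E) hE₀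
    exact IsInd.comp isGood_etale h2 h1
  have hflC : Module.Flat A C := HullBij.flat hC
  have hff : Module.FaithfullyFlat L C := FlatLe.faithfullyFlat_of_indEtale hL
  let f : L →ₐ[A] S := (IsScalarTower.toAlgHom A C S).comp (IsScalarTower.toAlgHom A L C)
  have hf : Function.Injective f := hinj.comp (FaithfulSMul.algebraMap_injective L C)
  let e : L ≃ₐ[A] f.range := AlgEquiv.ofInjective f hf
  refine ⟨f.range, ?_, ?_, e.toRingEquiv.isLocalRing, E₀, inferInstance, inferInstance, q, hq, hE₀, ?_, ⟨e.symm⟩⟩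
  · intro x hx
    obtain ⟨c, rfl⟩ := hs hx
    obtain ⟨e₀, rfl⟩ := hχ (show c ∈ (algebraMap C S) ⁻¹' (s : Set S) from hx)
    refine ⟨algebraMap E₀ L e₀, ?_⟩
    change algebraMap C S (η (algebraMap E₀ L e₀)) = _
    rw [η.commutes]
    rfl
  · rintro _ ⟨x, rfl⟩
    exact ⟨algebraMap L C x, rfl⟩
  · ext a
    change χ (algebraMap A E₀ a) ∈ maximalIdeal C ↔ _
    rw [χ.commutes, ← Ideal.mem_comap, IsLocalRing.maximalIdeal_comap (algebraMap A C)]

/-- The converse: if every finite set lies in an essentially étale local subalgebra then the algebra is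
ind-étale. -/
theorem isIndEtale_of_essEtale (hinj : Function.Injective (algebraMap C S))
    (h : ∀ s : Finset S, (s : Set S) ⊆ Set.range (algebraMap C S) →
      ∃ E : Subalgebra A S, (s : Set S) ⊆ (E : Set S) ∧ (E : Set S) ⊆ Set.range (algebraMap C S) ∧
      ∃ _ : IsLocalRing E, EGA4loc.IsEssentiallyEtale A E) : IsIndEtale A C := by
  classical
  intro P _ _ _ φ
  let θ : C →ₐ[A] S := IsScalarTower.toAlgHom A C S
  obtain ⟨t, ht⟩ := (inferInstance : Algebra.FiniteType A P).out
  obtain ⟨E, hE1, hE2, -, C₀, _, _, q, hq, hC₀, -, ⟨e⟩⟩ := h (t.image (θ.comp φ)) (by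
    intro x hx
    rw [Finset.coe_image] at hx
    obtain ⟨y, -, rfl⟩ := hx
    exact ⟨φ y, rfl⟩)
  have hle : (θ.comp φ).range ≤ E := by
    rw [← Algebra.map_top, ← ht, AlgHom.map_adjoin, Algebra.adjoin_le_iff]
    rwa [Finset.coe_image] at hE1
  let φE : P →ₐ[A] E := (Subalgebra.inclusion hle).comp (θ.comp φ).rangeRestrict
  have hEθ : E ≤ θ.range := by
    intro x hx
    obtain ⟨c, hc⟩ := hE2 hx
    exact ⟨c, hc⟩
  let eθ : C ≃ₐ[A] θ.range := AlgEquiv.ofInjective θ hinj
  let j : E →ₐ[A] C := eθ.symm.toAlgHom.comp (Subalgebra.inclusion hEθ)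
  have hj : ∀ x : E, θ (j x) = x := fun x => by
    have h1 : eθ (j x) = Subalgebra.inclusion hEθ x := eθ.apply_symm_apply _
    exact congrArg Subtype.val h1
  have hjφ : j.comp φE = φ := by
    ext x
    apply hinj
    exact hj _
  have hind : IsIndEtale A E := by
    have h1 : IsIndEtale C₀ (Localization.AtPrime q) := isIndEtale_of_isLocalization q.primeCompl _
    have h2 : IsIndEtale A C₀ := IsInd.of_self (Q := fun A E _ _ _ => Algebra.Etale A E) hC₀
    have h3 : IsIndEtale A (Localization.AtPrime q) := IsInd.comp isGood_etale h2 h1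
    exact IsIndP.of_algEquiv ((isIndEtale_iff _ _).1 h3) e.symm
  obtain ⟨E₁, _, _, hE₁, ψ, χ, hχ⟩ := hind P φE
  refine ⟨E₁, inferInstance, inferInstance, hE₁, ψ, j.comp χ, ?_⟩
  rw [AlgHom.comp_assoc, hχ, hjφ]

end K580.EssEt
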