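import Groth.Agent.Brnch.K580.MaxTensor

/-!
# Comparison of geometric points of two normalizations
-/

set_option autoImplicit false
universe u

noncomputable section

namespace K580.HomCmp

open TensorProduct IsLocalRing Brnch K580.EmbCount K580.MaxTensor

section Closure

variable {A D : Type u} [CommRing A] [IsLocalRing A] [CommRing D] [IsLocalRing D] [Algebra A D]
  [IsLocalHom (algebraMap A D)] [Algebra.IsAlgebraic (ResidueField A) (ResidueField D)]

/-- The algebraic closures of the residue fields along an algebraic residue field extension. -/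
theorem exists_closureEquiv :
    ∃ e : AlgebraicClosure (ResidueField A) ≃+* AlgebraicClosure (ResidueField D),
      ∀ a, e (toClosure A a) = toClosure D (algebraMap A D a) := by
  have h1 : Algebra.IsAlgebraic (ResidueField A) (AlgebraicClosure (ResidueField D)) :=
    Algebra.IsAlgebraic.trans (ResidueField A) (ResidueField D) _
  have h2 : IsAlgClosure (ResidueField A) (AlgebraicClosure (ResidueField D)) := ⟨inferInstance, h1⟩
  let e := IsAlgClosure.equiv (ResidueField A) (AlgebraicClosure (ResidueField A))
    (AlgebraicClosure (ResidueField D))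
  refine ⟨e.toRingEquiv, fun a => ?_⟩
  exact e.commutes (residue A a)

end Closure

/-- Points of the normalizations. -/
theorem card_homOver_eq {A D A' D' : Type u} [CommRing A] [IsLocalRing A] [CommRing D] [IsLocalRing D] [Algebra A D]
    [IsLocalHom (algebraMap A D)] [Algebra.IsAlgebraic (ResidueField A) (ResidueField D)]
    [CommRing A'] [Algebra A A'] [Algebra.IsIntegral A A'] [CommRing D'] [Algebra A D'] [Algebra D D']
    [IsScalarTower A D D'] [Algebra.IsIntegral D D'] (i : A' →ₐ[A] D')
    (hsurj : ∀ x : D', ∃ z : A' ⊗[A] D,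
      x - Algebra.TensorProduct.productMap i (IsScalarTower.toAlgHom A D D') z ∈ Ideal.jacobson (⊥ : Ideal D'))
    (hker : ∀ z : A' ⊗[A] D, Algebra.TensorProduct.productMap i (IsScalarTower.toAlgHom A D D') z ∈
      Ideal.jacobson (⊥ : Ideal D') → z ∈ (Ideal.jacobson (⊥ : Ideal A')).map
              (Algebra.TensorProduct.includeLeft : A' →ₐ[A] A' ⊗[A] D) ⊔
            (maximalIdeal D).map
              (Algebra.TensorProduct.includeRight : D →ₐ[A] A' ⊗[A] D)) :
    ENat.card (HomOver D D') = ENat.card (HomOver A A') := by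
  let Ω := AlgebraicClosure (ResidueField D)
  obtain ⟨e, he⟩ := exists_closureEquiv (A := A) (D := D)
  -- the kernel of a point contains the Jacobson radical
  have hkerD : ∀ (ρ : HomOver D D') (x : D'), x ∈ Ideal.jacobson (⊥ : Ideal D') → ρ.1 x = 0 := by
    intro ρ x hx
    have hp : (RingHom.ker ρ.1).IsPrime := RingHom.ker_isPrime _
    have hmax : (RingHom.ker ρ.1).IsMaximal := by
      refine Ideal.isMaximal_of_isIntegral_of_isMaximal_comap (R := D) _ ?_
      have h1 : (RingHom.ker ρ.1).comap (algebraMap D D') = maximalIdeal D := by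
        ext d
        rw [Ideal.mem_comap, RingHom.mem_ker, ← RingHom.comp_apply, ρ.2]
        change algebraMap (ResidueField D) _ (residue D d) = 0 ↔ _
        rw [map_eq_zero_iff _ (algebraMap (ResidueField D) (AlgebraicClosure (ResidueField D))).injective,
          residue_eq_zero_iff]
      rw [h1]
      infer_instance
    exact Ideal.mem_sInf.1 hx ⟨bot_le, hmax⟩
  have hkerA : ∀ (σ : A' →+* Ω), σ.comp (algebraMap A A') = (toClosure D).comp (algebraMap A D) → ∀ x : A',
      x ∈ Ideal.jacobson (⊥ : Ideal A') → σ x = 0 := by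
    intro σ hσ x hx
    have hp : (RingHom.ker σ).IsPrime := RingHom.ker_isPrime _
    have hmax : (RingHom.ker σ).IsMaximal := by
      refine Ideal.isMaximal_of_isIntegral_of_isMaximal_comap (R := A) _ ?_
      have h1 : (RingHom.ker σ).comap (algebraMap A A') = maximalIdeal A := by
        ext d
        rw [Ideal.mem_comap, RingHom.mem_ker, ← RingHom.comp_apply, hσ]
        change algebraMap (ResidueField D) _ (residue D (algebraMap A D d)) = 0 ↔ _
        rw [map_eq_zero_iff _ (algebraMap (ResidueField D) (AlgebraicClosure (ResidueField D))).injective,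
          residue_eq_zero_iff, ← Ideal.mem_comap, IsLocalRing.maximalIdeal_comap (algebraMap A D)]
      rw [h1]
      infer_instance
    exact Ideal.mem_sInf.1 hx ⟨bot_le, hmax⟩
  refine ENat.card_congr (Equiv.ofBijective
    (fun ρ : HomOver D D' => (⟨(e.symm : Ω →+* _).comp (ρ.1.comp (i : A' →+* D')), ?_⟩ : HomOver A A')) ⟨?_, ?_⟩)
  · ext a
    change e.symm (ρ.1 (i (algebraMap A A' a))) = toClosure A a
    rw [RingEquiv.symm_apply_eq, he, i.commutes, IsScalarTower.algebraMap_apply A D D', ← RingHom.comp_apply ρ.1,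
      ρ.2]
  · intro ρ₁ ρ₂ h
    have h1 : ∀ x, ρ₁.1 (i x) = ρ₂.1 (i x) := fun x => by
      have := congr(($h).1 x)
      exact e.symm.injective this
    have h2 : ∀ z : A' ⊗[A] D, ρ₁.1 (Algebra.TensorProduct.productMap i (IsScalarTower.toAlgHom A D D') z) =
        ρ₂.1 (Algebra.TensorProduct.productMap i (IsScalarTower.toAlgHom A D D') z) := by
      intro z
      induction z using TensorProduct.induction_on with
      | zero => rw [map_zero, map_zero, map_zero]
      | add x y hx hy => rw [map_add, map_add, map_add, hx, hy]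
      | tmul a d =>
        rw [Algebra.TensorProduct.productMap_apply_tmul, map_mul, map_mul, h1]
        congr 1
        change (ρ₁.1.comp (algebraMap D D')) d = (ρ₂.1.comp (algebraMap D D')) d
        rw [ρ₁.2, ρ₂.2]
    apply Subtype.ext
    ext x
    obtain ⟨z, hz⟩ := hsurj x
    have h3 := hkerD ρ₁ _ hz
    have h4 := hkerD ρ₂ _ hz
    rw [map_sub, sub_eq_zero] at h3 h4
    rw [h3, h4, h2]
  · intro σ
    let _ : Algebra A Ω := ((toClosure D).comp (algebraMap A D)).toAlgebra
    let σ0 : A' →+* Ω := (e : AlgebraicClosure (ResidueField A) →+* Ω).comp σ.1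
    have hσ : σ0.comp (algebraMap A A') = (toClosure D).comp (algebraMap A D) := by
      rw [RingHom.comp_assoc, σ.2]
      ext a
      exact he a
    let σ' : A' →ₐ[A] Ω := { σ0 with commutes' := fun a => DFunLike.congr_fun hσ a }
    let c' : D →ₐ[A] Ω := { toClosure D with commutes' := fun a => rfl }
    let ψ : A' ⊗[A] D →ₐ[A] Ω := Algebra.TensorProduct.productMap σ' c'
    let π : A' ⊗[A] D →+* D' ⧸ (Ideal.jacobson (⊥ : Ideal D')) := (Ideal.Quotient.mk _).comp
      (Algebra.TensorProduct.productMap i (IsScalarTower.toAlgHom A D D') : A' ⊗[A] D →+* D')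
    have hπ : Function.Surjective π := by
      intro y
      obtain ⟨x, rfl⟩ := Ideal.Quotient.mk_surjective y
      obtain ⟨z, hz⟩ := hsurj x
      exact ⟨z, ((Ideal.Quotient.mk_eq_mk_iff_sub_mem _ _).2 hz).symm⟩
    have hJ : (Ideal.jacobson (⊥ : Ideal A')).map (Algebra.TensorProduct.includeLeft : A' →ₐ[A] A' ⊗[A] D) ⊔
            (maximalIdeal D).map (Algebra.TensorProduct.includeRight : D →ₐ[A] A' ⊗[A] D) ≤
            RingHom.ker (ψ : A' ⊗[A] D →+* Ω) := by
      rw [sup_le_iff]
      constructor
      · rw [Ideal.map_le_iff_le_comap]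
        intro x hx
        rw [Ideal.mem_comap, RingHom.mem_ker]
        change ψ (x ⊗ₜ 1) = 0
        rw [Algebra.TensorProduct.productMap_apply_tmul, map_one, mul_one]
        exact hkerA σ0 hσ x hx
      · rw [Ideal.map_le_iff_le_comap]
        intro x hx
        rw [Ideal.mem_comap, RingHom.mem_ker]
        change ψ (1 ⊗ₜ x) = 0
        rw [Algebra.TensorProduct.productMap_apply_tmul, map_one, one_mul]
        change algebraMap (ResidueField D) _ (residue D x) = 0
        rw [(residue_eq_zero_iff x).2 hx, map_zero]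
    have hle : RingHom.ker π ≤ RingHom.ker (ψ : A' ⊗[A] D →+* Ω) := fun z hz =>
      hJ (hker z (Ideal.Quotient.eq_zero_iff_mem.1 hz))
    let ρ0 : D' ⧸ (Ideal.jacobson (⊥ : Ideal D')) →+* Ω := RingHom.liftOfSurjective π hπ ⟨_, hle⟩
    have hρ0 : ∀ z, ρ0 (π z) = ψ z := fun z => RingHom.liftOfSurjective_comp_apply π hπ ⟨_, hle⟩ z
    let ρ : D' →+* Ω := ρ0.comp (Ideal.Quotient.mk _)
    have hρ : ∀ z, ρ (Algebra.TensorProduct.productMap i (IsScalarTower.toAlgHom A D D') z) = ψ z := hρ0
    refine ⟨⟨ρ, ?_⟩, ?_⟩
    · ext d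
      have h1 := hρ (1 ⊗ₜ d)
      rw [Algebra.TensorProduct.productMap_apply_tmul, Algebra.TensorProduct.productMap_apply_tmul, map_one,
        map_one, one_mul, one_mul] at h1
      exact h1
    · apply Subtype.ext
      ext x
      have h1 := hρ (x ⊗ₜ 1)
      rw [Algebra.TensorProduct.productMap_apply_tmul, Algebra.TensorProduct.productMap_apply_tmul, map_one,
        map_one, mul_one, mul_one] at h1
      change e.symm (ρ (i x)) = σ.1 x
      rw [h1]
      exact e.symm_apply_apply _

end K580.HomCmp
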