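import Groth.Agent.Brnch.K580.AlgOver
import Groth.Agent.Pi1C.IndEtaleIC

/-!
# Normalization and faithfully flat descent along `D → S`
-/

set_option autoImplicit false
universe u

noncomputable section

namespace K580.NormTensor

open TensorProduct IsLocalRing Groth.Agent.CalgC.IndEtale K580.AlgOver

section Pure

variable {A D S : Type u} [CommRing A] [CommRing D] [CommRing S] [Algebra A D] [Algebra A S] [Algebra D S]
  [IsScalarTower A D S]

/-- `D → S` as a linear map. -/
abbrev lin (A D S : Type u) [CommRing A] [CommRing D] [CommRing S] [Algebra A D] [Algebra A S] [Algebra D S]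
  [IsScalarTower A D S] : D →ₗ[A] S := (IsScalarTower.toAlgHom A D S).toLinearMap

theorem rTensor_injective [Module.FaithfullyFlat D S] (Q : Type u) [AddCommGroup Q] [Module A Q] :
    Function.Injective (LinearMap.rTensor Q (lin A D S)) := by
  have h1 := Module.FaithfullyFlat.tensorProduct_mk_injective (A := D) (B := S) (D ⊗[A] Q)
  have h2 : ∀ z : D ⊗[A] Q, AlgebraTensorModule.cancelBaseChange A D S S Q ((1 : S) ⊗ₜ[D] z) =
      LinearMap.rTensor Q (lin A D S) z := by
    intro z
    induction z using TensorProduct.induction_on with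
    | zero => rw [TensorProduct.tmul_zero, map_zero, map_zero]
    | add x y hx hy => rw [TensorProduct.tmul_add, map_add, map_add, hx, hy]
    | tmul d q =>
      rw [AlgebraTensorModule.cancelBaseChange_tmul, LinearMap.rTensor_tmul, Algebra.smul_def, mul_one]
      rfl
  intro x y hxy
  apply h1
  apply (AlgebraTensorModule.cancelBaseChange A D S S Q).injective
  change AlgebraTensorModule.cancelBaseChange A D S S Q ((1 : S) ⊗ₜ[D] x) =
    AlgebraTensorModule.cancelBaseChange A D S S Q ((1 : S) ⊗ₜ[D] y)
  rw [h2, h2, hxy]

/-- Descent of membership. -/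
theorem mem_range_of_faithfullyFlat [Module.FaithfullyFlat D S] {M : Type u} [AddCommGroup M] [Module A M]
    (N : Submodule A M) (y : D ⊗[A] M)
    (hy : LinearMap.rTensor M (lin A D S) y ∈ LinearMap.range (LinearMap.lTensor S N.subtype)) :
    y ∈ LinearMap.range (LinearMap.lTensor D N.subtype) := by
  have hex : Function.Exact N.subtype N.mkQ := LinearMap.exact_subtype_mkQ N
  have h1 := lTensor_exact D hex N.mkQ_surjective
  have h2 := lTensor_exact S hex N.mkQ_surjective
  refine (h1 y).1 ?_
  apply rTensor_injective (A := A) (D := D) (S := S) (M ⧸ N)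
  rw [map_zero]
  have h3 : LinearMap.rTensor (M ⧸ N) (lin A D S) (LinearMap.lTensor D N.mkQ y) =
      LinearMap.lTensor S N.mkQ (LinearMap.rTensor M (lin A D S) y) := by
    rw [← LinearMap.comp_apply, ← LinearMap.comp_apply, LinearMap.rTensor_comp_lTensor,
      LinearMap.lTensor_comp_rTensor]
  rw [h3]
  exact (h2 _).2 hy

end Pure

section Frac

variable {A S K : Type u} [CommRing A] [CommRing S] [CommRing K] [Algebra A S] [Algebra S K] [IsFractionRing S K]
  [Algebra A K] [IsScalarTower A S K]

theorem exists_mul_eq (z : S ⊗[A] FractionRing A) : ∃ a ∈ nonZeroDivisors A, ∃ s : S,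
    algebraMap A (S ⊗[A] FractionRing A) a * z = s ⊗ₜ 1 := by
  induction z using TensorProduct.induction_on with
  | zero => exact ⟨1, one_mem _, 0, by simp⟩
  | add x y hx hy =>
    obtain ⟨a, ha, s, has⟩ := hx
    obtain ⟨b, hb, t, hbt⟩ := hy
    refine ⟨a * b, mul_mem ha hb, algebraMap A S b * s + algebraMap A S a * t, ?_⟩
    have h1 : ∀ (c : A) (u : S), ((algebraMap A S c * u) ⊗ₜ[A] (1 : FractionRing A)) =
        algebraMap A (S ⊗[A] FractionRing A) c * (u ⊗ₜ 1) := fun c u => by
      rw [Algebra.TensorProduct.algebraMap_apply, Algebra.TensorProduct.tmul_mul_tmul, one_mul]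
    rw [TensorProduct.add_tmul, h1, h1, ← has, ← hbt, map_mul]
    ring
  | tmul s f =>
    obtain ⟨r, t, rfl⟩ := IsLocalization.exists_mk'_eq (nonZeroDivisors A) f
    refine ⟨t, t.2, algebraMap A S r * s, ?_⟩
    rw [← Algebra.smul_def, TensorProduct.smul_tmul', TensorProduct.smul_tmul]
    have h1 : (t : A) • IsLocalization.mk' (FractionRing A) r t = algebraMap A (FractionRing A) r := by
      rw [Algebra.smul_def, mul_comm]
      exact IsLocalization.mk'_spec (FractionRing A) r t
    rw [h1, Algebra.algebraMap_eq_smul_one, ← TensorProduct.smul_tmul, Algebra.smul_def]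

theorem isUnit_algebraMap (A S K : Type u) [CommRing A] [CommRing S] [CommRing K] [Algebra A S] [Algebra S K]
    [IsFractionRing S K] [Algebra A K] [IsScalarTower A S K] [Module.Flat A S] (a : A) (ha : a ∈ nonZeroDivisors A) :
    IsUnit (algebraMap A K a) := by
  rw [IsScalarTower.algebraMap_apply A S K]
  exact IsLocalization.map_units K (⟨_, map_mem_nonZeroDivisors a ha⟩ : nonZeroDivisors S)

/-- The total ring of fractions of `A` inside `K`. -/
def fracHom (A S K : Type u) [CommRing A] [CommRing S] [CommRing K] [Algebra A S] [Algebra S K]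
    [IsFractionRing S K] [Algebra A K] [IsScalarTower A S K] [Module.Flat A S] : FractionRing A →ₐ[A] K :=
  IsLocalization.liftAlgHom (M := nonZeroDivisors A) (f := Algebra.ofId A K)
    (fun a => isUnit_algebraMap A S K a.1 a.2)

/-- `S ⊗ Frac A → K`. -/
def kap (A S K : Type u) [CommRing A] [CommRing S] [CommRing K] [Algebra A S] [Algebra S K]
    [IsFractionRing S K] [Algebra A K] [IsScalarTower A S K] [Module.Flat A S] :
    S ⊗[A] FractionRing A →ₐ[S] K :=
  Algebra.TensorProduct.lift (Algebra.ofId S K) (fracHom A S K) (fun _ _ => Commute.all _ _)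

variable [Module.Flat A S]

theorem kap_tmul (s : S) (f : FractionRing A) :
    kap A S K (s ⊗ₜ f) = algebraMap S K s * fracHom A S K f := Algebra.TensorProduct.lift_tmul _ _ _ _ _

theorem kap_injective : Function.Injective (kap A S K) := by
  rw [injective_iff_map_eq_zero]
  intro z hz
  obtain ⟨a, ha, s, has⟩ := exists_mul_eq (S := S) z
  have h1 : kap A S K (s ⊗ₜ 1) = 0 := by
    rw [← has, map_mul, hz, mul_zero]
  rw [kap_tmul, map_one, mul_one, ← map_zero (algebraMap S K)] at h1
  have h2 : s = 0 := IsFractionRing.injective S K h1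
  have h3 : IsUnit (algebraMap A (S ⊗[A] FractionRing A) a) := by
    have h4 : IsUnit (algebraMap A (FractionRing A) a) :=
      IsLocalization.map_units (FractionRing A) (⟨a, ha⟩ : nonZeroDivisors A)
    have h5 := h4.map (Algebra.TensorProduct.includeRight : FractionRing A →ₐ[A] S ⊗[A] FractionRing A)
    rwa [AlgHom.commutes] at h5
  rw [h2, TensorProduct.zero_tmul] at has
  exact (h3.mul_right_eq_zero).1 has

end Frac

section Main

variable {A D S K : Type u} [CommRing A] [CommRing D] [CommRing S] [CommRing K] [Algebra A D] [Algebra A S]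
  [Algebra D S] [IsScalarTower A D S] [Algebra S K] [IsFractionRing S K]
  [Algebra A K] [IsScalarTower A S K] [Algebra D K] [IsScalarTower D S K] [Module.FaithfullyFlat D S]

/-- An element of the normalization of `D` is a combination of elements of the normalization of `A`. -/
theorem exists_tensor (hS : IsIndEtale A S) [Module.Flat A S] (x : K) (hx : IsIntegral D x) (a : A)
    (ha : a ∈ nonZeroDivisors A) (d : D) (had : algebraMap A K a * x = algebraMap D K d) :
    ∃ z : D ⊗[A] (integralClosure A (FractionRing A)),
      kap A S K (LinearMap.rTensor (FractionRing A) (lin A D S)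
        (LinearMap.lTensor D (Subalgebra.toSubmodule (integralClosure A (FractionRing A))).subtype z)) = x := by
  let F := FractionRing A
  let N := integralClosure A F
  let y : D ⊗[A] F := d ⊗ₜ IsLocalization.mk' F (1 : A) (⟨a, ha⟩ : nonZeroDivisors A)
  have hy : kap A S K (LinearMap.rTensor F (lin A D S) y) = x := by
    have h1 : LinearMap.rTensor F (lin A D S) y =
      algebraMap D S d ⊗ₜ IsLocalization.mk' F (1 : A) (⟨a, ha⟩ : nonZeroDivisors A) := rfl
    rw [h1, kap_tmul]
    apply (isUnit_algebraMap A S K a ha).mul_right_injective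
    change algebraMap A K a * _ = algebraMap A K a * _
    rw [had, ← IsScalarTower.algebraMap_apply D S K, mul_left_comm]
    have h2 : algebraMap A K a * fracHom A S K (IsLocalization.mk' F (1 : A) (⟨a, ha⟩ : nonZeroDivisors A)) = 1 := by
      rw [← (fracHom A S K).commutes, ← map_mul, mul_comm]
      have h3 := IsLocalization.mk'_spec F (1 : A) (⟨a, ha⟩ : nonZeroDivisors A)
      rw [h3, map_one, map_one]
    rw [h2, mul_one]
  have hint : IsIntegral S (LinearMap.rTensor F (lin A D S) y) := by
    rw [← isIntegral_algHom_iff (kap A S K) kap_injective, hy]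
    exact hx.tower_top
  obtain ⟨z, hz⟩ := (Groth.Agent.Pi1C.IndEtaleIC.toIntegralClosure_bijective hS F).2
    ⟨LinearMap.rTensor F (lin A D S) y, hint⟩
  have hmem : LinearMap.rTensor F (lin A D S) y ∈ LinearMap.range (LinearMap.lTensor S (Subalgebra.toSubmodule N).subtype) := by
    refine ⟨z, ?_⟩
    have h1 := congrArg Subtype.val hz
    refine Eq.trans ?_ h1
    have h2 : ∀ w : S ⊗[A] N, LinearMap.lTensor S (Subalgebra.toSubmodule N).subtype w =
        (TensorProduct.toIntegralClosure A S F w).1 := by
      intro w
      induction w using TensorProduct.induction_on with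
      | zero => rw [map_zero, map_zero]; rfl
      | tmul s n => rfl
      | add x y hx hy => rw [map_add, map_add, hx, hy]; rfl
    exact h2 z
  obtain ⟨z', hz'⟩ := mem_range_of_faithfullyFlat (Subalgebra.toSubmodule N) y hmem
  refine ⟨z', ?_⟩
  rw [hz', hy]

/-- Injectivity of `D ⊗ N → K`. -/
theorem tensor_injective [Module.Flat A S] : Function.Injective
    (fun z : D ⊗[A] (integralClosure A (FractionRing A)) =>
      kap A S K (LinearMap.rTensor (FractionRing A) (lin A D S)
        (LinearMap.lTensor D (Subalgebra.toSubmodule (integralClosure A (FractionRing A))).subtype z))) := by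
  let F := FractionRing A
  let N := integralClosure A F
  have h1 : ∀ z : D ⊗[A] N, LinearMap.rTensor F (lin A D S) (LinearMap.lTensor D (Subalgebra.toSubmodule N).subtype z) =
      LinearMap.lTensor S (Subalgebra.toSubmodule N).subtype (LinearMap.rTensor N (lin A D S) z) := by
    intro z
    induction z using TensorProduct.induction_on with
    | zero => simp only [map_zero]
    | tmul s n => rfl
    | add x y hx hy => simp only [map_add, hx, hy]
  have h2 : Function.Injective (LinearMap.lTensor S (Subalgebra.toSubmodule N).subtype) :=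
    Module.Flat.lTensor_preserves_injective_linearMap _ Subtype.val_injective
  intro x y hxy
  have h3 := kap_injective (A := A) (S := S) (K := K) hxy
  rw [h1, h1] at h3
  exact rTensor_injective (A := A) (D := D) (S := S) N (h2 h3)

end Main

end K580.NormTensor
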