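import Groth.Agent.Brnch.K580.StrictOf
import Groth.Agent.Brnch.K580.NormTensor
import Groth.Agent.Brnch.K580.HomCmp
import Groth.Agent.Brnch.K580.EssEt

/-!
# Criterion for strict henselizations of subrings by normalizations
-/

set_option autoImplicit false
universe u

noncomputable section

namespace K580.EssHens

open TensorProduct IsLocalRing Groth.Agent.CalgC.IndEtale Brnch CAlg2 K580.AlgOver K580.NormTensor K580.MaxTensor
  K580.SumMin K580.EmbCount

/-- Subrings of a Noetherian ring have finitely many minimal primes. -/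
theorem finite_minimalPrimes_of_injective {D S : Type*} [CommRing D] [CommRing S] [Algebra D S]
    (hinj : Function.Injective (algebraMap D S)) (hfin : (minimalPrimes S).Finite) : (minimalPrimes D).Finite := by
  refine (hfin.image (Ideal.comap (algebraMap D S))).subset ?_
  intro p hp
  obtain ⟨q, hq, hqp⟩ := Ideal.exists_comap_eq_of_mem_minimalPrimes_of_injective hinj p hp
  obtain ⟨q', hq', hle⟩ := Ideal.exists_minimalPrimes_le (bot_le : (⊥ : Ideal S) ≤ q)
  have hq'p : q'.IsPrime := hq'.1.1
  have h1 : q'.comap (algebraMap D S) ≤ p := hqp ▸ Ideal.comap_mono hle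
  exact ⟨q', hq', le_antisymm h1 (hp.2 ⟨Ideal.comap_isPrime _ _, bot_le⟩ h1)⟩

/-- Geometric branches through an `A`-algebra isomorphic to the normalization. -/
theorem numGeomBranches_eq_card (A : Type u) [CommRing A] [IsLocalRing A] [IsReduced A]
    (hfin : (minimalPrimes A).Finite) (N : Type u) [CommRing N] [Algebra A N]
    (e : integralClosure A (FractionRing A) ≃ₐ[A] N) :
    numGeomBranches A = ENat.card (HomOver A N) := by
  obtain ⟨e'⟩ := ExtMin.exists_algEquiv_normRed A
  have hint : Algebra.IsIntegral A (normRed A) := K580.Unibranch.isIntegral_normRed A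
  rw [numGeomBranches_of_finite hfin, ← ExtMin.card_homOver_congr A e, ExtMin.card_homOver_congr A e']
  exact card_sigma_embG A (normRed A)

section Setup

variable (A D S K : Type u) [CommRing A] [IsLocalRing A] [IsNoetherianRing A] [IsReduced A]
  [CommRing D] [IsLocalRing D] [CommRing S] [IsLocalRing S] [CommRing K] [Algebra A D] [Algebra A S]
  [Algebra D S] [IsScalarTower A D S] [Algebra S K] [IsFractionRing S K]
  [Algebra A K] [IsScalarTower A S K] [Algebra D K] [IsScalarTower D S K]
  [IsLocalHom (algebraMap A S)] [IsLocalHom (algebraMap D S)]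
  [hS : Hensel.IsStrictHenselization A S]
  (A' D' : Subalgebra A K)
  (hA' : ∀ x : K, x ∈ A' ↔ (IsIntegral A x ∧
      ∃ a ∈ nonZeroDivisors A, ∃ b : A, algebraMap A K a * x = algebraMap A K b))
  (hD' : ∀ x : K, x ∈ D' ↔ (IsIntegral D x ∧
      ∃ a ∈ nonZeroDivisors A, ∃ d : D, algebraMap A K a * x = algebraMap D K d))
  (hle : A' ≤ D') (ι : D →ₐ[A] D') (hι : ∀ d : D, (ι d : K) = algebraMap D K d)

include hS hA' hD' hι in
theorem strict_of_residue (hinj : Function.Injective (algebraMap D S))
    (hsurj : Function.Surjective ((Ideal.Quotient.mkₐ A (Ideal.jacobson (⊥ : Ideal D'))).comp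
          (Algebra.TensorProduct.productMap (Subalgebra.inclusion hle) ι)))
    (hker : RingHom.ker ((Ideal.Quotient.mkₐ A (Ideal.jacobson (⊥ : Ideal D'))).comp
          (Algebra.TensorProduct.productMap (Subalgebra.inclusion hle) ι)) =
          (Ideal.jacobson (⊥ : Ideal A')).map
              (Algebra.TensorProduct.includeLeft : A' →ₐ[A] A' ⊗[A] D) ⊔
            (maximalIdeal D).map
              (Algebra.TensorProduct.includeRight : D →ₐ[A] A' ⊗[A] D)) :
    Hensel.IsStrictHenselization D S := by
  have hSlaz : IsIndEtale A S := Groth.Agent.Hensel.Lazard.laz_of_isStrictHenselization A S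
  have hffS : Module.FaithfullyFlat A S := Groth.Agent.Hensel.Lazard.faithfullyFlat_of_isStrictHenselization A S
  have hSN : IsNoetherianRing S := (Groth.Agent.Hensel.EtaleNbhd.isNoetherianRing_iff (R := A)
      (Groth.Agent.Hensel.Exist.isHull_of_isStrictHenselization A S).exists_etale_finset).1 inferInstance
  have hSred : IsReduced S := StrictOf.isReduced_of_isIndEtale A S hSlaz
  have hDred : IsReduced D := isReduced_of_injective _ hinj
  have hAD : IsAlgOver A D := (algOver_of_isIndEtale hSlaz).of_injective (IsScalarTower.toAlgHom A D S) hinj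
  have hAA : IsAlgOver A A := fun a => ⟨1, one_mem _, isIntegral_algebraMap⟩
  have hlAD : IsLocalHom (algebraMap A D) := by
    refine ⟨fun a ha => ?_⟩
    have h1 : IsUnit (algebraMap A S a) := by
      rw [IsScalarTower.algebraMap_apply A D S]
      exact ha.map _
    exact isUnit_of_map_unit _ _ h1
  have hsep : Algebra.IsSeparable (ResidueField A) (ResidueField D) := by
    have h1 : IsScalarTower (ResidueField A) (ResidueField D) (ResidueField S) := by
      refine IsScalarTower.of_algebraMap_eq fun x => ?_
      obtain ⟨a, rfl⟩ := residue_surjective x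
      change residue S (algebraMap A S a) = residue S (algebraMap D S (algebraMap A D a))
      rw [← IsScalarTower.algebraMap_apply]
    have h2 : Algebra.IsSeparable (ResidueField A) (ResidueField S) := hS.isSepClosure.separable
    exact Algebra.isSeparable_tower_bot_of_isSeparable (ResidueField A) (ResidueField D) (ResidueField S)
  have halg : Algebra.IsAlgebraic (ResidueField A) (ResidueField D) := inferInstance
  have hAKD : ∀ a : A, algebraMap D K (algebraMap A D a) = algebraMap A K a := fun a => by
    rw [IsScalarTower.algebraMap_apply D S K, ← IsScalarTower.algebraMap_apply A D S,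
      ← IsScalarTower.algebraMap_apply A S K]
  -- algebra structures
  let _ : Algebra D D' := ι.toRingHom.toAlgebra
  have tow1 : IsScalarTower A D D' := IsScalarTower.of_algebraMap_eq fun a => (ι.commutes a).symm
  have tow2 : IsScalarTower D D' K := IsScalarTower.of_algebraMap_eq fun d => (hι d).symm
  have hintD : Algebra.IsIntegral D D' := by
    refine ⟨fun x => ?_⟩
    have h1 : IsIntegral D (x : K) := ((hD' x).1 x.2).1
    exact (isIntegral_algHom_iff (IsScalarTower.toAlgHom D D' K) Subtype.val_injective).1 h1
  have hintA : Algebra.IsIntegral A A' := by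
    refine ⟨fun x => ?_⟩
    have h1 : IsIntegral A (x : K) := ((hA' x).1 x.2).1
    exact (isIntegral_algHom_iff A'.val Subtype.val_injective).1 h1
  -- normalizations
  obtain ⟨eD, heD⟩ := exists_equiv (A := A) (D := D) (S := S) (K := K) hAD hinj (D'.val : D' →+* K)
    Subtype.val_injective (fun x => by
      rw [← hD' x]
      exact ⟨fun ⟨y, hy⟩ => hy ▸ y.2, fun hx => ⟨⟨x, hx⟩, rfl⟩⟩)
  let eD' : integralClosure D (FractionRing D) ≃ₐ[D] D' :=
    { eD with commutes' := fun d => Subtype.ext ((heD d).trans (hι d).symm) }
  obtain ⟨eA, heA⟩ := exists_equiv (A := A) (D := A) (S := S) (K := K) hAA (FaithfulSMul.algebraMap_injective A S)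
    (A'.val : A' →+* K) Subtype.val_injective (fun x => by
      rw [← hA' x]
      exact ⟨fun ⟨y, hy⟩ => hy ▸ y.2, fun hx => ⟨⟨x, hx⟩, rfl⟩⟩)
  let eA' : integralClosure A (FractionRing A) ≃ₐ[A] A' :=
    { eA with commutes' := fun d => Subtype.ext (heA d) }
  have hfinA : (minimalPrimes A).Finite := minimalPrimes.finite_of_isNoetherianRing A
  have hfinD : (minimalPrimes D).Finite := finite_minimalPrimes_of_injective hinj
    (minimalPrimes.finite_of_isNoetherianRing S)
  refine StrictOf.strict_of_card (A := A) hinj ?_
  rw [numGeomBranches_eq_card A hfinA A' eA', numGeomBranches_eq_card D hfinD D' eD']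
  have hιeq : IsScalarTower.toAlgHom A D D' = ι := AlgHom.ext fun d => rfl
  refine HomCmp.card_homOver_eq (Subalgebra.inclusion hle) ?_ ?_
  · intro x
    obtain ⟨z, hz⟩ := hsurj (Ideal.Quotient.mk _ x)
    refine ⟨z, ?_⟩
    rw [hιeq]
    exact (Ideal.Quotient.mk_eq_mk_iff_sub_mem _ _).1 hz.symm
  · intro z hz
    rw [← hker, RingHom.mem_ker]
    rw [hιeq] at hz
    exact Ideal.Quotient.eq_zero_iff_mem.2 hz

end Setup

end K580.EssHens
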