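import Groth.Agent.Brnch.K580.EssHens
import Groth.Agent.Sga2lef.H134.SepWE
import Mathlib.RingTheory.TensorProduct.Maps

/-!
# The normalization of a subring `D` of a strict henselization with `D → S` faithfully flat
-/

set_option autoImplicit false
universe u

noncomputable section

namespace K580.EssHens

open TensorProduct IsLocalRing Groth.Agent.CalgC.IndEtale Brnch CAlg2 K580.AlgOver K580.NormTensor K580.MaxTensor
  K580.SumMin K580.EmbCount

theorem isReduced_tensor_residue (A R' L : Type u) [CommRing A] [IsLocalRing A] [CommRing R'] [IsReduced R'] [Algebra A R']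
    (hR : ∀ a ∈ maximalIdeal A, algebraMap A R' a = 0) [Field L] [Algebra A L] [Algebra (ResidueField A) L]
    [IsScalarTower A (ResidueField A) L] [Algebra.IsSeparable (ResidueField A) L] : IsReduced (R' ⊗[A] L) := by
  let _ : Algebra (ResidueField A) R' := (Ideal.Quotient.lift (maximalIdeal A) (algebraMap A R') hR).toAlgebra
  have tow : IsScalarTower A (ResidueField A) R' := IsScalarTower.of_algebraMap_eq fun a => rfl
  have h1 : Algebra.WeaklyEtale (ResidueField A) L :=
    Groth.Agent.Sga2lef.H134.SepWE.weaklyEtale_of_isSeparable (ResidueField A) L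
  have h2 : IsReduced (R' ⊗[ResidueField A] L) := K361.ReducedWE.isReduced R' _
  have h3 : TensorProduct.CompatibleSMul A (ResidueField A) R' L := ⟨fun x m n => by
    obtain ⟨a, rfl⟩ := residue_surjective x
    have e1 : residue A a • m = a • m := by
      rw [Algebra.smul_def, Algebra.smul_def]; rfl
    have e2 : residue A a • n = a • n := by
      rw [Algebra.smul_def, Algebra.smul_def, IsScalarTower.algebraMap_apply A (ResidueField A) L]; rfl
    rw [e1, e2, TensorProduct.smul_tmul]⟩
  exact isReduced_of_injective (Algebra.TensorProduct.equivOfCompatibleSMul (ResidueField A) A A R' L).toRingEquiv.toRingHom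
    (Algebra.TensorProduct.equivOfCompatibleSMul (ResidueField A) A A R' L).injective

theorem isMaximal_of_integral_field {L T : Type u} [Field L] [CommRing T] [Algebra L T]
    [Algebra.IsIntegral L T] (P : Ideal T) [P.IsPrime] : P.IsMaximal := by
  refine Ideal.isMaximal_of_isIntegral_of_isMaximal_comap (R := L) P ?_
  have h3 : (P.comap (algebraMap L T)).IsPrime := Ideal.comap_isPrime _ P
  rcases Ideal.eq_bot_or_top (P.comap (algebraMap L T)) with h4 | h4
  · rw [h4]; exact Ideal.bot_isMaximal
  · exact absurd h4 h3.ne_top

theorem isMaximal_tensor (A R' L : Type u) [CommRing A] [CommRing R'] [Field L] [Algebra A R'] [Algebra A L]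
    [Algebra.IsIntegral A R'] (P : Ideal (R' ⊗[A] L)) (hP : P.IsPrime) : P.IsMaximal := by
  letI : Algebra L (R' ⊗[A] L) := Algebra.TensorProduct.rightAlgebra
  have : Algebra.IsIntegral L (R' ⊗[A] L) := HullBij.isIntegral_tensor (S := L) R'
  exact isMaximal_of_integral_field (L := L) (T := R' ⊗[A] L) P

section Setup

variable (A D S K : Type u) [CommRing A] [IsLocalRing A] [IsNoetherianRing A] [IsReduced A]
  [CommRing D] [IsLocalRing D] [CommRing S] [IsLocalRing S] [CommRing K] [Algebra A D] [Algebra A S]
  [Algebra D S] [IsScalarTower A D S] [Algebra S K] [IsFractionRing S K]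
  [Algebra A K] [IsScalarTower A S K] [Algebra D K] [IsScalarTower D S K]
  [IsLocalHom (algebraMap A S)] [IsLocalHom (algebraMap D S)]
  [hS : Hensel.IsStrictHenselization A S]
  (A' D' : Subalgebra A K)
  (hA' : ∀ x : K, x ∈ A' ↔ (IsIntegral A x ∧
      ∃ a ∈ nonZeroDivisors A, ∃ b : A, algebraMap A K a * x = algebraMap A K b))
  (hD' : ∀ x : K, x ∈ D' ↔ (IsIntegral D x ∧
      ∃ a ∈ nonZeroDivisors A, ∃ d : D, algebraMap A K a * x = algebraMap D K d))
  (hle : A' ≤ D') (ι : D →ₐ[A] D') (hι : ∀ d : D, (ι d : K) = algebraMap D K d)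

include hS hA' hD' hι in
/-- `A' ⊗ D → D'` is bijective. -/
theorem productMap_bijective [Module.FaithfullyFlat D S] :
    Function.Bijective (Algebra.TensorProduct.productMap (Subalgebra.inclusion hle) ι) := by
  have hSlaz : IsIndEtale A S := Groth.Agent.Hensel.Lazard.laz_of_isStrictHenselization A S
  have hffS : Module.FaithfullyFlat A S := Groth.Agent.Hensel.Lazard.faithfullyFlat_of_isStrictHenselization A S
  have hAA : IsAlgOver A A := fun a => ⟨1, one_mem _, isIntegral_algebraMap⟩
  let F := FractionRing A
  let N := integralClosure A F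
  obtain ⟨eA, heA⟩ := exists_equiv (A := A) (D := A) (S := S) (K := K) hAA (FaithfulSMul.algebraMap_injective A S)
    (A'.val : A' →+* K) Subtype.val_injective (fun x => by
      rw [← hA' x]
      exact ⟨fun ⟨y, hy⟩ => hy ▸ y.2, fun hx => ⟨⟨x, hx⟩, rfl⟩⟩)
  let eA' : N ≃ₐ[A] A' := { eA with commutes' := fun d => Subtype.ext (heA d) }
  have heA' : ∀ n : N, (eA' n : K) = fracHom A S K n := by
    intro n
    obtain ⟨r, s, hrs⟩ := IsLocalization.exists_mk'_eq (nonZeroDivisors A) (n : F)
    have h1 : algebraMap A F s * (n : F) = algebraMap A F r := by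
      rw [← hrs, mul_comm]; exact IsLocalization.mk'_spec F r s
    have h2 : algebraMap A N s * n = algebraMap A N r := Subtype.ext h1
    apply (isUnit_algebraMap A S K s s.2).mul_right_injective
    have h4 : algebraMap A K s * fracHom A S K n = algebraMap A K r := by
      rw [← (fracHom A S K).commutes, ← map_mul, h1, AlgHom.commutes]
    have h3 := congrArg Subtype.val (congrArg eA' h2)
    rw [map_mul, eA'.commutes, eA'.commutes] at h3
    have h5 : algebraMap A K s * (eA' n : K) = algebraMap A K r := h3
    change algebraMap A K s * (eA' n : K) = algebraMap A K s * fracHom A S K n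
    rw [h4, h5]
  let c : D ⊗[A] N ≃ₗ[A] A' ⊗[A] D :=
    (TensorProduct.comm A D N).trans (TensorProduct.congr eA'.toLinearEquiv (LinearEquiv.refl A D))
  let Ψ : D ⊗[A] N → K := fun z => kap A S K (LinearMap.rTensor F (lin A D S)
        (LinearMap.lTensor D (Subalgebra.toSubmodule N).subtype z))
  have hcΨ : ∀ z, (Algebra.TensorProduct.productMap (Subalgebra.inclusion hle) ι (c z) : K) = Ψ z := by
    intro z
    induction z using TensorProduct.induction_on with
    | zero => simp only [Ψ, map_zero]; rfl
    | add x y hx hy =>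
      have h1 : Ψ (x + y) = Ψ x + Ψ y := by simp only [Ψ, map_add]
      rw [map_add, map_add, h1, ← hx, ← hy]
      rfl
    | tmul d n =>
      have h1 : c (d ⊗ₜ n) = eA' n ⊗ₜ d := rfl
      have h2 : Ψ (d ⊗ₜ n) = kap A S K (algebraMap D S d ⊗ₜ (n : F)) := rfl
      rw [h1, h2, kap_tmul, Algebra.TensorProduct.productMap_apply_tmul, ← IsScalarTower.algebraMap_apply D S K,
        ← heA', ← hι, mul_comm]
      rfl
  constructor
  · intro x y hxy
    obtain ⟨x, rfl⟩ := c.surjective x
    obtain ⟨y, rfl⟩ := c.surjective y
    have h1 : Ψ x = Ψ y := by rw [← hcΨ, ← hcΨ, hxy]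
    rw [tensor_injective (A := A) (D := D) (S := S) (K := K) h1]
  · intro x
    obtain ⟨h1, a, ha, d, had⟩ := (hD' x).1 x.2
    obtain ⟨z, hz⟩ := exists_tensor (A := A) (D := D) (S := S) (K := K) hSlaz x h1 a ha d had
    refine ⟨c z, Subtype.ext ?_⟩
    rw [hcΨ]
    exact hz

include hS hA' hD' hι in
theorem residue_of_faithfullyFlat [Module.FaithfullyFlat D S]
    (hfinA : Module.Finite A (integralClosure A (FractionRing A))) :
    ({N : Ideal D' | N.IsMaximal}.Finite ∧
      Function.Surjective ((Ideal.Quotient.mkₐ A (Ideal.jacobson (⊥ : Ideal D'))).comp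
          (Algebra.TensorProduct.productMap (Subalgebra.inclusion hle) ι)) ∧
        RingHom.ker ((Ideal.Quotient.mkₐ A (Ideal.jacobson (⊥ : Ideal D'))).comp
          (Algebra.TensorProduct.productMap (Subalgebra.inclusion hle) ι)) =
          (Ideal.jacobson (⊥ : Ideal A')).map
              (Algebra.TensorProduct.includeLeft : A' →ₐ[A] A' ⊗[A] D) ⊔
            (maximalIdeal D).map
              (Algebra.TensorProduct.includeRight : D →ₐ[A] A' ⊗[A] D)) := by
  have hbij := productMap_bijective A D S K A' D' hA' hD' hle ι hι
  have hffS : Module.FaithfullyFlat A S := Groth.Agent.Hensel.Lazard.faithfullyFlat_of_isStrictHenselization A S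
  have hlAD : IsLocalHom (algebraMap A D) := by
    refine ⟨fun a ha => ?_⟩
    have h1 : IsUnit (algebraMap A S a) := by
      rw [IsScalarTower.algebraMap_apply A D S]
      exact ha.map _
    exact isUnit_of_map_unit _ _ h1
  have hsep : Algebra.IsSeparable (ResidueField A) (ResidueField D) := by
    have h1 : IsScalarTower (ResidueField A) (ResidueField D) (ResidueField S) := by
      refine IsScalarTower.of_algebraMap_eq fun x => ?_
      obtain ⟨a, rfl⟩ := residue_surjective x
      change residue S (algebraMap A S a) = residue S (algebraMap D S (algebraMap A D a))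
      rw [← IsScalarTower.algebraMap_apply]
    have h2 : Algebra.IsSeparable (ResidueField A) (ResidueField S) := hS.isSepClosure.separable
    exact Algebra.isSeparable_tower_bot_of_isSeparable (ResidueField A) (ResidueField D) (ResidueField S)
  have hAA : IsAlgOver A A := fun a => ⟨1, one_mem _, isIntegral_algebraMap⟩
  obtain ⟨eA, heA⟩ := exists_equiv (A := A) (D := A) (S := S) (K := K) hAA (FaithfulSMul.algebraMap_injective A S)
    (A'.val : A' →+* K) Subtype.val_injective (fun x => by
      rw [← hA' x]
      exact ⟨fun ⟨y, hy⟩ => hy ▸ y.2, fun hx => ⟨⟨x, hx⟩, rfl⟩⟩)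
  let eA' : integralClosure A (FractionRing A) ≃ₐ[A] A' :=
    { eA with commutes' := fun d => Subtype.ext (heA d) }
  have hfinA' : Module.Finite A A' := Module.Finite.equiv eA'.toLinearEquiv
  let _ : Algebra D D' := ι.toRingHom.toAlgebra
  have tow1 : IsScalarTower A D D' := IsScalarTower.of_algebraMap_eq fun a => (ι.commutes a).symm
  -- `D'` is finite over `D`
  let μ : D ⊗[A] A' →ₐ[D] D' := Algebra.TensorProduct.lift (Algebra.ofId D D') (Subalgebra.inclusion hle)
    (fun _ _ => Commute.all _ _)
  have hμ : Function.Surjective μ := by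
    intro x
    obtain ⟨z, rfl⟩ := hbij.2 x
    refine ⟨(Algebra.TensorProduct.comm A A' D) z, ?_⟩
    induction z using TensorProduct.induction_on with
    | zero => rw [map_zero, map_zero, map_zero]
    | add x y hx hy => rw [map_add, map_add, map_add, hx, hy]
    | tmul a d =>
      rw [Algebra.TensorProduct.comm_tmul, Algebra.TensorProduct.productMap_apply_tmul]
      change μ (d ⊗ₜ a) = _
      rw [Algebra.TensorProduct.lift_tmul, mul_comm]
      rfl
  have hfinD : Module.Finite D D' := Module.Finite.of_surjective μ.toLinearMap hμ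
  have hintA : Algebra.IsIntegral A A' := inferInstance
  have hintD : Algebra.IsIntegral D D' := inferInstance
  -- maximal ideals of `D'`
  have hmaxD : ∀ N : Ideal D', N.IsMaximal → N.comap (algebraMap D D') = maximalIdeal D := fun N hN =>
    IsLocalRing.eq_maximalIdeal (Ideal.isMaximal_comap_of_isIntegral_of_isMaximal N)
  have hmaxA : ∀ N : Ideal D', N.IsMaximal → (N.comap (Subalgebra.inclusion hle : A' →+* D')).IsMaximal := by
    intro N hN
    have : (N.comap (Subalgebra.inclusion hle : A' →+* D')).IsPrime := Ideal.comap_isPrime _ _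
    refine Ideal.isMaximal_of_isIntegral_of_isMaximal_comap (R := A) _ ?_
    have h1 : (N.comap (Subalgebra.inclusion hle : A' →+* D')).comap (algebraMap A A') = maximalIdeal A := by
      rw [Ideal.comap_comap]
      have h2 : (Subalgebra.inclusion hle : A' →+* D').comp (algebraMap A A') =
          (algebraMap D D').comp (algebraMap A D) := by
        rw [← IsScalarTower.algebraMap_eq A D D']
        rfl
      rw [h2, ← Ideal.comap_comap, hmaxD N hN, IsLocalRing.maximalIdeal_comap (algebraMap A D)]
    rw [h1]
    infer_instance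
  refine ⟨?_, ?_, ?_⟩
  · refine (Algebra.QuasiFinite.finite_primesOver (S := D') (maximalIdeal D)).subset ?_
    intro N hN
    exact ⟨hN.isPrime, ⟨(hmaxD N hN).symm⟩⟩
  · exact (Ideal.Quotient.mk_surjective).comp hbij.2
  · apply le_antisymm
    · -- the residue ring
      let R' := A' ⧸ (Ideal.jacobson (⊥ : Ideal A'))
      have hR'red : IsReduced R' := by
        refine (Ideal.isRadical_iff_quotient_reduced _).1 ?_
        exact Ideal.isRadical_jacobson _
      have hR'm : ∀ a ∈ maximalIdeal A, algebraMap A R' a = 0 := by
        intro a ha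
        refine Ideal.Quotient.eq_zero_iff_mem.2 (Ideal.mem_sInf.2 ?_)
        rintro M ⟨-, hM⟩
        have h1 : M.comap (algebraMap A A') = maximalIdeal A :=
          IsLocalRing.eq_maximalIdeal (Ideal.isMaximal_comap_of_isIntegral_of_isMaximal M)
        rw [← h1] at ha
        exact ha
      let L := ResidueField D
      have hFred : IsReduced (R' ⊗[A] L) := isReduced_tensor_residue A R' L hR'm
      let f : A' →ₐ[A] R' := Ideal.Quotient.mkₐ A _
      let g : D →ₐ[A] L := IsScalarTower.toAlgHom A D L
      have hf : Function.Surjective f := Ideal.Quotient.mk_surjective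
      have hg : Function.Surjective g := residue_surjective
      let τ : A' ⊗[A] D →ₐ[A] R' ⊗[A] L := Algebra.TensorProduct.map f g
      have hτ : Function.Surjective τ := Algebra.TensorProduct.map_surjective f g hf hg
      have hτker : RingHom.ker τ = (Ideal.jacobson (⊥ : Ideal A')).map
              (Algebra.TensorProduct.includeLeft : A' →ₐ[A] A' ⊗[A] D) ⊔
            (maximalIdeal D).map
              (Algebra.TensorProduct.includeRight : D →ₐ[A] A' ⊗[A] D) := by
        have h1 := Algebra.TensorProduct.map_ker (f := f) (g := g) hf hg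
        have h2 : RingHom.ker f = Ideal.jacobson (⊥ : Ideal A') := Ideal.mk_ker
        have h3 : RingHom.ker g = maximalIdeal D := by
          ext d
          rw [RingHom.mem_ker]
          exact residue_eq_zero_iff d
        rw [h2, h3] at h1
        exact h1
      rw [← hτker]
      intro z hz
      rw [RingHom.mem_ker] at hz ⊢
      have hz' : Algebra.TensorProduct.productMap (Subalgebra.inclusion hle) ι z ∈
          Ideal.jacobson (⊥ : Ideal D') := Ideal.Quotient.eq_zero_iff_mem.1 hz
      -- `τ z` lies in every prime
      have hnil : τ z ∈ nilradical (R' ⊗[A] L) := by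
        rw [nilradical_eq_sInf, Ideal.mem_sInf]
        intro P hP
        have hPp : P.IsPrime := hP
        have hPmax : P.IsMaximal := by
          have hAR' : Algebra.IsIntegral A R' := Algebra.IsIntegral.trans A'
          exact isMaximal_tensor A R' L P hPp
        -- pull back to `A' ⊗ D ≃ D'`
        let pm : A' ⊗[A] D ≃+* D' := RingEquiv.ofBijective
          (Algebra.TensorProduct.productMap (Subalgebra.inclusion hle) ι) hbij
        have hM : (P.comap (τ : A' ⊗[A] D →+* R' ⊗[A] L)).IsMaximal := Ideal.comap_isMaximal_of_surjective _ hτ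
        have hM' : ((P.comap (τ : A' ⊗[A] D →+* R' ⊗[A] L)).comap (pm.symm : D' →+* A' ⊗[A] D)).IsMaximal :=
          Ideal.comap_isMaximal_of_surjective _ pm.symm.surjective
        have h6 := Ideal.mem_sInf.1 hz' ⟨bot_le, hM'⟩
        have h7 : pm.symm (Algebra.TensorProduct.productMap (Subalgebra.inclusion hle) ι z) = z :=
          pm.symm_apply_apply z
        have h8 : τ (pm.symm (Algebra.TensorProduct.productMap (Subalgebra.inclusion hle) ι z)) ∈ P := h6
        rw [h7] at h8
        exact h8
      rw [nilradical_eq_zero (R' ⊗[A] L)] at hnil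
      exact hnil
    · rw [sup_le_iff]
      constructor
      · rw [Ideal.map_le_iff_le_comap]
        intro x hx
        rw [Ideal.mem_comap, RingHom.mem_ker]
        refine Ideal.Quotient.eq_zero_iff_mem.2 (Ideal.mem_sInf.2 ?_)
        rintro N ⟨-, hN⟩
        change Algebra.TensorProduct.productMap (Subalgebra.inclusion hle) ι (x ⊗ₜ 1) ∈ N
        rw [Algebra.TensorProduct.productMap_apply_tmul, map_one, mul_one]
        exact Ideal.mem_sInf.1 hx ⟨bot_le, hmaxA N hN⟩
      · rw [Ideal.map_le_iff_le_comap]
        intro x hx
        rw [Ideal.mem_comap, RingHom.mem_ker]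
        refine Ideal.Quotient.eq_zero_iff_mem.2 (Ideal.mem_sInf.2 ?_)
        rintro N ⟨-, hN⟩
        change Algebra.TensorProduct.productMap (Subalgebra.inclusion hle) ι (1 ⊗ₜ x) ∈ N
        rw [Algebra.TensorProduct.productMap_apply_tmul, map_one, one_mul]
        have h1 : x ∈ N.comap (algebraMap D D') := by rw [hmaxD N hN]; exact hx
        exact h1

end Setup

end K580.EssHens
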