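import Groth.Agent.Brnch.K580.GenPts
import Groth.Agent.Hensel.Lazard
import Groth.Agent.CalgC.IndEtale
import Groth.Agent.Pi1C.StrictHensConn
import Groth.Agent.Grpsch.EtLoc
import Groth.Agent.Flat2G.StrictHens
import Groth.Agent.Sga4h.EtSpec
import Groth.Prelude.Def_Hens2

/-!
# Étale neighbourhoods of a point from ind-étale algebras over its local ring
-/

set_option autoImplicit false
universe u

noncomputable section

open AlgebraicGeometry CategoryTheory Limits IsLocalRing

namespace K580.EtNbhd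

open Groth.Agent.CalgC.IndEtale K580.GenPts

/-- Finitely many elements of an ind-étale algebra over a local ring of a scheme live on an étale
neighbourhood; here their non-vanishing loci are pulled back from opens. -/
theorem exists_nbhd (X : Scheme.{u}) (x : X) (S : Type u) [CommRing S]
    [Algebra (X.presheaf.stalk x) S] (h : IsIndEtale (X.presheaf.stalk x) S) {ι : Type*} [Finite ι]
    (s : ι → S) :
    ∃ (U : Scheme.{u}) (g : U ⟶ X) (_ : Etale g) (a : Spec (CommRingCat.of S) ⟶ U) (V : ι → U.Opens),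
      a ≫ g = Hens2.specOf X x S ∧
        ∀ (i : ι) (y : PrimeSpectrum S), a y ∈ V i ↔ s i ∉ y.asIdeal := by
  obtain ⟨_, ⟨W, hW, rfl⟩, hxW, -⟩ := X.isBasis_affineOpens.exists_subset_of_mem_open
    (Set.mem_univ x) isOpen_univ
  let R := Γ(X, W)
  let _ : Algebra R (X.presheaf.stalk x) := (X.presheaf.germ W x hxW).hom.toAlgebra
  have hloc : IsLocalization.AtPrime (X.presheaf.stalk x) (hW.primeIdealOf ⟨x, hxW⟩).asIdeal :=
    hW.isLocalization_stalk ⟨x, hxW⟩
  let _ : Algebra R S := ((algebraMap (X.presheaf.stalk x) S).comp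
    (algebraMap R (X.presheaf.stalk x))).toAlgebra
  have : IsScalarTower R (X.presheaf.stalk x) S := IsScalarTower.of_algebraMap_eq' rfl
  have h1 : IsIndEtale R (X.presheaf.stalk x) :=
    isIndEtale_of_isLocalization (hW.primeIdealOf ⟨x, hxW⟩).asIdeal.primeCompl _
  have h2 : IsIndEtale R S := IsInd.comp isGood_etale h1 h
  obtain ⟨E, _, _, _, χ, e, he⟩ := Groth.Agent.Hensel.Lazard.Laz.exists_family h2 s
  have het : Etale (Spec.map (CommRingCat.ofHom (algebraMap R E))) :=
    Groth.Agent.Sga4h.EtSpec.etale_specMap R E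
  refine ⟨Spec (.of E), Spec.map (CommRingCat.ofHom (algebraMap R E)) ≫ hW.fromSpec, inferInstance,
    Spec.map (CommRingCat.ofHom χ.toRingHom), fun i => PrimeSpectrum.basicOpen (e i), ?_, ?_⟩
  · rw [Hens2.specOf, ← hW.fromSpecStalk_eq_fromSpecStalk hxW, IsAffineOpen.fromSpecStalk,
      ← Category.assoc, ← Category.assoc, ← Spec.map_comp, ← Spec.map_comp]
    congr 2
    ext r
    exact χ.commutes r
  · intro i y
    change e i ∉ (y.asIdeal.comap χ.toRingHom) ↔ s i ∉ y.asIdeal
    rw [← he i]
    rfl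

theorem weaklyEtale_specOf (X : Scheme.{u}) (x : X) (S : Type u) [CommRing S]
    [Algebra (X.presheaf.stalk x) S] (h : IsIndEtale (X.presheaf.stalk x) S) :
    WeaklyEtale (Hens2.specOf X x S) := by
  have h1 : Algebra.WeaklyEtale (X.presheaf.stalk x) S :=
    Groth.Agent.Flat2G.StrictHens.weaklyEtale_of_laz h
  have h2 : WeaklyEtale (Spec.map (CommRingCat.ofHom (algebraMap (X.presheaf.stalk x) S))) := by
    refine ⟨?_, ?_⟩
    · rw [Flat.SpecMap_iff]
      exact (RingHom.flat_algebraMap_iff).mpr h1.flat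
    · rw [diagonal_SpecMap]
      have h2 : Flat (Spec.map (CommRingCat.ofHom (Algebra.TensorProduct.lmul' (X.presheaf.stalk x) :
          TensorProduct (X.presheaf.stalk x) S S →ₐ[X.presheaf.stalk x] S).toRingHom)) := by
        rw [Flat.SpecMap_iff]
        exact h1.flat_lmul'
      infer_instance
  have h3 := Groth.Agent.Pi1C.StrictHensConn.weaklyEtale_fromSpecStalk X x
  infer_instance

/-- A morphism over `X` from a weakly étale to an étale `X`-scheme is generalizing. -/
theorem generalizingMap {X U Y : Scheme.{u}} (g : U ⟶ X) [Etale g] (a : Y ⟶ U)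
    (h : WeaklyEtale (a ≫ g)) : GeneralizingMap a := by
  have : WeaklyEtale a := WeaklyEtale.of_comp a g
  exact Flat.generalizingMap a

/-- Finitely many elements of `R` separate `n` maximal generizations of a point; if their non-vanishing
loci are pulled back from `U` then the image point has at least `n` maximal generizations. -/
theorem exists_family (R : Type u) [CommRing R] (y₀ : PrimeSpectrum R) (n : ℕ)
    (hn : (n : ℕ∞) ≤ (gens y₀).encard) :
    ∃ (ι : Type) (_ : Finite ι) (s : ι → R), ∀ (U : Type u) [TopologicalSpace U]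
      (f : PrimeSpectrum R → U) (_ : Continuous f) (_ : GeneralizingMap f) (V : ι → Set U)
      (_ : ∀ i y, f y ∈ V i ↔ s i ∉ y.asIdeal), (n : ℕ∞) ≤ (gens (f y₀)).encard := by
  obtain ⟨Y, hY, hYn⟩ := Set.exists_subset_encard_eq hn
  have hfin : Y.Finite := Set.finite_of_encard_eq_coe hYn
  have : Finite Y := hfin
  obtain ⟨m, ⟨e⟩⟩ := Finite.exists_equiv_fin Y
  have h1 : ∀ i : Fin m × Fin m, ∃ t : R, e.symm i.1 ≠ e.symm i.2 →
      ¬ (t ∈ (e.symm i.1).1.asIdeal ↔ t ∈ (e.symm i.2).1.asIdeal) := by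
    intro i
    by_contra hcon
    push Not at hcon
    obtain ⟨hne, -⟩ := hcon 0
    apply hne
    apply Subtype.ext
    apply PrimeSpectrum.ext
    ext t
    exact (hcon t).2
  choose s hs using h1
  refine ⟨Fin m × Fin m, inferInstance, s, fun U _ f hf hg V hV => ?_⟩
  have hinj : Set.InjOn f Y := by
    intro y hy z hz hyz
    by_contra hne
    have h2 := hs (e ⟨y, hy⟩, e ⟨z, hz⟩)
    simp only [Equiv.symm_apply_apply, ne_eq, Subtype.mk.injEq] at h2
    have h3 := hV (e ⟨y, hy⟩, e ⟨z, hz⟩) y
    have h4 := hV (e ⟨y, hy⟩, e ⟨z, hz⟩) z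
    rw [hyz] at h3
    exact h2 hne (not_iff_not.1 (h3.symm.trans h4))
  rw [← hYn, ← hinj.encard_image]
  exact Set.encard_le_encard (Set.image_subset_iff.2 fun y hy => mapsTo_gens hf hg y₀ (hY hy))

end K580.EtNbhd
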