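import Groth.Agent.Brnch.K580.NbhdCount
import Groth.Agent.Brnch.K580.BaseSurj
import Groth.Agent.Fga.FibFlat

/-!
# Branches of fibres through étale neighbourhoods of the total space
-/

set_option autoImplicit false
universe u

noncomputable section

open AlgebraicGeometry CategoryTheory Limits IsLocalRing TensorProduct

namespace K580.FibreCount

open Groth.Agent.CalgC.IndEtale K580.GenPts K580.NbhdCount Brnch

variable {X B : Scheme.{u}} (f : X ⟶ B) (s : B)

theorem isPullback_fiberMap {U : Scheme.{u}} (g : U ⟶ X) :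
    IsPullback ((g ≫ f).fiberι s) (MoreMor.fiberMap g f s) g (f.fiberι s) := by
  have h1 := Groth.Agent.Fga.FibFlat.isPullback_fiber (g ≫ f) s
  have h2 := Groth.Agent.Fga.FibFlat.isPullback_fiber f s
  rw [← Groth.Agent.Fga.FibFlat.fiberMap_toSpec g f s] at h1
  exact IsPullback.of_bot h1 (Groth.Agent.Fga.FibFlat.fiberMap_fiberι g f s).symm h2

theorem etale_fiberMap {U : Scheme.{u}} (g : U ⟶ X) [Etale g] : Etale (MoreMor.fiberMap g f s) :=
  MorphismProperty.of_isPullback (isPullback_fiberMap f s g) inferInstance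

theorem setOf_eq {U : Scheme.{u}} (h : U ⟶ B) (u' : h.fiber s) (u : U) (hu : h.fiberι s u' = u) :
    {Z : Set ↑(h.fiber s) | Z ∈ irreducibleComponents ↑(h.fiber s) ∧ ∃ u' ∈ Z, h.fiberι s u' = u} =
      {Z : Set ↑(h.fiber s) | Z ∈ irreducibleComponents ↑(h.fiber s) ∧ u' ∈ Z} := by
  ext Z
  refine and_congr_right fun _ => ⟨?_, fun h1 => ⟨u', h1, hu⟩⟩
  rintro ⟨v, hv, hvu⟩
  rw [← hu] at hvu
  rwa [← (h.fiberι s).isEmbedding.injective hvu]

variable (z : f.fiber s)

theorem exists_point {U : Scheme.{u}} (g : U ⟶ X) (u : U) (hu : g u = f.fiberι s z) :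
    ∃ u' : (g ≫ f).fiber s, (g ≫ f).fiberι s u' = u ∧ MoreMor.fiberMap g f s u' = z := by
  have h1 : u ∈ Set.range ((g ≫ f).fiberι s) := by
    rw [(g ≫ f).range_fiberι]
    change (g ≫ f) u = s
    rw [Scheme.Hom.comp_apply, hu]
    exact Groth.Agent.Fga.FibFlat.fiberι_mem f s z
  obtain ⟨u', rfl⟩ := h1
  refine ⟨u', rfl, ?_⟩
  apply (f.fiberι s).isEmbedding.injective
  rw [← hu, ← Scheme.Hom.comp_apply, Groth.Agent.Fga.FibFlat.fiberMap_fiberι, Scheme.Hom.comp_apply]

/-- upper bound, geometric case -/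
theorem encard_le_geom {U : Scheme.{u}} (g : U ⟶ X) [Etale g] (u : U) (hu : g u = f.fiberι s z) :
    {Z : Set ↑((g ≫ f).fiber s) | Z ∈ irreducibleComponents ↑((g ≫ f).fiber s) ∧
        ∃ u' ∈ Z, (g ≫ f).fiberι s u' = u}.encard ≤ numGeomBranchesAt (f.fiber s) z := by
  obtain ⟨u', h1, h2⟩ := exists_point f s z g u hu
  have := etale_fiberMap f s g
  rw [setOf_eq s (g ≫ f) u' u h1, ← h2, ← numGeomBranchesAt_eq (MoreMor.fiberMap g f s) u']
  exact encard_components_le_geom _ _

/-- The fibre of an elementary étale neighbourhood is one. -/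
theorem isEtaleNbhd_fiberMap {U : Scheme.{u}} (g : U ⟶ X) (u : U)
    (h : Hens2.IsEtaleNbhd g u (f.fiberι s z)) (u' : (g ≫ f).fiber s)
    (h1 : (g ≫ f).fiberι s u' = u) : Hens2.IsEtaleNbhd (MoreMor.fiberMap g f s) u' z := by
  have := h.etale
  have := etale_fiberMap f s g
  obtain ⟨σ, hσ, hσu⟩ := Groth.Agent.Grpsch.EtLoc.exists_lift_of_isEtaleNbhd h
  have hpb := isPullback_fiberMap f s g
  have hc : (Spec.map ((f.fiberι s).residueFieldMap z) ≫ σ) ≫ g =
      (f.fiber s).fromSpecResidueField z ≫ f.fiberι s := by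
    rw [Category.assoc, hσ, Scheme.Hom.SpecMap_residueFieldMap_fromSpecResidueField]
  let τ := hpb.lift (Spec.map ((f.fiberι s).residueFieldMap z) ≫ σ)
    ((f.fiber s).fromSpecResidueField z) hc
  have hτ1 : τ ≫ (g ≫ f).fiberι s = Spec.map ((f.fiberι s).residueFieldMap z) ≫ σ :=
    hpb.lift_fst _ _ _
  have hτ2 : τ ≫ MoreMor.fiberMap g f s = (f.fiber s).fromSpecResidueField z := hpb.lift_snd _ _ _
  have hpt : τ (closedPoint _) = u' := by
    apply ((g ≫ f).fiberι s).isEmbedding.injective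
    rw [h1, ← Scheme.Hom.comp_apply, hτ1, Scheme.Hom.comp_apply]
    exact hσu _
  rw [← hpt]
  exact Groth.Agent.Grpsch.EtLoc.isEtaleNbhd_of_lift _ z τ hτ2 _

/-- upper bound -/
theorem encard_le {U : Scheme.{u}} (g : U ⟶ X) (u : U) (hu : Hens2.IsEtaleNbhd g u (f.fiberι s z)) :
    {Z : Set ↑((g ≫ f).fiber s) | Z ∈ irreducibleComponents ↑((g ≫ f).fiber s) ∧
        ∃ u' ∈ Z, (g ≫ f).fiberι s u' = u}.encard ≤ numBranchesAt (f.fiber s) z := by
  obtain ⟨u', h1, -⟩ := exists_point f s z g u hu.base_eq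
  rw [setOf_eq s (g ≫ f) u' u h1, ← numBranchesAt_eq (isEtaleNbhd_fiberMap f s z g u hu u' h1)]
  exact encard_components_le _ _

section Lower

variable (S : Type u) [CommRing S] [IsLocalRing S]
    [Algebra (X.presheaf.stalk (f.fiberι s z)) S]
    [IsLocalHom (algebraMap (X.presheaf.stalk (f.fiberι s z)) S)]
    [Module.FaithfullyFlat (X.presheaf.stalk (f.fiberι s z)) S]

theorem exists_nbhd_gens (h : IsIndEtale (X.presheaf.stalk (f.fiberι s z)) S) (n : ℕ)
    (hn : letI := ((f.fiberι s).stalkMap z).hom.toAlgebra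
      (n : ℕ∞) ≤ ENat.card (minimalPrimes ((f.fiber s).presheaf.stalk z ⊗[X.presheaf.stalk (f.fiberι s z)] S))) :
    ∃ (U : Scheme.{u}) (g : U ⟶ X) (_ : Etale g) (a : Spec (CommRingCat.of S) ⟶ U),
      a ≫ g = Hens2.specOf X (f.fiberι s z) S ∧ g (a (closedPoint S)) = f.fiberι s z ∧
      (n : ℕ∞) ≤ {Z : Set ↑((g ≫ f).fiber s) | Z ∈ irreducibleComponents ↑((g ≫ f).fiber s) ∧
        ∃ u' ∈ Z, (g ≫ f).fiberι s u' = a (closedPoint S)}.encard := by
  let A := X.presheaf.stalk (f.fiberι s z)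
  let R := (f.fiber s).presheaf.stalk z
  let _ : Algebra A R := ((f.fiberι s).stalkMap z).hom.toAlgebra
  have hsurj : Function.Surjective (algebraMap A R) := (f.fiberι s).stalkMap_surjective z
  have := BaseSurj.isLocalRing A R S hsurj
  have := BaseSurj.isLocalHom_left A R S hsurj
  have := BaseSurj.isLocalHom_right A R S hsurj
  let T := R ⊗[A] S
  have hT : IsIndEtale R T := IsInd.baseChange isGood_etale h R
  change (n : ℕ∞) ≤ ENat.card (minimalPrimes T) at hn
  rw [← encard_gens_closedPoint] at hn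
  obtain ⟨ι, _, t, ht⟩ := EtNbhd.exists_family T (closedPoint T) n hn
  choose σ hσ using fun i => BaseSurj.surj A R S hsurj (t i)
  obtain ⟨U, g, _, a, V, hag, hV⟩ := EtNbhd.exists_nbhd X (f.fiberι s z) S h σ
  let c : Spec (CommRingCat.of T) ⟶ Spec (CommRingCat.of S) := Spec.map (CommRingCat.ofHom
    (Algebra.TensorProduct.includeRight : S →ₐ[A] R ⊗[A] S).toRingHom)
  have hpb := isPullback_fiberMap f s g
  have hc : (c ≫ a) ≫ g = Hens2.specOf (f.fiber s) z T ≫ f.fiberι s := by
    rw [Category.assoc, hag, Hens2.specOf, Hens2.specOf, Category.assoc,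
      ← Scheme.SpecMap_stalkMap_fromSpecStalk, ← Category.assoc, ← Category.assoc, ← Spec.map_comp,
      ← Spec.map_comp]
    congr 2
    ext x
    exact congr($(BaseSurj.comp_eq A R S hsurj) x).symm
  let b := hpb.lift (c ≫ a) (Hens2.specOf (f.fiber s) z T) hc
  have hb1 : b ≫ (g ≫ f).fiberι s = c ≫ a := hpb.lift_fst _ _ _
  have hb2 : b ≫ MoreMor.fiberMap g f s = Hens2.specOf (f.fiber s) z T := hpb.lift_snd _ _ _
  have := etale_fiberMap f s g
  have hw := EtNbhd.weaklyEtale_specOf (f.fiber s) z T hT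
  rw [← hb2] at hw
  have hgen := EtNbhd.generalizingMap (MoreMor.fiberMap g f s) b hw
  have hcl : c (closedPoint T) = closedPoint S :=
    IsLocalRing.comap_closedPoint (Algebra.TensorProduct.includeRight : S →ₐ[A] R ⊗[A] S).toRingHom
  have hbpt : (g ≫ f).fiberι s (b (closedPoint T)) = a (closedPoint S) := by
    rw [← Scheme.Hom.comp_apply, hb1, Scheme.Hom.comp_apply, hcl]
  refine ⟨U, g, inferInstance, a, hag, ?_, ?_⟩
  · rw [← Scheme.Hom.comp_apply, hag]
    exact Groth.Agent.Pi1C.StrictHensConn.specOf_closedPoint X (f.fiberι s z) S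
  · rw [setOf_eq s (g ≫ f) (b (closedPoint T)) _ hbpt, encard_gens]
    refine ht ((g ≫ f).fiber s) b b.continuous hgen (fun i => ((g ≫ f).fiberι s ⁻¹' (V i : Set U))) ?_
    intro i y
    have h1 := hV i (c y)
    have h2 : (g ≫ f).fiberι s (b y) = a (c y) := by
      rw [← Scheme.Hom.comp_apply, hb1, Scheme.Hom.comp_apply]
    change (g ≫ f).fiberι s (b y) ∈ V i ↔ _
    rw [h2, h1, ← hσ i]
    rfl

end Lower

theorem numBranchesAt_eq_iSup :
    numBranchesAt (f.fiber s) z = ⨆ (U : Scheme.{u}) (g : U ⟶ X) (u : U)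
      (_ : Hens2.IsEtaleNbhd g u (f.fiberι s z)),
      {Z : Set ↑((g ≫ f).fiber s) | Z ∈ irreducibleComponents ↑((g ≫ f).fiber s) ∧
        ∃ u' ∈ Z, (g ≫ f).fiberι s u' = u}.encard := by
  apply le_antisymm
  · obtain ⟨S, _, _, _, _, hS, -⟩ :=
      Groth.Agent.Hensel.Exist.exists_isHenselization (R := X.presheaf.stalk (f.fiberι s z))
    have := Groth.Agent.Hensel.Lazard.faithfullyFlat_of_isHenselization
      (X.presheaf.stalk (f.fiberι s z)) S
    let _ : Algebra (X.presheaf.stalk (f.fiberι s z)) ((f.fiber s).presheaf.stalk z) :=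
      ((f.fiberι s).stalkMap z).hom.toAlgebra
    have hsurj : Function.Surjective (algebraMap (X.presheaf.stalk (f.fiberι s z))
      ((f.fiber s).presheaf.stalk z)) := (f.fiberι s).stalkMap_surjective z
    have hc := BaseSurj.card_minimalPrimes_eq_numBranches (X.presheaf.stalk (f.fiberι s z))
      ((f.fiber s).presheaf.stalk z) S hsurj
    have hc' : _ = numBranchesAt (f.fiber s) z := hc
    rw [← hc']
    refine ENat.forall_natCast_le_iff_le.1 fun n hn => ?_
    obtain ⟨U, g, _, a, hag, -, hn'⟩ := exists_nbhd_gens f s z S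
      (Groth.Agent.Hensel.Lazard.laz_of_isHenselization _ _) n hn
    have hnb := isEtaleNbhd X (f.fiberι s z) S g a hag
      (Groth.Agent.Hensel.Exist.residueField_bijective_of_isHenselization _ _)
    refine hn'.trans ?_
    refine le_trans ?_ (le_iSup _ U)
    refine le_trans ?_ (le_iSup _ g)
    refine le_trans ?_ (le_iSup _ (a (closedPoint S)))
    exact le_iSup (fun _ : Hens2.IsEtaleNbhd g (a (closedPoint S)) (f.fiberι s z) =>
      {Z : Set ↑((g ≫ f).fiber s) | Z ∈ irreducibleComponents ↑((g ≫ f).fiber s) ∧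
        ∃ u' ∈ Z, (g ≫ f).fiberι s u' = a (closedPoint S)}.encard) hnb
  · refine iSup_le fun U => iSup_le fun g => iSup_le fun u => iSup_le fun h => ?_
    exact encard_le f s z g u h

theorem numGeomBranchesAt_eq_iSup :
    numGeomBranchesAt (f.fiber s) z = ⨆ (U : Scheme.{u}) (g : U ⟶ X) (u : U)
      (_ : Etale g ∧ g u = f.fiberι s z),
      {Z : Set ↑((g ≫ f).fiber s) | Z ∈ irreducibleComponents ↑((g ≫ f).fiber s) ∧
        ∃ u' ∈ Z, (g ≫ f).fiberι s u' = u}.encard := by
  apply le_antisymm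
  · obtain ⟨S, _, _, _, _, hS, -⟩ :=
      Groth.Agent.Hensel.Exist.exists_isStrictHenselization (R := X.presheaf.stalk (f.fiberι s z))
    have := Groth.Agent.Hensel.Lazard.faithfullyFlat_of_isStrictHenselization
      (X.presheaf.stalk (f.fiberι s z)) S
    let _ : Algebra (X.presheaf.stalk (f.fiberι s z)) ((f.fiber s).presheaf.stalk z) :=
      ((f.fiberι s).stalkMap z).hom.toAlgebra
    have hsurj : Function.Surjective (algebraMap (X.presheaf.stalk (f.fiberι s z))
      ((f.fiber s).presheaf.stalk z)) := (f.fiberι s).stalkMap_surjective z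
    have hc := BaseSurj.card_minimalPrimes_eq_numGeomBranches (X.presheaf.stalk (f.fiberι s z))
      ((f.fiber s).presheaf.stalk z) S hsurj
    have hc' : _ = numGeomBranchesAt (f.fiber s) z := hc
    rw [← hc']
    refine ENat.forall_natCast_le_iff_le.1 fun n hn => ?_
    obtain ⟨U, g, hg, a, hag, hgx, hn'⟩ := exists_nbhd_gens f s z S
      (Groth.Agent.Hensel.Lazard.laz_of_isStrictHenselization _ _) n hn
    refine hn'.trans ?_
    refine le_trans ?_ (le_iSup _ U)
    refine le_trans ?_ (le_iSup _ g)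
    refine le_trans ?_ (le_iSup _ (a (closedPoint S)))
    exact le_iSup (fun _ : Etale g ∧ g (a (closedPoint S)) = f.fiberι s z =>
      {Z : Set ↑((g ≫ f).fiber s) | Z ∈ irreducibleComponents ↑((g ≫ f).fiber s) ∧
        ∃ u' ∈ Z, (g ≫ f).fiberι s u' = a (closedPoint S)}.encard) ⟨hg, hgx⟩
  · refine iSup_le fun U => iSup_le fun g => iSup_le fun u => iSup_le fun h => ?_
    have := h.1
    exact encard_le_geom f s z g u h.2

end K580.FibreCount
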