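import Groth.Agent.Brnch.K580.HullBij

/-!
# Minimal primes of a flat henselian local algebra `S` over `A` and maximal ideals of `normRed A ⊗ S`
-/

set_option autoImplicit false
universe u

noncomputable section

namespace K580.FlatBij

open TensorProduct CAlg2 IsLocalRing K580.NormRed K580.PiSpec K580.SumMin K580.Unibranch K580.HullBij

/-- Abstract form, for flat algebras. -/
theorem bijOn_of {A A' Ah : Type u} [CommRing A] [CommRing A'] [CommRing Ah] [Algebra A A'] [Algebra A Ah]
    [Algebra.IsIntegral A A'] [Module.Flat A Ah]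
    (S : Submonoid A) (hS : ∀ s ∈ S, algebraMap A A' s ∈ nonZeroDivisors A')
    (hden : ∀ a : A', ∃ s ∈ S, ∃ r : A, algebraMap A A' s * a = algebraMap A A' r)
    (hker : ∀ x ∈ RingHom.ker (Algebra.TensorProduct.includeRight.toRingHom : Ah →+* A' ⊗[A] Ah), IsNilpotent x) :
    Set.BijOn (fun P : Ideal (A' ⊗[A] Ah) =>
        P.comap (Algebra.TensorProduct.includeRight.toRingHom : Ah →+* A' ⊗[A] Ah))
      (minimalPrimes (A' ⊗[A] Ah)) (minimalPrimes Ah) := by
  -- the minimal primes of the tensor product meet `A` in a set disjoint from `S`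
  have hdisj : ∀ P : Ideal (A' ⊗[A] Ah), P ∈ minimalPrimes (A' ⊗[A] Ah) → ∀ s ∈ S,
      algebraMap A (A' ⊗[A] Ah) s ∉ P := by
    intro P hP s hs hmem
    have h1 := Groth.Agent.S2125.comap_mem_minimalPrimes (R := A') hP
    have h2 : algebraMap A A' s ∈ P.comap (algebraMap A' (A' ⊗[A] Ah)) := by
      rw [Ideal.mem_comap, ← IsScalarTower.algebraMap_apply A A' (A' ⊗[A] Ah)]; exact hmem
    exact (Ideal.disjoint_nonZeroDivisors_of_mem_minimalPrimes h1).le_bot ⟨h2, hS s hs⟩
  have hcomm : ∀ r : A, (Algebra.TensorProduct.includeRight.toRingHom : Ah →+* A' ⊗[A] Ah) (algebraMap A Ah r) =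
      algebraMap A (A' ⊗[A] Ah) r := fun r => (Algebra.TensorProduct.includeRight : Ah →ₐ[A] A' ⊗[A] Ah).commutes r
  letI : Algebra Ah (A' ⊗[A] Ah) := Algebra.TensorProduct.rightAlgebra
  have hint : Algebra.IsIntegral Ah (A' ⊗[A] Ah) := isIntegral_tensor A'
  have halg : (algebraMap Ah (A' ⊗[A] Ah)) =
    (Algebra.TensorProduct.includeRight.toRingHom : Ah →+* A' ⊗[A] Ah) := rfl
  -- primes disjoint from `S` are determined by their contraction
  have key : ∀ P₁ P₂ : Ideal (A' ⊗[A] Ah), P₂.IsPrime →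
      (∀ s ∈ S, algebraMap A (A' ⊗[A] Ah) s ∉ P₂) →
      P₁.comap (Algebra.TensorProduct.includeRight.toRingHom : Ah →+* A' ⊗[A] Ah) ≤
        P₂.comap (Algebra.TensorProduct.includeRight.toRingHom : Ah →+* A' ⊗[A] Ah) → P₁ ≤ P₂ := by
    intro P₁ P₂ hP₂p hP₂ hle b hb
    have hb' : ∃ s ∈ S, ∃ h : Ah, algebraMap A (A' ⊗[A] Ah) s * b =
        (Algebra.TensorProduct.includeRight.toRingHom : Ah →+* A' ⊗[A] Ah) h := by
      clear hb
      induction b using TensorProduct.induction_on with
      | zero => exact ⟨1, S.one_mem, 0, by simp⟩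
      | tmul a x =>
        obtain ⟨s, hs, r, hr⟩ := hden a
        refine ⟨s, hs, r • x, ?_⟩
        rw [Algebra.TensorProduct.algebraMap_apply, Algebra.TensorProduct.tmul_mul_tmul, hr]
        simp [Algebra.algebraMap_eq_smul_one, TensorProduct.smul_tmul]
      | add x y hx hy =>
        obtain ⟨s, hs, r, hr⟩ := hx
        obtain ⟨t, ht, q, hq⟩ := hy
        refine ⟨s * t, S.mul_mem hs ht, algebraMap A Ah t * r + algebraMap A Ah s * q, ?_⟩
        rw [map_add, map_mul, map_mul, map_mul, hcomm, hcomm, ← hr, ← hq]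
        ring
    obtain ⟨s, hs, h, hh⟩ := hb'
    have h1 : h ∈ P₁.comap (Algebra.TensorProduct.includeRight.toRingHom : Ah →+* A' ⊗[A] Ah) := by
      rw [Ideal.mem_comap, ← hh]; exact P₁.mul_mem_left _ hb
    have h2 := hle h1
    rw [Ideal.mem_comap, ← hh] at h2
    exact (hP₂p.mem_or_mem h2).resolve_left (hP₂ s hs)
  -- lying over
  have hover : ∀ P : Ideal Ah, P.IsPrime → ∃ Q : Ideal (A' ⊗[A] Ah), Q.IsPrime ∧
      Q.comap (algebraMap Ah (A' ⊗[A] Ah)) = P := by
    intro P hPp
    obtain ⟨Q, -, hQ, hQP⟩ := Ideal.exists_ideal_over_prime_of_isIntegral (S := A' ⊗[A] Ah) P ⊥ (by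
      intro x hx
      obtain ⟨n, hn⟩ := hker x hx
      exact hPp.mem_of_pow_mem n (hn ▸ P.zero_mem))
    exact ⟨Q, hQ, hQP⟩
  refine ⟨?_, ?_, ?_⟩
  · intro P hP
    have hPp : P.IsPrime := hP.1.1
    have : (P.comap (Algebra.TensorProduct.includeRight.toRingHom : Ah →+* A' ⊗[A] Ah)).IsPrime :=
      Ideal.comap_isPrime _ _
    refine ⟨⟨this, bot_le⟩, ?_⟩
    rintro Q' ⟨hQ', -⟩ hle
    obtain ⟨Q, hQ, hQQ'⟩ := hover Q' hQ'
    have h1 : Q ≤ P := key Q P hPp (hdisj P hP) (by
      change Q.comap (algebraMap Ah (A' ⊗[A] Ah)) ≤ _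
      rw [hQQ']; exact hle)
    have h2 : P ≤ Q := hP.2 ⟨hQ, bot_le⟩ h1
    rw [← hQQ']
    exact Ideal.comap_mono h2
  · intro P₁ hP₁ P₂ hP₂ heq
    exact le_antisymm (key _ _ hP₂.1.1 (hdisj _ hP₂) (le_of_eq heq))
      (key _ _ hP₁.1.1 (hdisj _ hP₁) (le_of_eq heq.symm))
  · intro P hP
    have hPp : P.IsPrime := hP.1.1
    obtain ⟨Q, hQ, hQP⟩ := hover P hPp
    refine ⟨Q, ⟨⟨hQ, bot_le⟩, ?_⟩, hQP⟩
    rintro Q' ⟨hQ', -⟩ hle
    have h1 : Q'.comap (algebraMap Ah (A' ⊗[A] Ah)) ≤ P := hQP ▸ Ideal.comap_mono hle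
    have h2 : Q'.comap (algebraMap Ah (A' ⊗[A] Ah)) = P :=
      le_antisymm h1 (hP.2 ⟨Ideal.comap_isPrime _ _, bot_le⟩ h1)
    intro x hx
    by_contra hxn
    have h3 := Ideal.comap_lt_comap_of_integral_mem_sdiff (R := Ah) hle ⟨hx, hxn⟩
      (Algebra.IsIntegral.isIntegral (R := Ah) x)
    rw [h2, hQP] at h3
    exact lt_irrefl _ h3

section Bij

variable {A S : Type u} [CommRing A] [CommRing S] [Algebra A S]

/-- Contraction is a bijection from the minimal primes of `normRed A ⊗ S` to those of `S`, for `S` flat over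
the nonzero ring `A`. -/
theorem bijOn_comap [Nontrivial A] [hff : Module.Flat A S] :
    Set.BijOn (fun P : Ideal (normRed A ⊗[A] S) =>
        P.comap (Algebra.TensorProduct.includeRight.toRingHom : S →+* (normRed A) ⊗[A] S))
      (minimalPrimes (normRed A ⊗[A] S)) (minimalPrimes S) := by
  have hmap : ∀ r : A, algebraMap A (CAlg2.normRed A) r =
      algebraMap (CAlg2.red A) (CAlg2.normRed A) (Ideal.Quotient.mk (nilradical A) r) := fun r => rfl
  have hnt : Nontrivial (CAlg2.red A) := by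
    refine Ideal.Quotient.nontrivial_iff.2 ?_
    intro h
    have h1 : (1 : A) ∈ nilradical A := h ▸ Submodule.mem_top
    exact not_isNilpotent_one h1
  have hint : Algebra.IsIntegral A (CAlg2.normRed A) := isIntegral_normRed A
  have hinj : Function.Injective (algebraMap (CAlg2.red A) (CAlg2.normRed A)) := by
    have h1 : Function.Injective (algebraMap (CAlg2.red A) (FractionRing (CAlg2.red A))) :=
      IsFractionRing.injective _ _
    exact Function.Injective.of_comp (f := ((↑) : CAlg2.normRed A → FractionRing (CAlg2.red A))) h1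
  refine bijOn_of
    ((nonZeroDivisors (CAlg2.red A)).comap (Ideal.Quotient.mk (nilradical A)).toMonoidHom) ?_ ?_ ?_
  · intro s hs
    rw [hmap, mem_nonZeroDivisors_iff_right]
    intro x hx
    have h1 : IsUnit (algebraMap (CAlg2.red A) (FractionRing (CAlg2.red A)) (Ideal.Quotient.mk (nilradical A) s)) :=
      IsLocalization.map_units (M := nonZeroDivisors (CAlg2.red A)) (FractionRing (CAlg2.red A))
        ⟨Ideal.Quotient.mk (nilradical A) s, hs⟩
    have h2 : (x : FractionRing (CAlg2.red A)) *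
        algebraMap (CAlg2.red A) (FractionRing (CAlg2.red A)) (Ideal.Quotient.mk (nilradical A) s) = 0 :=
      congrArg (fun y : CAlg2.normRed A => (y : FractionRing (CAlg2.red A))) hx
    exact Subtype.ext ((h1.mul_left_eq_zero).1 h2)
  · intro a
    obtain ⟨⟨r, s⟩, h⟩ := IsLocalization.surj (nonZeroDivisors (CAlg2.red A)) (a : FractionRing (CAlg2.red A))
    obtain ⟨r', hr'⟩ := Ideal.Quotient.mk_surjective r
    obtain ⟨s', hs'⟩ := Ideal.Quotient.mk_surjective (s : CAlg2.red A)
    refine ⟨s', ?_, r', ?_⟩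
    · have h1 : Ideal.Quotient.mk (nilradical A) s' ∈ nonZeroDivisors (CAlg2.red A) := by
        rw [hs']; exact s.2
      exact h1
    · rw [hmap, hmap, hs', hr', mul_comm]
      exact Subtype.ext h
  · intro x hx
    have h1 : ((1 : CAlg2.normRed A) ⊗ₜ[A] x : (CAlg2.normRed A) ⊗[A] S) = 0 := hx
    let i : CAlg2.red A →ₗ[A] CAlg2.normRed A :=
      (Algebra.linearMap (CAlg2.red A) (CAlg2.normRed A)).restrictScalars A
    have h2 : Function.Injective (LinearMap.rTensor S i) :=
      Module.Flat.rTensor_preserves_injective_linearMap i hinj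
    have h3 : ((1 : CAlg2.red A) ⊗ₜ[A] x : (CAlg2.red A) ⊗[A] S) = 0 := by
      apply h2
      rw [map_zero, LinearMap.rTensor_tmul]
      have : i 1 = 1 := map_one (algebraMap (CAlg2.red A) (CAlg2.normRed A))
      rw [this, h1]
    have h4 := congrArg (TensorProduct.quotTensorEquivQuotSMul S (nilradical A)) h3
    rw [map_zero] at h4
    have h5 : (Submodule.Quotient.mk x : S ⧸ (nilradical A • (⊤ : Submodule A S))) = 0 := by
      rw [← h4]
      have := TensorProduct.quotTensorEquivQuotSMul_mk_tmul (nilradical A) (1 : A) x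
      rw [one_smul] at this
      exact this.symm
    rw [Submodule.Quotient.mk_eq_zero] at h5
    have h6 : (nilradical A • (⊤ : Submodule A S)) ≤ (nilradical S).restrictScalars A := by
      rw [Submodule.smul_le]
      intro r hr y _
      rw [Algebra.smul_def]
      exact Ideal.mul_mem_right _ _ (by
        change IsNilpotent _
        exact IsNilpotent.map (show IsNilpotent r from hr) (algebraMap A S))
    exact h6 h5

end Bij

section Card

/-- A bijection between minimal primes and maximal ideals. -/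
theorem card_minimalPrimes_eq_card_maximalSpectrum {A S N : Type u} [CommRing A] [CommRing S]
    [HenselianLocalRing S] [Algebra A S] [CommRing N] [Algebra A N] [Algebra.IsIntegral A N]
    (h : ∀ (n : Ideal (N ⊗[A] S)) [n.IsPrime], IsDomain (Localization.AtPrime n)) :
    ENat.card (minimalPrimes (N ⊗[A] S)) = ENat.card (MaximalSpectrum (N ⊗[A] S)) := by
  have h1 : ∀ q : minimalPrimes (N ⊗[A] S), ∃! m : Ideal (N ⊗[A] S), m.IsMaximal ∧ q.1 ≤ m := fun q => by
    have : q.1.IsPrime := q.2.1.1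
    exact existsUnique_maximal_tensor q.1
  have h2 : ∀ m : MaximalSpectrum (N ⊗[A] S), ∃! q : Ideal (N ⊗[A] S),
      q ∈ minimalPrimes (N ⊗[A] S) ∧ q ≤ m.asIdeal := fun m => by
    have := m.isMaximal.isPrime
    exact existsUnique_minimalPrime_le m.asIdeal (h m.asIdeal)
  choose f hf hf' using h1
  choose g hg hg' using h2
  refine ENat.card_congr
    { toFun := fun q => ⟨f q, (hf q).1⟩
      invFun := fun m => ⟨g m, (hg m).1⟩
      left_inv := fun q => Subtype.ext (hg' _ q.1 ⟨q.2, (hf q).2⟩).symm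
      right_inv := fun m => MaximalSpectrum.ext (hf' _ m.asIdeal ⟨m.isMaximal, (hg m).2⟩).symm }

/-- The number of minimal primes of `S` is the number of maximal ideals of `normRed A ⊗ S`. -/
theorem card_minimalPrimes_eq {A S : Type u} [CommRing A] [Nontrivial A] [CommRing S]
    [HenselianLocalRing S] [Algebra A S] [Module.Flat A S]
    (h : ∀ (n : Ideal (normRed A ⊗[A] S)) [n.IsPrime], IsDomain (Localization.AtPrime n)) :
    ENat.card (minimalPrimes S) = ENat.card (MaximalSpectrum (normRed A ⊗[A] S)) := by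
  have hint : Algebra.IsIntegral A (CAlg2.normRed A) := isIntegral_normRed A
  rw [← card_minimalPrimes_eq_card_maximalSpectrum (N := normRed A) h]
  exact (ENat.card_congr ((bijOn_comap (A := A) (S := S)).equiv _)).symm

end Card

end K580.FlatBij
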