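import Mathlib.Topology.Sober
import Mathlib.Data.Set.Card
import Mathlib.AlgebraicGeometry.Stalk
import Mathlib.AlgebraicGeometry.Properties
import Mathlib.RingTheory.Spectrum.Prime.Topology
import Mathlib.RingTheory.Ideal.MinimalPrime.Basic

/-!
# Maximal generizations of a point

For a point `x` of a sober space the irreducible components through `x` correspond to the maximal
generizations of `x`; for a scheme these are the minimal primes of the local ring at `x`.
-/

set_option autoImplicit false
universe u

open Topology

namespace K580.GenPts

/-- The maximal generizations of a point. -/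
def gens {X : Type*} [TopologicalSpace X] (x : X) : Set X := {y | y ⤳ x ∧ ∀ z, z ⤳ y → z = y}

theorem closure_mem_irreducibleComponents {X : Type*} [TopologicalSpace X] [QuasiSober X] {y : X}
    (hy : ∀ z, z ⤳ y → z = y) : closure {y} ∈ irreducibleComponents X := by
  refine ⟨isIrreducible_singleton.closure, fun W hW hle => ?_⟩
  obtain ⟨z, hz⟩ := QuasiSober.sober hW.closure isClosed_closure
  have h1 : z ⤳ y := by
    rw [specializes_iff_mem_closure, hz.def]
    exact subset_closure (hle (subset_closure rfl))
  rw [hy z h1] at hz
  rw [hz.def]
  exact subset_closure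

/-- Irreducible components through a point and maximal generizations. -/
theorem encard_gens {X : Type*} [TopologicalSpace X] [QuasiSober X] [T0Space X] (x : X) :
    {Z : Set X | Z ∈ irreducibleComponents X ∧ x ∈ Z}.encard = (gens x).encard := by
  have himg : (fun y => closure {y}) '' gens x = {Z : Set X | Z ∈ irreducibleComponents X ∧ x ∈ Z} := by
    ext Z
    constructor
    · rintro ⟨y, ⟨hyx, hy⟩, rfl⟩
      exact ⟨closure_mem_irreducibleComponents hy, specializes_iff_mem_closure.1 hyx⟩
    · rintro ⟨hZ, hx⟩
      obtain ⟨y, hy⟩ := QuasiSober.sober hZ.1 (isClosed_of_mem_irreducibleComponents Z hZ)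
      refine ⟨y, ⟨?_, fun z hz => ?_⟩, hy⟩
      · rw [specializes_iff_mem_closure, hy.def]
        exact hx
      · have h1 : Z ⊆ closure {z} := by
          rw [← hy.def]
          exact hz.closure_subset
        have h2 : closure {z} ⊆ Z := hZ.2 isIrreducible_singleton.closure h1
        have h3 : y ⤳ z := by
          rw [specializes_iff_mem_closure, hy.def]
          exact h2 (subset_closure rfl)
        exact (hz.antisymm h3).eq
  rw [← himg]
  refine Set.InjOn.encard_image ?_
  intro y _ z _ h
  have h' : closure {y} = closure {z} := h
  exact (inseparable_iff_closure_eq.2 h').eq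

/-- A continuous generalizing map sends maximal generizations to maximal generizations. -/
theorem mapsTo_gens {X Y : Type*} [TopologicalSpace X] [TopologicalSpace Y] {f : X → Y}
    (hf : Continuous f) (hg : GeneralizingMap f) (x : X) : Set.MapsTo f (gens x) (gens (f x)) := by
  rintro y ⟨hyx, hy⟩
  refine ⟨hyx.map hf, fun z hz => ?_⟩
  obtain ⟨y', hy', rfl⟩ := hg hz
  rw [hy y' hy']

/-- The maximal generizations of the closed point are the minimal primes. -/
theorem encard_gens_closedPoint (A : Type*) [CommRing A] [IsLocalRing A] :
    (gens (IsLocalRing.closedPoint A)).encard = ENat.card (minimalPrimes A) := by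
  have himg : PrimeSpectrum.asIdeal '' gens (IsLocalRing.closedPoint A) = minimalPrimes A := by
    ext p
    constructor
    · rintro ⟨y, ⟨-, hy⟩, rfl⟩
      refine ⟨⟨y.2, bot_le⟩, fun q hq hle => ?_⟩
      have := hy ⟨q, hq.1⟩ ((PrimeSpectrum.le_iff_specializes _ _).1 hle)
      rw [← this]
    · intro hp
      have : p.IsPrime := hp.1.1
      refine ⟨⟨p, this⟩, ⟨?_, fun z hz => ?_⟩, rfl⟩
      · rw [← PrimeSpectrum.le_iff_specializes]
        exact IsLocalRing.le_maximalIdeal this.ne_top
      · rw [← PrimeSpectrum.le_iff_specializes] at hz
        exact PrimeSpectrum.ext (le_antisymm hz (hp.2 ⟨z.2, bot_le⟩ hz))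
  change _ = (minimalPrimes A).encard
  rw [← himg]
  have hinj : Function.Injective (PrimeSpectrum.asIdeal (R := A)) := fun _ _ h => PrimeSpectrum.ext h
  exact hinj.injOn.encard_image.symm

open AlgebraicGeometry CategoryTheory

/-- The maximal generizations of a point of a scheme are the minimal primes of its local ring. -/
theorem encard_gens_scheme (X : Scheme.{u}) (x : X) :
    (gens x).encard = ENat.card (minimalPrimes (X.presheaf.stalk x)) := by
  rw [← encard_gens_closedPoint]
  have hemb : IsEmbedding (X.fromSpecStalk x) := (X.fromSpecStalk x).isEmbedding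
  have himg : X.fromSpecStalk x '' gens (IsLocalRing.closedPoint (X.presheaf.stalk x)) = gens x := by
    ext y
    constructor
    · rintro ⟨z, ⟨-, hz⟩, rfl⟩
      have hr : X.fromSpecStalk x z ⤳ x := by
        have h0 : X.fromSpecStalk x z ∈ Set.range (X.fromSpecStalk x) := ⟨z, rfl⟩
        rw [Scheme.range_fromSpecStalk] at h0
        exact h0
      refine ⟨hr, fun w hw => ?_⟩
      have h1 : w ∈ Set.range (X.fromSpecStalk x) := by
        rw [Scheme.range_fromSpecStalk]
        exact hw.trans hr
      obtain ⟨w, rfl⟩ := h1
      rw [hz w (hemb.isInducing.specializes_iff.1 hw)]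
    · rintro ⟨hyx, hy⟩
      have h1 : y ∈ Set.range (X.fromSpecStalk x) := by
        rw [Scheme.range_fromSpecStalk]
        exact hyx
      obtain ⟨y, rfl⟩ := h1
      refine ⟨y, ⟨?_, fun z hz => ?_⟩, rfl⟩
      · exact (IsLocalRing.specializes_closedPoint y)
      · exact hemb.injective (hy _ (hz.map (X.fromSpecStalk x).continuous))
  rw [← himg]
  exact hemb.injective.injOn.encard_image

/-- The number of irreducible components through a point of a scheme is the number of minimal primes
of its local ring. -/
theorem encard_components (X : Scheme.{u}) (x : X) :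
    {Z : Set X | Z ∈ irreducibleComponents X ∧ x ∈ Z}.encard =
      ENat.card (minimalPrimes (X.presheaf.stalk x)) :=
  (encard_gens x).trans (encard_gens_scheme X x)

end K580.GenPts
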