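import Groth.Agent.Brnch.K580.FlatBij
import Groth.Agent.Brnch.K580.CountHens
import Groth.Agent.Brnch.K580.Cpl
import Groth.Agent.Ega4B.UnibFormal
import Groth.Agent.S2641
import Groth.Agent.S2646

/-!
# Branches of the completion of a ring with geometrically normal formal fibres
-/

set_option autoImplicit false
universe u

noncomputable section

namespace K580.GeomNorm

open TensorProduct CAlg2 IsLocalRing Brnch K580.HullBij K580.MaxTensor K580.EmbCount K580.SumMin
  Groth.Agent.Desc.NormalSmooth

variable (A : Type u) [CommRing A] [IsLocalRing A] [IsNoetherianRing A]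

/-- The normalization is finite. -/
theorem finite_normRed (hA : EGA4.HasGeomNormalFormalFibres A) : Module.Finite A (normRed A) := by
  have hnt : Nontrivial (red A) := by
    refine Ideal.Quotient.nontrivial_iff.2 ?_
    intro h
    have h1 : (1 : A) ∈ nilradical A := h ▸ Submodule.mem_top
    exact not_isNilpotent_one h1
  have h1 : IsLocalRing (red A) := inferInstance
  have h2 : IsReduced (red A) := inferInstance
  have h3 : EGA4.HasGeomNormalFormalFibres (red A) := Groth.Agent.S2641.result A hA (red A)
  have h4 : Module.Finite (red A) (normRed A) := (Groth.Agent.S2646.result (red A) h3).2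
  exact Module.Finite.trans (red A) (normRed A)

theorem isNormalHom (hA : EGA4.HasGeomNormalFormalFibres A) :
    EGA4.IsNormalHom A (AdicCompletion (maximalIdeal A) A) :=
  ⟨(Cpl.faithfullyFlat A).toFlat, fun p _ => hA p⟩

omit [IsLocalRing A] in
theorem isNormalRing_normRed : EGA4.IsNormalRing (normRed A) := fun q _ =>
  normalAt_normRed A (minimalPrimes.finite_of_isNoetherianRing A) q

/-- `normRed A ⊗ Â` is a normal ring. -/
theorem isNormalRing_tensor (hA : EGA4.HasGeomNormalFormalFibres A) :
    EGA4.IsNormalRing (normRed A ⊗[A] AdicCompletion (maximalIdeal A) A) := by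
  have := finite_normRed A hA
  have hN : IsNoetherianRing (normRed A) := IsNoetherianRing.of_finite A _
  have := Cpl.isNoetherianRing A
  have : IsNoetherianRing (AdicCompletion (maximalIdeal A) A ⊗[A] normRed A) :=
    IsNoetherianRing.of_finite (AdicCompletion (maximalIdeal A) A) _
  have : IsNoetherianRing (normRed A ⊗[A] AdicCompletion (maximalIdeal A) A) :=
    isNoetherianRing_of_ringEquiv _ (Algebra.TensorProduct.comm A _ _).toRingEquiv
  exact Groth.Agent.Ega4B.UnibFormal.isNormalRing_of_isNormalHom (normRed A) _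
    (Groth.Agent.Ega4B.NormFinite.isNormalHom_finite_baseChange A _ _ (isNormalHom A hA))
    (isNormalRing_normRed A)

theorem numBranches_eq (hA : EGA4.HasGeomNormalFormalFibres A) :
    numBranches (AdicCompletion (maximalIdeal A) A) = numBranches A := by
  have hh := Cpl.henselian A
  have hf := Cpl.faithfullyFlat A
  have hint : Algebra.IsIntegral A (CAlg2.normRed A) := K580.Unibranch.isIntegral_normRed A
  rw [FlatLe.numBranches_of_henselian, FlatBij.card_minimalPrimes_eq (A := A)
    (fun n _ => (isNormalRing_tensor A hA n).1),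
    numBranches_of_finite (minimalPrimes.finite_of_isNoetherianRing A)]
  refine card_maximalSpectrum_of_residue (N := normRed A) ?_
  exact (AdicCompletion.residueField_map_bijective (R := A)).2

omit [IsLocalRing A] [IsNoetherianRing A] in
theorem normalAt_tensor_tower {A : Type u} [CommRing A] (N C T : Type u) [CommRing N] [Algebra A N]
    [CommRing C] [Algebra A C] [CommRing T] [Algebra A T] [Algebra C T] [IsScalarTower A C T]
    (hN : ∀ (q : Ideal (N ⊗[A] C)) [q.IsPrime], NormalAt (N ⊗[A] C) q)
    (hT : Groth.Agent.CalgC.IndEtale.IsIndEtale C T)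
    (n : Ideal (N ⊗[A] T)) [n.IsPrime] : NormalAt (N ⊗[A] T) n := by
  let e1 : T ⊗[C] (C ⊗[A] N) ≃+* T ⊗[A] N :=
    (Algebra.TensorProduct.cancelBaseChange A C T T N).toRingEquiv
  let e2 : T ⊗[A] N ≃+* N ⊗[A] T := (Algebra.TensorProduct.comm A T N).toRingEquiv
  let e3 : (C ⊗[A] N) ⊗[C] T ≃+* T ⊗[C] (C ⊗[A] N) :=
    (Algebra.TensorProduct.comm C (C ⊗[A] N) T).toRingEquiv
  let e : (N ⊗[A] T) ≃+* (C ⊗[A] N) ⊗[C] T := ((e3.trans e1).trans e2).symm
  have hq : (n.comap (e.symm : (C ⊗[A] N) ⊗[C] T →+* N ⊗[A] T)).IsPrime := Ideal.comap_isPrime _ _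
  refine normalAt_of_equiv e n (n.comap (e.symm : (C ⊗[A] N) ⊗[C] T →+* N ⊗[A] T)) ?_ ?_
  · ext x
    change x ∈ n ↔ e.symm (e x) ∈ n
    rw [e.symm_apply_apply]
  · refine normalAt_tensor (N := C ⊗[A] N) (fun q _ => ?_) hT _
    let e4 : C ⊗[A] N ≃+* N ⊗[A] C := (Algebra.TensorProduct.comm A C N).toRingEquiv
    have hq' : (q.comap (e4.symm : N ⊗[A] C →+* C ⊗[A] N)).IsPrime := Ideal.comap_isPrime _ _
    refine normalAt_of_equiv e4 q (q.comap (e4.symm : N ⊗[A] C →+* C ⊗[A] N)) ?_ (hN _)
    ext x
    change x ∈ q ↔ e4.symm (e4 x) ∈ q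
    rw [e4.symm_apply_apply]

/-- Normality of `normRed A ⊗ T` for `T` ind-étale over the completion. -/
theorem normalAt_tensor_of_indEtale (hA : EGA4.HasGeomNormalFormalFibres A) (T : Type u) [CommRing T]
    [Algebra A T] [Algebra (AdicCompletion (maximalIdeal A) A) T]
    [IsScalarTower A (AdicCompletion (maximalIdeal A) A) T]
    (hT : Groth.Agent.CalgC.IndEtale.IsIndEtale (AdicCompletion (maximalIdeal A) A) T)
    (n : Ideal (normRed A ⊗[A] T)) [n.IsPrime] : NormalAt (normRed A ⊗[A] T) n :=
  normalAt_tensor_tower (normRed A) (AdicCompletion (maximalIdeal A) A) T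
    (fun q _ => isNormalRing_tensor A hA q) hT n

theorem numGeomBranches_eq (hA : EGA4.HasGeomNormalFormalFibres A) :
    numGeomBranches (AdicCompletion (maximalIdeal A) A) = numGeomBranches A := by
  have hh := Cpl.henselian A
  have hf := Cpl.faithfullyFlat A
  have hint : Algebra.IsIntegral A (CAlg2.normRed A) := K580.Unibranch.isIntegral_normRed A
  obtain ⟨T, _, _, _, _, hT, -⟩ := Groth.Agent.Hensel.Exist.exists_isStrictHenselization
      (R := AdicCompletion (maximalIdeal A) A)
  have := hT.henselian
  have h0 : IsSepClosure (ResidueField (AdicCompletion (maximalIdeal A) A)) (ResidueField T) := hT.isSepClosure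
  have h1 : IsSepClosed (ResidueField T) := h0.sep_closed
  have hsep : Algebra.IsSeparable (ResidueField (AdicCompletion (maximalIdeal A) A)) (ResidueField T) :=
    h0.separable
  have halg : Algebra.IsAlgebraic (ResidueField (AdicCompletion (maximalIdeal A) A)) (ResidueField T) :=
    inferInstance
  have hind := Groth.Agent.Hensel.Lazard.laz_of_isStrictHenselization (AdicCompletion (maximalIdeal A) A) T
  have hfT := HullBij.flat hind
  let _ : Algebra A T := ((algebraMap (AdicCompletion (maximalIdeal A) A) T).comp
    (algebraMap A (AdicCompletion (maximalIdeal A) A))).toAlgebra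
  have tow : IsScalarTower A (AdicCompletion (maximalIdeal A) A) T := IsScalarTower.of_algebraMap_eq fun _ => rfl
  have hl : IsLocalHom (algebraMap A T) := RingHom.isLocalHom_comp _ _
  have hfl : Module.Flat A T := Module.Flat.trans A (AdicCompletion (maximalIdeal A) A) T
  have hb := AdicCompletion.residueField_map_bijective (R := A)
  have halg' : Algebra.IsAlgebraic (ResidueField A) (ResidueField T) := by
    have h2 : Algebra.IsAlgebraic (ResidueField A) (ResidueField (AdicCompletion (maximalIdeal A) A)) :=
      ⟨fun x => by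
        obtain ⟨y, rfl⟩ := hb.2 x
        exact isAlgebraic_algebraMap y⟩
    exact Algebra.IsAlgebraic.trans (ResidueField A) (ResidueField (AdicCompletion (maximalIdeal A) A)) _
  rw [← CountHens.strictHenselization _ T, FlatBij.card_minimalPrimes_eq (A := A)
    (fun n _ => (normalAt_tensor_of_indEtale A hA T hind n).1),
    numGeomBranches_of_finite (minimalPrimes.finite_of_isNoetherianRing A)]
  refine (card_maximalSpectrum_of_isSepClosed (N := normRed A)).trans ?_
  exact (card_sigma_embG A (normRed A)).symm

end K580.GeomNorm
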