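import Groth.Agent.S0522
import Mathlib.RingTheory.Flat.FaithfullyFlat.Algebra
import Mathlib.RingTheory.LocalRing.RingHom.Basic

/-!
# Descent of idempotents of finite algebras from `A'` to a henselian local ring `A`

`A → A'` is a flat local homomorphism with `m A' = m'` and trivial residue field extension, for instance
the completion.
-/

set_option autoImplicit false
universe u

noncomputable section

namespace K580.IdemDesc

open TensorProduct IsLocalRing

variable {A A' : Type u} [CommRing A] [CommRing A'] [IsLocalRing A'] [Algebra A A']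

omit [IsLocalRing A'] in
theorem comp_eq (E : Type u) [CommRing E] [Algebra A E] :
    (Algebra.TensorProduct.includeRight : A' →ₐ[A] E ⊗[A] A').toRingHom.comp (algebraMap A A') =
      (algebraMap E (E ⊗[A] A')).comp (algebraMap A E) := by
  ext a
  change (1 : E) ⊗ₜ[A] algebraMap A A' a = algebraMap A E a ⊗ₜ[A] (1 : A')
  rw [Algebra.algebraMap_eq_smul_one, Algebra.algebraMap_eq_smul_one, TensorProduct.smul_tmul]

/-- Every element of `E ⊗ A'` comes from `E` modulo the maximal ideal. -/
theorem exists_sub_mem [IsLocalRing A]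
    (hm : (maximalIdeal A).map (algebraMap A A') = maximalIdeal A')
    (hres : ∀ y : A', ∃ a : A, y - algebraMap A A' a ∈ maximalIdeal A')
    (E : Type u) [CommRing E] [Algebra A E] (z : E ⊗[A] A') :
    ∃ u : E, z - algebraMap E (E ⊗[A] A') u ∈ 
      ((maximalIdeal A).map (algebraMap A E)).map (algebraMap E (E ⊗[A] A')) := by
  induction z using TensorProduct.induction_on with
  | zero => exact ⟨0, by rw [map_zero, sub_zero]; exact Ideal.zero_mem _⟩
  | tmul u y =>
    obtain ⟨a, ha⟩ := hres y
    refine ⟨a • u, ?_⟩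
    have h1 : u ⊗ₜ[A] y - algebraMap E (E ⊗[A] A') (a • u) =
        algebraMap E (E ⊗[A] A') u * (1 ⊗ₜ[A] (y - algebraMap A A' a)) := by
      rw [Algebra.TensorProduct.algebraMap_apply, Algebra.TensorProduct.algebraMap_apply,
        Algebra.TensorProduct.tmul_mul_tmul, mul_one, one_mul, TensorProduct.tmul_sub,
        Algebra.algebraMap_self, RingHom.id_apply, RingHom.id_apply]
      congr 1
      rw [Algebra.algebraMap_eq_smul_one, TensorProduct.smul_tmul]
    rw [h1]
    refine Ideal.mul_mem_left _ _ ?_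
    have h2 : ∀ w ∈ (maximalIdeal A).map (algebraMap A A'), (1 ⊗ₜ[A] w : E ⊗[A] A') ∈
        ((maximalIdeal A).map (algebraMap A E)).map (algebraMap E (E ⊗[A] A')) := by
      intro w hw
      have h3 : ((maximalIdeal A).map (algebraMap A A')).map
          (Algebra.TensorProduct.includeRight : A' →ₐ[A] E ⊗[A] A').toRingHom ≤
          ((maximalIdeal A).map (algebraMap A E)).map (algebraMap E (E ⊗[A] A')) := by
        rw [Ideal.map_map, Ideal.map_map, comp_eq]
      exact h3 (Ideal.mem_map_of_mem _ hw)
    rw [hm] at h2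
    exact h2 _ ha
  | add z₁ z₂ h₁ h₂ =>
    obtain ⟨u₁, hu₁⟩ := h₁
    obtain ⟨u₂, hu₂⟩ := h₂
    refine ⟨u₁ + u₂, ?_⟩
    rw [map_add, add_sub_add_comm]
    exact Ideal.add_mem _ hu₁ hu₂

/-- Idempotents of `E ⊗ A'` come from `E`, for `E` integral over a henselian local ring. -/
theorem exists_idempotent [HenselianLocalRing A] [Module.Flat A A']
    (hm : (maximalIdeal A).map (algebraMap A A') = maximalIdeal A')
    (hres : ∀ y : A', ∃ a : A, y - algebraMap A A' a ∈ maximalIdeal A')
    (E : Type u) [CommRing E] [Algebra A E] [Algebra.IsIntegral A E] (z : E ⊗[A] A')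
    (hz : IsIdempotentElem z) :
    ∃ e : E, IsIdempotentElem e ∧ algebraMap E (E ⊗[A] A') e = z := by
  have hloc : IsLocalHom (algebraMap A A') :=
    ((local_hom_TFAE (algebraMap A A')).out 0 2).2 hm.le
  have hff : Module.FaithfullyFlat A A' := Module.FaithfullyFlat.of_flat_of_isLocalHom
  let I := (maximalIdeal A).map (algebraMap A E)
  obtain ⟨u, hu⟩ := exists_sub_mem hm hres E z
  -- `u` is idempotent modulo `m E`
  have h1 : u * u - u ∈ I := by
    have h2 : algebraMap E (E ⊗[A] A') (u * u - u) ∈ I.map (algebraMap E (E ⊗[A] A')) := by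
      have hz' : z * z = z := hz
      have h3 : algebraMap E (E ⊗[A] A') (u * u - u) =
          (z - algebraMap E (E ⊗[A] A') u) * (1 - z - algebraMap E (E ⊗[A] A') u) := by
        rw [map_sub, map_mul]
        linear_combination hz'
      rw [h3]
      exact Ideal.mul_mem_right _ _ hu
    rw [← Ideal.mem_comap, Ideal.comap_map_eq_self_of_faithfullyFlat] at h2
    exact h2
  obtain ⟨e, he, heu⟩ := (Groth.Agent.S0522.bijOn_of_henselianRing A (maximalIdeal A) inferInstance E
    inferInstance).surjOn (a := Ideal.Quotient.mk _ u) (by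
      change Ideal.Quotient.mk _ u * Ideal.Quotient.mk _ u = _
      rw [← map_mul, Ideal.Quotient.eq]
      exact h1)
  refine ⟨e, he, ?_⟩
  have h4 : algebraMap E (E ⊗[A] A') e - z ∈ I.map (algebraMap E (E ⊗[A] A')) := by
    have h5 : algebraMap E (E ⊗[A] A') e - z =
        algebraMap E (E ⊗[A] A') (e - u) - (z - algebraMap E (E ⊗[A] A') u) := by
      rw [map_sub]; ring
    rw [h5]
    exact Ideal.sub_mem _ (Ideal.mem_map_of_mem _ (Ideal.Quotient.eq.1 heu)) hu
  refine Groth.Agent.Hensel.PairIdem.eq_of_isIdempotentElem_of_sub_mem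
    (I.map (algebraMap E (E ⊗[A] A'))) ?_ _ _ (IsIdempotentElem.map he (algebraMap E (E ⊗[A] A'))) hz h4
  -- `m (E ⊗ A')` is in the Jacobson radical
  rw [Ideal.jacobson, le_sInf_iff]
  rintro M ⟨-, hM⟩
  let ρ := (Algebra.TensorProduct.includeRight : A' →ₐ[A] E ⊗[A] A').toRingHom
  have hint : ρ.IsIntegral := by
    have h6 : (algebraMap A' (A' ⊗[A] E)).IsIntegral := algebraMap_isIntegral_iff.2 inferInstance
    have h7 := h6.trans _ (Algebra.TensorProduct.comm A A' E).toRingHom
      (RingHom.isIntegral_of_surjective _ (Algebra.TensorProduct.comm A A' E).surjective)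
    exact h7
  have h8 : (M.comap ρ).IsMaximal := Ideal.isMaximal_comap_of_isIntegral_of_isMaximal' ρ hint M
  have h9 : I.map (algebraMap E (E ⊗[A] A')) = (maximalIdeal A').map ρ := by
    rw [← hm, Ideal.map_map, Ideal.map_map, comp_eq]
  rw [h9, Ideal.map_le_iff_le_comap]
  exact (IsLocalRing.eq_maximalIdeal h8).ge

end K580.IdemDesc
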