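import Groth.Agent.Brnch.K580.HullBij

/-!
# Maximal ideals of `N ⊗ S` for `N` integral over `A` and `S` a (strictly henselian) local algebra
-/

set_option autoImplicit false
universe u

noncomputable section

namespace K580.MaxTensor

open TensorProduct CAlg2 IsLocalRing Brnch K580.EmbCount

variable {A S N : Type u} [CommRing A] [IsLocalRing A] [CommRing S] [IsLocalRing S] [Algebra A S]
  [CommRing N] [Algebra A N] [Algebra.IsIntegral A N]

omit [IsLocalRing A] in
/-- Maximal ideals of `N ⊗ S` lie over the maximal ideal of `S`. -/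
theorem comap_right_eq (n : Ideal (N ⊗[A] S)) [n.IsMaximal] :
    n.comap (Algebra.TensorProduct.includeRight : S →ₐ[A] N ⊗[A] S) = maximalIdeal S := by
  let : Algebra S (N ⊗[A] S) := Algebra.TensorProduct.rightAlgebra
  have : Algebra.IsIntegral S (N ⊗[A] S) := HullBij.isIntegral_tensor N
  have h1 : (n.comap (algebraMap S (N ⊗[A] S))).IsMaximal := Ideal.isMaximal_comap_of_isIntegral_of_isMaximal n
  exact IsLocalRing.eq_maximalIdeal h1

omit [IsLocalRing A] in
/-- A prime of `N ⊗ S` lying over the maximal ideal of `S` is maximal. -/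
theorem isMaximal_of_comap_right (n : Ideal (N ⊗[A] S)) [n.IsPrime]
    (h : n.comap (Algebra.TensorProduct.includeRight : S →ₐ[A] N ⊗[A] S) = maximalIdeal S) : n.IsMaximal := by
  let : Algebra S (N ⊗[A] S) := Algebra.TensorProduct.rightAlgebra
  have : Algebra.IsIntegral S (N ⊗[A] S) := HullBij.isIntegral_tensor N
  have h1 : (n.comap (algebraMap S (N ⊗[A] S))).IsMaximal := by
    have h2 : n.comap (algebraMap S (N ⊗[A] S)) = maximalIdeal S := h
    rw [h2]
    exact maximalIdeal.isMaximal S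
  exact Ideal.isMaximal_of_isIntegral_of_isMaximal_comap n h1

theorem comap_algebraMap_eq [IsLocalHom (algebraMap A S)] (n : Ideal (N ⊗[A] S)) [n.IsMaximal] :
    n.comap (algebraMap A (N ⊗[A] S)) = maximalIdeal A := by
  have h1 : algebraMap A (N ⊗[A] S) =
      (Algebra.TensorProduct.includeRight : S →ₐ[A] N ⊗[A] S).toRingHom.comp (algebraMap A S) :=
    (Algebra.TensorProduct.includeRight : S →ₐ[A] N ⊗[A] S).comp_algebraMap.symm
  rw [h1, ← Ideal.comap_comap]
  have h2 : n.comap (Algebra.TensorProduct.includeRight : S →ₐ[A] N ⊗[A] S).toRingHom = maximalIdeal S :=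
    comap_right_eq n
  rw [h2]
  exact ((local_hom_TFAE (algebraMap A S)).out 0 4 rfl rfl).mp ‹_›

theorem isMaximal_comap_left [IsLocalHom (algebraMap A S)] (n : Ideal (N ⊗[A] S)) [n.IsMaximal] :
    (n.comap (Algebra.TensorProduct.includeLeft : N →ₐ[A] N ⊗[A] S)).IsMaximal := by
  have h1 : ((n.comap (Algebra.TensorProduct.includeLeft : N →ₐ[A] N ⊗[A] S)).comap (algebraMap A N)).IsMaximal := by
    have h2 : (n.comap (Algebra.TensorProduct.includeLeft : N →ₐ[A] N ⊗[A] S)).comap (algebraMap A N) =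
        n.comap (algebraMap A (N ⊗[A] S)) := by
      ext x
      simp only [Ideal.mem_comap]
      rw [AlgHom.commutes]
    rw [h2, comap_algebraMap_eq]
    exact maximalIdeal.isMaximal A
  exact Ideal.isMaximal_of_isIntegral_of_isMaximal_comap _ h1

/-- If `S` and `A` have the same residue field, the maximal ideals of `N ⊗ S` are those of `N`. -/
theorem card_maximalSpectrum_of_residue [IsLocalHom (algebraMap A S)] [Module.FaithfullyFlat A S]
    (hres : Function.Surjective (ResidueField.map (algebraMap A S))) :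
    ENat.card (MaximalSpectrum (N ⊗[A] S)) = ENat.card (MaximalSpectrum N) := by
  let i : N →ₐ[A] N ⊗[A] S := Algebra.TensorProduct.includeLeft
  let j : S →ₐ[A] N ⊗[A] S := Algebra.TensorProduct.includeRight
  -- every element is congruent to an element of `N`
  have hT : ∀ t : N ⊗[A] S, ∃ c : N, t - i c ∈ (maximalIdeal S).map j := by
    intro t
    induction t using TensorProduct.induction_on with
    | zero => exact ⟨0, by simp⟩
    | tmul c s =>
      obtain ⟨y, hy⟩ := hres (residue S s)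
      obtain ⟨a, rfl⟩ := residue_surjective y
      have hsa : s - algebraMap A S a ∈ maximalIdeal S := by
        rw [← residue_eq_zero_iff, map_sub, ← hy, ResidueField.map_residue, sub_self]
      refine ⟨a • c, ?_⟩
      have h1 : c ⊗ₜ[A] s - i (a • c) = i c * j (s - algebraMap A S a) := by
        change c ⊗ₜ[A] s - (a • c) ⊗ₜ 1 = (c ⊗ₜ 1) * (1 ⊗ₜ _)
        rw [Algebra.TensorProduct.tmul_mul_tmul, mul_one, one_mul, TensorProduct.tmul_sub,
          TensorProduct.smul_tmul, Algebra.smul_def, mul_one]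
      rw [h1]
      exact Ideal.mul_mem_left _ _ (Ideal.mem_map_of_mem j hsa)
    | add x y hx hy =>
      obtain ⟨c, hc⟩ := hx
      obtain ⟨d, hd⟩ := hy
      refine ⟨c + d, ?_⟩
      rw [map_add, add_sub_add_comm]
      exact Ideal.add_mem _ hc hd
  have hle : ∀ n : Ideal (N ⊗[A] S), n.IsMaximal → (maximalIdeal S).map j ≤ n := by
    intro n hn
    rw [Ideal.map_le_iff_le_comap, comap_right_eq n]
  have hmem : ∀ n : Ideal (N ⊗[A] S), n.IsMaximal → ∀ t c, t - i c ∈ (maximalIdeal S).map j →
      (t ∈ n ↔ c ∈ n.comap i) := by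
    intro n hn t c htc
    have := hle n hn htc
    rw [Ideal.mem_comap]
    constructor
    · intro h
      have := n.sub_mem h this
      simpa using this
    · intro h
      have := n.add_mem h this
      simpa using this
  refine ENat.card_congr (Equiv.ofBijective
    (fun n : MaximalSpectrum (N ⊗[A] S) => (⟨n.asIdeal.comap i, have := n.isMaximal
      isMaximal_comap_left n.asIdeal⟩ : MaximalSpectrum N)) ⟨?_, ?_⟩)
  · intro n n' h
    have h1 : n.asIdeal.comap i = n'.asIdeal.comap i := congrArg MaximalSpectrum.asIdeal h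
    apply MaximalSpectrum.ext
    ext t
    obtain ⟨c, hc⟩ := hT t
    rw [hmem _ n.isMaximal t c hc, hmem _ n'.isMaximal t c hc, h1]
  · intro m
    have := m.isMaximal
    obtain ⟨Q, hQ, hQm⟩ := Ideal.exists_isPrime_liesOver_of_faithfullyFlat (A := N) (B := N ⊗[A] S) m.asIdeal
    obtain ⟨n, hn, hQn⟩ := Ideal.exists_le_maximal Q hQ.ne_top
    refine ⟨⟨n, hn⟩, MaximalSpectrum.ext ?_⟩
    symm
    refine m.isMaximal.eq_of_le ?_ ?_
    · exact (isMaximal_comap_left n).ne_top
    · rw [hQm.over]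
      exact Ideal.comap_mono hQn

section Hom

variable (A N)

/-- Ring maps `N → Ω` over `A → Ω`, `Ω` the algebraic closure of the residue field of `A`. -/
abbrev HomOver : Type u :=
  {ρ : N →+* AlgebraicClosure (ResidueField A) // ρ.comp (algebraMap A N) = toClosure A}

/-- The residue map of `N` at a maximal ideal, from `A`. -/
abbrev resAt (m : MaximalSpectrum N) : A →+* N ⧸ m.asIdeal :=
  (Ideal.Quotient.mk m.asIdeal).comp (algebraMap A N)

theorem card_sigma_embG : ENat.card (Σ m : MaximalSpectrum N, EmbG A (resAt A N m)) = ENat.card (HomOver A N) := by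
  refine ENat.card_congr (Equiv.ofBijective (fun x => (⟨x.2.1.comp (Ideal.Quotient.mk x.1.asIdeal), by
    rw [RingHom.comp_assoc]; exact x.2.2⟩ : HomOver A N)) ⟨?_, ?_⟩)
  · rintro ⟨m, σ⟩ ⟨n, τ⟩ h
    have h1 : σ.1.comp (Ideal.Quotient.mk m.asIdeal) = τ.1.comp (Ideal.Quotient.mk n.asIdeal) :=
      congrArg Subtype.val h
    have hker : ∀ (m : MaximalSpectrum N) (σ : EmbG A (resAt A N m)),
        RingHom.ker (σ.1.comp (Ideal.Quotient.mk m.asIdeal)) = m.asIdeal := by
      intro m σ
      have := m.isMaximal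
      let := Ideal.Quotient.field m.asIdeal
      rw [RingHom.ker_comp_of_injective, Ideal.mk_ker]
      exact σ.1.injective
    have h2 : m = n := MaximalSpectrum.ext (by rw [← hker m σ, h1, hker n τ])
    subst h2
    have h3 : σ = τ := Subtype.ext ((RingHom.cancel_right Ideal.Quotient.mk_surjective).1 h1)
    rw [h3]
  · intro ρ
    have h1 : (RingHom.ker ρ.1).IsPrime := RingHom.ker_isPrime _
    have h2 : (RingHom.ker ρ.1).comap (algebraMap A N) = maximalIdeal A := by
      rw [RingHom.comap_ker, ρ.2, ← ker_residue (R := A)]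
      exact RingHom.ker_comp_of_injective _ (algebraMap (ResidueField A) (AlgebraicClosure (ResidueField A))).injective
    have h3 : (RingHom.ker ρ.1).IsMaximal := by
      refine Ideal.isMaximal_of_isIntegral_of_isMaximal_comap (R := A) _ ?_
      rw [h2]
      exact maximalIdeal.isMaximal A
    refine ⟨⟨⟨RingHom.ker ρ.1, h3⟩, ⟨Ideal.Quotient.lift _ ρ.1 (fun a ha => ha), ?_⟩⟩, ?_⟩
    · exact ρ.2
    · rfl

end Hom


section Strict

variable [IsLocalHom (algebraMap A S)]

/-- Residue field of `S` inside the residue field of `N ⊗ S` at a maximal ideal. -/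
def toL (n : Ideal (N ⊗[A] S)) [n.IsMaximal] : ResidueField S →+* (N ⊗[A] S) ⧸ n :=
  Ideal.Quotient.lift (maximalIdeal S)
    ((Ideal.Quotient.mk n).comp (Algebra.TensorProduct.includeRight : S →ₐ[A] N ⊗[A] S).toRingHom) (by
      intro s hs
      rw [← comap_right_eq n] at hs
      exact Ideal.Quotient.eq_zero_iff_mem.2 hs)

omit [IsLocalRing A] [IsLocalHom (algebraMap A S)] in
theorem isIntegral_toL (n : Ideal (N ⊗[A] S)) [n.IsMaximal] : (toL (N := N) n).IsIntegral := by
  let : Algebra S (N ⊗[A] S) := Algebra.TensorProduct.rightAlgebra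
  have : Algebra.IsIntegral S (N ⊗[A] S) := HullBij.isIntegral_tensor N
  intro x
  obtain ⟨x, rfl⟩ := Ideal.Quotient.mk_surjective x
  obtain ⟨f, hf, hfx⟩ := Algebra.IsIntegral.isIntegral (R := S) x
  refine RingHom.IsIntegralElem.of_comp (f := residue S) (g := toL (N := N) n) ⟨f, hf, ?_⟩
  have h1 := Polynomial.hom_eval₂ f (algebraMap S (N ⊗[A] S)) (Ideal.Quotient.mk n) x
  rw [hfx, map_zero] at h1
  exact h1.symm

/-- If the residue field of `S` is separably closed and algebraic over that of `A`, the maximal ideals of `N ⊗ S`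
correspond to the maps from `N` to the algebraic closure of the residue field of `A`. -/
theorem card_maximalSpectrum_of_isSepClosed [IsSepClosed (ResidueField S)]
    [Algebra.IsAlgebraic (ResidueField A) (ResidueField S)] :
    ENat.card (MaximalSpectrum (N ⊗[A] S)) = ENat.card (HomOver A N) := by
  let Ω := AlgebraicClosure (ResidueField A)
  let ι : ResidueField S →ₐ[ResidueField A] Ω := IsAlgClosed.lift
  have hAΩ : ∀ a : A, algebraMap A Ω a = toClosure A a := fun a => rfl
  let jS : S →ₐ[A] Ω :=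
    { (ι : ResidueField S →+* Ω).comp (residue S) with
      commutes' := fun a => by
        change ι (residue S (algebraMap A S a)) = _
        rw [← ResidueField.map_residue, hAΩ]
        exact ι.commutes (residue A a) }
  have hjS : ∀ s, jS s = ι (residue S s) := fun s => rfl
  have hkerjS : RingHom.ker (jS : S →+* Ω) = maximalIdeal S := by
    rw [← ker_residue (R := S)]
    exact RingHom.ker_comp_of_injective _ (ι : ResidueField S →+* Ω).injective
  let toAlg : HomOver A N → (N →ₐ[A] Ω) := fun ρ => { ρ.1 with commutes' := fun a => DFunLike.congr_fun ρ.2 a }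
  let Φ : HomOver A N → (N ⊗[A] S →ₐ[A] Ω) := fun ρ =>
    Algebra.TensorProduct.lift (toAlg ρ) jS (fun _ _ => Commute.all _ _)
  have hΦl : ∀ ρ c, Φ ρ (c ⊗ₜ 1) = ρ.1 c := fun ρ c => by
    change Algebra.TensorProduct.lift _ _ _ _ = _
    rw [Algebra.TensorProduct.lift_tmul, map_one, mul_one]
    rfl
  have hΦr : ∀ ρ s, Φ ρ (1 ⊗ₜ s) = jS s := fun ρ s => by
    change Algebra.TensorProduct.lift _ _ _ _ = _
    rw [Algebra.TensorProduct.lift_tmul, map_one, one_mul]
  have hmax : ∀ ρ, (RingHom.ker (Φ ρ : N ⊗[A] S →+* Ω)).IsMaximal := fun ρ => by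
    have : (RingHom.ker (Φ ρ : N ⊗[A] S →+* Ω)).IsPrime := RingHom.ker_isPrime _
    refine isMaximal_of_comap_right _ ?_
    rw [← hkerjS]
    ext s
    change Φ ρ (1 ⊗ₜ s) = 0 ↔ jS s = 0
    rw [hΦr]
  refine (ENat.card_congr (Equiv.ofBijective
    (fun ρ : HomOver A N => (⟨RingHom.ker (Φ ρ : N ⊗[A] S →+* Ω), hmax ρ⟩ : MaximalSpectrum (N ⊗[A] S)))
    ⟨?_, ?_⟩)).symm
  · intro ρ ρ' h
    have h1 : RingHom.ker (Φ ρ : N ⊗[A] S →+* Ω) = RingHom.ker (Φ ρ' : N ⊗[A] S →+* Ω) :=
      congrArg MaximalSpectrum.asIdeal h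
    let n := RingHom.ker (Φ ρ : N ⊗[A] S →+* Ω)
    have hn : n.IsMaximal := hmax ρ
    let := Ideal.Quotient.field n
    let φ : (N ⊗[A] S) ⧸ n →+* Ω := Ideal.Quotient.lift n (Φ ρ : N ⊗[A] S →+* Ω) (fun a ha => ha)
    let φ' : (N ⊗[A] S) ⧸ n →+* Ω := Ideal.Quotient.lift n (Φ ρ' : N ⊗[A] S →+* Ω) (fun a ha => by
      have h2 : a ∈ RingHom.ker (Φ ρ' : N ⊗[A] S →+* Ω) := h1 ▸ ha
      exact h2)
    let := (toL (N := N) n).toAlgebra
    have hint : Algebra.IsIntegral (ResidueField S) ((N ⊗[A] S) ⧸ n) := ⟨isIntegral_toL n⟩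
    have hpi : IsPurelyInseparable (ResidueField S) ((N ⊗[A] S) ⧸ n) := inferInstance
    have h3 : φ = φ' := by
      apply IsPurelyInseparable.injective_comp_algebraMap (ResidueField S) ((N ⊗[A] S) ⧸ n) Ω
      refine RingHom.ext fun x => ?_
      obtain ⟨s, rfl⟩ := residue_surjective x
      change Φ ρ (1 ⊗ₜ s) = Φ ρ' (1 ⊗ₜ s)
      rw [hΦr, hΦr]
    apply Subtype.ext
    refine RingHom.ext fun c => ?_
    rw [← hΦl, ← hΦl]
    exact DFunLike.congr_fun h3 (Ideal.Quotient.mk n (c ⊗ₜ 1))
  · intro m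
    have hm := m.isMaximal
    let := Ideal.Quotient.field m.asIdeal
    let := (toL (N := N) m.asIdeal).toAlgebra
    have hint : Algebra.IsIntegral (ResidueField S) ((N ⊗[A] S) ⧸ m.asIdeal) := ⟨isIntegral_toL m.asIdeal⟩
    let := (ι : ResidueField S →+* Ω).toAlgebra
    let φ : ((N ⊗[A] S) ⧸ m.asIdeal) →ₐ[ResidueField S] Ω := IsAlgClosed.lift
    have hφ : ∀ s : S, φ (Ideal.Quotient.mk m.asIdeal (1 ⊗ₜ s)) = jS s := fun s => φ.commutes (residue S s)
    have hcomm : ∀ a : A, φ (Ideal.Quotient.mk m.asIdeal ((algebraMap A N a) ⊗ₜ 1)) = toClosure A a := by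
      intro a
      rw [← Algebra.TensorProduct.algebraMap_apply, Algebra.TensorProduct.algebraMap_apply', hφ, ← hAΩ]
      exact jS.commutes a
    let ρ : HomOver A N := ⟨(φ : _ →+* Ω).comp ((Ideal.Quotient.mk m.asIdeal).comp
      (Algebra.TensorProduct.includeLeft : N →ₐ[A] N ⊗[A] S).toRingHom), RingHom.ext hcomm⟩
    refine ⟨ρ, MaximalSpectrum.ext ?_⟩
    have h1 : ∀ t : N ⊗[A] S, Φ ρ t = φ (Ideal.Quotient.mk m.asIdeal t) := by
      intro t
      induction t using TensorProduct.induction_on with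
      | zero => simp
      | tmul c s =>
        have h2 : c ⊗ₜ[A] s = (c ⊗ₜ 1) * (1 ⊗ₜ s) := by
          rw [Algebra.TensorProduct.tmul_mul_tmul, mul_one, one_mul]
        rw [h2, map_mul, map_mul, map_mul, hΦl, hΦr, hφ]
        rfl
      | add x y hx hy => rw [map_add, map_add, map_add, hx, hy]
    ext t
    change Φ ρ t = 0 ↔ t ∈ m.asIdeal
    rw [h1, map_eq_zero_iff φ φ.toRingHom.injective, Ideal.Quotient.eq_zero_iff_mem]

end Strict

end K580.MaxTensor
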