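import Groth.Agent.Brnch.K580.EtNbhd
import Groth.Agent.Brnch.K580.FlatLe
import Groth.Agent.AlgSp.K624.HensNbhd
import Groth.Agent.S1467

/-!
# Branches of a scheme at a point through étale neighbourhoods
-/

set_option autoImplicit false
universe u

noncomputable section

open AlgebraicGeometry CategoryTheory Limits IsLocalRing

namespace K580.NbhdCount

open Groth.Agent.CalgC.IndEtale K580.GenPts Brnch

theorem card_minimalPrimes_le_numBranches (A : Type u) [CommRing A] [IsLocalRing A] :
    ENat.card (minimalPrimes A) ≤ numBranches A := by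
  obtain ⟨S, _, _, _, _, hS, -⟩ := Groth.Agent.Hensel.Exist.exists_isHenselization (R := A)
  have := Groth.Agent.Hensel.Lazard.faithfullyFlat_of_isHenselization A S
  rw [← CountHens.henselization A S]
  exact CountHens.card_minimalPrimes_le

theorem card_minimalPrimes_le_numGeomBranches (A : Type u) [CommRing A] [IsLocalRing A] :
    ENat.card (minimalPrimes A) ≤ numGeomBranches A := by
  obtain ⟨S, _, _, _, _, hS, -⟩ := Groth.Agent.Hensel.Exist.exists_isStrictHenselization (R := A)
  have := Groth.Agent.Hensel.Lazard.faithfullyFlat_of_isStrictHenselization A S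
  rw [← CountHens.strictHenselization A S]
  exact CountHens.card_minimalPrimes_le

/-- Branches do not change along elementary étale neighbourhoods. -/
theorem numBranchesAt_eq {X U : Scheme.{u}} {g : U ⟶ X} {u : U} {x : X} (h : Hens2.IsEtaleNbhd g u x) :
    numBranchesAt U u = numBranchesAt X x := by
  obtain ⟨h1, rfl, h2⟩ := h
  obtain ⟨R, _, _, _, _, hR, -⟩ :=
    Groth.Agent.Hensel.Exist.exists_isHenselization (R := U.presheaf.stalk u)
  obtain ⟨h3, h4⟩ := K624.HensNbhd.isHenselization_of_etale g u h2 R
  let _ : Algebra (X.presheaf.stalk (g u)) R :=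
      ((algebraMap (U.presheaf.stalk u) R).comp (g.stalkMap u).hom).toAlgebra
  exact (CountHens.henselization (U.presheaf.stalk u) R).symm.trans
    (CountHens.henselization (X.presheaf.stalk (g u)) R)

/-- Geometric branches do not change along weakly étale morphisms. -/
theorem numGeomBranchesAt_eq {X U : Scheme.{u}} (g : U ⟶ X) [WeaklyEtale g] (u : U) :
    numGeomBranchesAt U u = numGeomBranchesAt X (g u) := by
  obtain ⟨R, _, _, _, _, hR, -⟩ :=
    Groth.Agent.Hensel.Exist.exists_isStrictHenselization (R := U.presheaf.stalk u)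
  obtain ⟨h3, h4⟩ := (Groth.Agent.S1467.result g).1 inferInstance u R
  let _ : Algebra (X.presheaf.stalk (g u)) R :=
      ((algebraMap (U.presheaf.stalk u) R).comp (g.stalkMap u).hom).toAlgebra
  exact (CountHens.strictHenselization (U.presheaf.stalk u) R).symm.trans
    (CountHens.strictHenselization (X.presheaf.stalk (g u)) R)

/-- The number of components through a point is at most the number of branches. -/
theorem encard_components_le (X : Scheme.{u}) (x : X) :
    {Z : Set X | Z ∈ irreducibleComponents X ∧ x ∈ Z}.encard ≤ numBranchesAt X x := by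
  rw [encard_components]
  exact card_minimalPrimes_le_numBranches _

theorem encard_components_le_geom (X : Scheme.{u}) (x : X) :
    {Z : Set X | Z ∈ irreducibleComponents X ∧ x ∈ Z}.encard ≤ numGeomBranchesAt X x := by
  rw [encard_components]
  exact card_minimalPrimes_le_numGeomBranches _

section Lower

variable (X : Scheme.{u}) (x : X) (S : Type u) [CommRing S] [IsLocalRing S]
    [Algebra (X.presheaf.stalk x) S] [IsLocalHom (algebraMap (X.presheaf.stalk x) S)]

/-- `n` minimal primes of an ind-étale local algebra over `O_{X,x}` are seen on an étale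
neighbourhood. -/
theorem exists_nbhd_gens (h : IsIndEtale (X.presheaf.stalk x) S) (n : ℕ)
    (hn : (n : ℕ∞) ≤ ENat.card (minimalPrimes S)) :
    ∃ (U : Scheme.{u}) (g : U ⟶ X) (_ : Etale g) (a : Spec (CommRingCat.of S) ⟶ U),
      a ≫ g = Hens2.specOf X x S ∧ g (a (closedPoint S)) = x ∧
      (n : ℕ∞) ≤ {Z : Set U | Z ∈ irreducibleComponents U ∧ a (closedPoint S) ∈ Z}.encard := by
  rw [← encard_gens_closedPoint] at hn
  obtain ⟨ι, _, s, hs⟩ := EtNbhd.exists_family S (closedPoint S) n hn
  obtain ⟨U, g, _, a, V, hag, hV⟩ := EtNbhd.exists_nbhd X x S h s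
  have hw := EtNbhd.weaklyEtale_specOf X x S h
  rw [← hag] at hw
  have hgen := EtNbhd.generalizingMap g a hw
  refine ⟨U, g, inferInstance, a, hag, ?_, ?_⟩
  · rw [← Scheme.Hom.comp_apply, hag]
    exact Groth.Agent.Pi1C.StrictHensConn.specOf_closedPoint X x S
  · rw [encard_gens]
    exact hs U a a.continuous hgen (fun i => (V i : Set U)) hV

/-- The étale neighbourhood has trivial residue field extension if the local algebra has. -/
theorem isEtaleNbhd {U : Scheme.{u}} (g : U ⟶ X) [Etale g] (a : Spec (CommRingCat.of S) ⟶ U)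
    (hag : a ≫ g = Hens2.specOf X x S)
    (hres : Function.Bijective (ResidueField.map (algebraMap (X.presheaf.stalk x) S))) :
    Hens2.IsEtaleNbhd g (a (closedPoint S)) x := by
  let e : ResidueField (X.presheaf.stalk x) ≃+* ResidueField S := RingEquiv.ofBijective _ hres
  let σ : Spec (X.residueField x) ⟶ U :=
    Spec.map (CommRingCat.ofHom (e.symm.toRingHom.comp (residue S))) ≫ a
  have hσ : σ ≫ g = X.fromSpecResidueField x := by
    rw [Category.assoc, hag, Hens2.specOf, ← Category.assoc, ← Spec.map_comp]
    change _ = Spec.map (X.residue x) ≫ X.fromSpecStalk x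
    congr 2
    ext t
    change e.symm (residue S (algebraMap (X.presheaf.stalk x) S t)) = residue _ t
    rw [RingEquiv.symm_apply_eq]
    rfl
  have hpt : σ (closedPoint (X.residueField x)) = a (closedPoint S) := by
    change a (Spec.map (CommRingCat.ofHom (e.symm.toRingHom.comp (residue S))) _) = _
    congr 1
    exact IsLocalRing.comap_closedPoint (e.symm.toRingHom.comp (residue S))
  rw [← hpt]
  exact Groth.Agent.Grpsch.EtLoc.isEtaleNbhd_of_lift g x σ hσ _

end Lower

/-- The branch number as a supremum over elementary étale neighbourhoods. -/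
theorem numBranchesAt_eq_iSup (X : Scheme.{u}) (x : X) :
    numBranchesAt X x = ⨆ (U : Scheme.{u}) (g : U ⟶ X) (u : U) (_ : Hens2.IsEtaleNbhd g u x),
      {Z : Set ↑U | Z ∈ irreducibleComponents ↑U ∧ u ∈ Z}.encard := by
  apply le_antisymm
  · obtain ⟨S, _, _, _, _, hS, -⟩ :=
      Groth.Agent.Hensel.Exist.exists_isHenselization (R := X.presheaf.stalk x)
    have hc : ENat.card (minimalPrimes S) = numBranchesAt X x :=
      CountHens.henselization (X.presheaf.stalk x) S
    rw [← hc]
    refine ENat.forall_natCast_le_iff_le.1 fun n hn => ?_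
    obtain ⟨U, g, _, a, hag, -, hn'⟩ := exists_nbhd_gens X x S
      (Groth.Agent.Hensel.Lazard.laz_of_isHenselization _ _) n hn
    have hnb := isEtaleNbhd X x S g a hag
      (Groth.Agent.Hensel.Exist.residueField_bijective_of_isHenselization _ _)
    refine hn'.trans ?_
    refine le_trans ?_ (le_iSup _ U)
    refine le_trans ?_ (le_iSup _ g)
    refine le_trans ?_ (le_iSup _ (a (closedPoint S)))
    exact le_iSup (fun _ : Hens2.IsEtaleNbhd g (a (closedPoint S)) x =>
      {Z : Set ↑U | Z ∈ irreducibleComponents ↑U ∧ a (closedPoint S) ∈ Z}.encard) hnb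
  · refine iSup_le fun U => iSup_le fun g => iSup_le fun u => iSup_le fun h => ?_
    rw [← numBranchesAt_eq h]
    exact encard_components_le U u

/-- The geometric branch number as a supremum over étale neighbourhoods. -/
theorem numGeomBranchesAt_eq_iSup (X : Scheme.{u}) (x : X) :
    numGeomBranchesAt X x = ⨆ (U : Scheme.{u}) (g : U ⟶ X) (u : U) (_ : Etale g ∧ g u = x),
      {Z : Set ↑U | Z ∈ irreducibleComponents ↑U ∧ u ∈ Z}.encard := by
  apply le_antisymm
  · obtain ⟨S, _, _, _, _, hS, -⟩ :=
      Groth.Agent.Hensel.Exist.exists_isStrictHenselization (R := X.presheaf.stalk x)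
    have hc : ENat.card (minimalPrimes S) = numGeomBranchesAt X x :=
      CountHens.strictHenselization (X.presheaf.stalk x) S
    rw [← hc]
    refine ENat.forall_natCast_le_iff_le.1 fun n hn => ?_
    obtain ⟨U, g, hg, a, hag, hgx, hn'⟩ := exists_nbhd_gens X x S
      (Groth.Agent.Hensel.Lazard.laz_of_isStrictHenselization _ _) n hn
    refine hn'.trans ?_
    refine le_trans ?_ (le_iSup _ U)
    refine le_trans ?_ (le_iSup _ g)
    refine le_trans ?_ (le_iSup _ (a (closedPoint S)))
    exact le_iSup (fun _ : Etale g ∧ g (a (closedPoint S)) = x =>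
      {Z : Set ↑U | Z ∈ irreducibleComponents ↑U ∧ a (closedPoint S) ∈ Z}.encard) ⟨hg, hgx⟩
  · refine iSup_le fun U => iSup_le fun g => iSup_le fun u => iSup_le fun h => ?_
    obtain ⟨h1, rfl⟩ := h
    rw [← numGeomBranchesAt_eq g u]
    exact encard_components_le_geom U u

end K580.NbhdCount
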