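import Groth.Agent.Brnch.K580.NbhdCount
import Groth.Agent.Brnch.K580.Unibranch

/-!
# (Geometrically) unibranch points through étale neighbourhoods
-/

set_option autoImplicit false
universe u

noncomputable section

open AlgebraicGeometry CategoryTheory Limits IsLocalRing

namespace K580.NbhdOne

open K580.GenPts K580.NbhdCount Brnch

theorem one_le_encard (U : Scheme.{u}) (u : U) :
    1 ≤ {Z : Set ↑U | Z ∈ irreducibleComponents ↑U ∧ u ∈ Z}.encard := by
  rw [Set.one_le_encard_iff_nonempty]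
  exact ⟨irreducibleComponent u, irreducibleComponent_mem_irreducibleComponents u,
    mem_irreducibleComponent⟩

theorem isUnibranch_iff (X : Scheme.{u}) (x : X) :
    CAlg2.IsUnibranch ↑(X.presheaf.stalk x) ↔ ∀ (U : Scheme.{u}) (g : U ⟶ X) (u : U),
      Hens2.IsEtaleNbhd g u x →
      {Z : Set ↑U | Z ∈ irreducibleComponents ↑U ∧ u ∈ Z}.encard = 1 := by
  have h0 : CAlg2.IsUnibranch ↑(X.presheaf.stalk x) ↔ numBranchesAt X x = 1 :=
    (Unibranch.numBranches_eq_one_iff (X.presheaf.stalk x)).symm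
  rw [h0]
  constructor
  · intro h U g u hg
    refine le_antisymm ?_ (one_le_encard U u)
    rw [← h, ← numBranchesAt_eq hg]
    exact encard_components_le U u
  · intro h
    rw [numBranchesAt_eq_iSup]
    apply le_antisymm
    · exact iSup_le fun U => iSup_le fun g => iSup_le fun u => iSup_le fun hg => (h U g u hg).le
    · have hid : Hens2.IsEtaleNbhd (𝟙 X) x x := by
        refine ⟨inferInstance, rfl, ?_⟩
        rw [Scheme.residueFieldMap_id]
        exact Function.bijective_id
      rw [← h X (𝟙 X) x hid]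
      refine le_trans ?_ (le_iSup _ X)
      refine le_trans ?_ (le_iSup _ (𝟙 X))
      refine le_trans ?_ (le_iSup _ x)
      exact le_iSup (fun _ : Hens2.IsEtaleNbhd (𝟙 X) x x =>
        {Z : Set ↑X | Z ∈ irreducibleComponents ↑X ∧ x ∈ Z}.encard) hid

theorem isGeomUnibranch_iff (X : Scheme.{u}) (x : X) :
    CAlg2.IsGeomUnibranch ↑(X.presheaf.stalk x) ↔ ∀ (U : Scheme.{u}) (g : U ⟶ X) (u : U),
      Etale g → g u = x → {Z : Set ↑U | Z ∈ irreducibleComponents ↑U ∧ u ∈ Z}.encard = 1 := by
  have h0 : CAlg2.IsGeomUnibranch ↑(X.presheaf.stalk x) ↔ numGeomBranchesAt X x = 1 :=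
    (Unibranch.numGeomBranches_eq_one_iff (X.presheaf.stalk x)).symm
  rw [h0]
  constructor
  · rintro h U g u hg rfl
    refine le_antisymm ?_ (one_le_encard U u)
    rw [← h, ← numGeomBranchesAt_eq g u]
    exact encard_components_le_geom U u
  · intro h
    rw [numGeomBranchesAt_eq_iSup]
    apply le_antisymm
    · exact iSup_le fun U => iSup_le fun g => iSup_le fun u => iSup_le fun hg => (h U g u hg.1 hg.2).le
    · have hid : Etale (𝟙 X) ∧ (𝟙 X : X ⟶ X) x = x := ⟨inferInstance, rfl⟩
      rw [← h X (𝟙 X) x hid.1 hid.2]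
      refine le_trans ?_ (le_iSup _ X)
      refine le_trans ?_ (le_iSup _ (𝟙 X))
      refine le_trans ?_ (le_iSup _ x)
      exact le_iSup (fun _ : Etale (𝟙 X) ∧ (𝟙 X : X ⟶ X) x = x =>
        {Z : Set ↑X | Z ∈ irreducibleComponents ↑X ∧ x ∈ Z}.encard) hid

end K580.NbhdOne
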