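import Groth.Prelude.Def_Brnch
import Groth.Agent.Ega4A.ReducedFrac
import Mathlib.RingTheory.Ideal.MinimalPrime.Localization
import Mathlib.Algebra.Group.Pi.Units

/-!
# The structure of `CAlg2.normRed A` when `A` has finitely many minimal primes

* `exists_fracEquiv`: the total ring of fractions of `A_red` is the product over the minimal primes `p` of `A`
  of the total rings of fractions of `(A/p)_red`.
* `exists_normRedEquiv`: `normRed A` is the product over the minimal primes `p` of `A` of the rings `normRed (A/p)`,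
  compatibly with the maps from `A`.
-/

set_option autoImplicit false
universe u

namespace K580.NormRed

open CAlg2

variable (A : Type u) [CommRing A]

theorem isPrime_minimalPrimes (p : minimalPrimes A) : p.1.IsPrime := p.2.1.1

theorem nilradical_eq_sInf : nilradical A = sInf (minimalPrimes A) := by
  rw [minimalPrimes, Ideal.sInf_minimalPrimes]; rfl

instance isReduced_red : IsReduced (red A) :=
  (Ideal.isRadical_iff_quotient_reduced _).1 (Ideal.radical_isRadical _)

variable {A}

/-- The kernel of `A → Frac ((A/p)_red)` is `p`. -/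
theorem algebraMap_frac_eq_zero_iff (p : Ideal A) [hp : p.IsPrime] (a : A) :
    algebraMap A (FractionRing (red (A ⧸ p))) a = 0 ↔ a ∈ p := by
  rw [IsScalarTower.algebraMap_apply A (red (A ⧸ p)) (FractionRing (red (A ⧸ p))),
    FaithfulSMul.algebraMap_eq_zero_iff, IsScalarTower.algebraMap_apply A (A ⧸ p) (red (A ⧸ p))]
  rw [show algebraMap (A ⧸ p) (red (A ⧸ p)) = Ideal.Quotient.mk _ from rfl, Ideal.Quotient.eq_zero_iff_mem,
    nilradical_eq_zero]
  exact Ideal.Quotient.eq_zero_iff_mem

/-- Every element of `Frac ((A/p)_red)` is a fraction of elements of `A`. -/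
theorem exists_frac (p : Ideal A) [hp : p.IsPrime] (z : FractionRing (red (A ⧸ p))) :
    ∃ a b : A, b ∉ p ∧ z * algebraMap A _ b = algebraMap A _ a := by
  obtain ⟨⟨r, s⟩, h⟩ := IsLocalization.surj (nonZeroDivisors (red (A ⧸ p))) z
  obtain ⟨r, rfl⟩ := Ideal.Quotient.mk_surjective r
  obtain ⟨r, rfl⟩ := Ideal.Quotient.mk_surjective r
  obtain ⟨s', hs'⟩ := Ideal.Quotient.mk_surjective (s : red (A ⧸ p))
  obtain ⟨t, rfl⟩ := Ideal.Quotient.mk_surjective s'
  refine ⟨r, t, ?_, ?_⟩
  · intro ht
    have h0 : (s : red (A ⧸ p)) = 0 := by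
      rw [← hs', Ideal.Quotient.eq_zero_iff_mem.2 ht, map_zero]
    have : Nontrivial (red (A ⧸ p)) := by
      refine Ideal.Quotient.nontrivial_iff.2 ?_
      rw [nilradical_eq_zero]
      exact bot_ne_top
    exact nonZeroDivisors.ne_zero s.2 h0
  · rw [IsScalarTower.algebraMap_apply A (red (A ⧸ p)) (FractionRing (red (A ⧸ p))) t,
      IsScalarTower.algebraMap_apply A (red (A ⧸ p)) (FractionRing (red (A ⧸ p))) r]
    have e1 : algebraMap A (red (A ⧸ p)) t = s := hs'
    rw [e1]
    exact h

/-- Product of elements outside: an element in all the minimal primes but `p`. -/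
theorem exists_mem_forall_ne (hfin : (minimalPrimes A).Finite) (p : minimalPrimes A) :
    ∃ e : A, e ∉ p.1 ∧ ∀ q : minimalPrimes A, q ≠ p → e ∈ q.1 := by
  classical
  have hp : p.1.IsPrime := p.2.1.1
  by_contra! hcon
  have h1 : (hfin.toFinset.erase p.1).inf id ≤ p.1 := by
    intro x hx
    by_contra hxp
    obtain ⟨q, hq, hxq⟩ := hcon x hxp
    apply hxq
    have h2 : (hfin.toFinset.erase p.1).inf id ≤ q.1 :=
      Finset.inf_le (f := id) (Finset.mem_erase.2 ⟨fun h => hq (Subtype.ext h), hfin.mem_toFinset.2 q.2⟩)
    exact h2 hx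
  obtain ⟨q, hq, hqp⟩ := (Ideal.IsPrime.inf_le' hp).1 h1
  obtain ⟨hne, hq⟩ := Finset.mem_erase.1 hq
  have hq' := hfin.mem_toFinset.1 hq
  exact hne (le_antisymm hqp (p.2.2 ⟨hq'.1.1, bot_le⟩ hqp))

variable (A)

/-- The total ring of fractions of `A_red` is the product of the total rings of fractions of the `(A/p)_red`. -/
theorem exists_fracEquiv (hfin : (minimalPrimes A).Finite) :
    Nonempty (FractionRing (red A) ≃ₐ[A] (∀ p : minimalPrimes A, FractionRing (red (A ⧸ p.1)))) := by
  classical
  have hpr : ∀ p : minimalPrimes A, p.1.IsPrime := isPrime_minimalPrimes A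
  have hF : Finite (minimalPrimes A) := hfin.to_subtype
  cases nonempty_fintype (minimalPrimes A)
  let P := ∀ p : minimalPrimes A, FractionRing (red (A ⧸ p.1))
  have h0 : ∀ a : A, algebraMap A P a = 0 ↔ a ∈ nilradical A := by
    intro a
    rw [nilradical_eq_sInf, Ideal.mem_sInf]
    constructor
    · intro h q hq
      have h1 := congrFun h ⟨q, hq⟩
      have := hpr ⟨q, hq⟩
      exact (algebraMap_frac_eq_zero_iff q a).1 h1
    · intro h
      funext q
      exact (algebraMap_frac_eq_zero_iff q.1 a).2 (h q.2)
  let f : red A →+* P := Ideal.Quotient.lift (nilradical A) (algebraMap A P) (fun a ha => (h0 a).2 ha)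
  have hf : ∀ a, f (Ideal.Quotient.mk _ a) = algebraMap A P a := fun a => Ideal.Quotient.lift_mk _ _ _
  let : Algebra (red A) P := f.toAlgebra
  have : IsScalarTower A (red A) P := IsScalarTower.of_algebraMap_eq (fun a => (hf a).symm)
  have hreg : ∀ s : A, (∀ p : minimalPrimes A, s ∉ p.1) →
      Ideal.Quotient.mk (nilradical A) s ∈ nonZeroDivisors (red A) := by
    intro s hs
    rw [mem_nonZeroDivisors_iff_right]
    intro x hx
    obtain ⟨t, rfl⟩ := Ideal.Quotient.mk_surjective x
    rw [← map_mul, Ideal.Quotient.eq_zero_iff_mem] at hx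
    rw [Ideal.Quotient.eq_zero_iff_mem]
    rw [nilradical_eq_sInf, Ideal.mem_sInf] at hx ⊢
    intro q hq
    exact ((hpr ⟨q, hq⟩).mem_or_mem (hx hq)).resolve_right (hs ⟨q, hq⟩)
  have hreg' : ∀ s : A, Ideal.Quotient.mk (nilradical A) s ∈ nonZeroDivisors (red A) →
      ∀ p : minimalPrimes A, s ∉ p.1 := by
    intro s hs p hsp
    have h1 : p.1.map (Ideal.Quotient.mk (nilradical A)) ∈ (⊥ : Ideal (red A)).minimalPrimes := by
      have h2 := Ideal.minimalPrimes_map_of_surjective (f := Ideal.Quotient.mk (nilradical A))
        Ideal.Quotient.mk_surjective (⊥ : Ideal A)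
      have h3 : (nilradical A).minimalPrimes = (⊥ : Ideal A).minimalPrimes := Ideal.radical_minimalPrimes
      rw [Ideal.map_bot, Ideal.mk_ker, bot_sup_eq, h3] at h2
      rw [h2]
      exact ⟨p.1, p.2, rfl⟩
    exact notMem_nonZeroDivisors_of_mem_mem_minimalPrimes (Ideal.mem_map_of_mem _ hsp) h1 hs
  have : IsLocalization (nonZeroDivisors (red A)) P := by
    refine (isLocalization_iff _ _).2 ⟨fun s => ?_, fun z => ?_, fun {x y} hxy => ?_⟩
    · obtain ⟨a, ha⟩ := Ideal.Quotient.mk_surjective (s : red A)
      rw [← ha]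
      change IsUnit (f (Ideal.Quotient.mk _ a))
      rw [hf, Pi.isUnit_iff]
      intro p
      have h2 : a ∉ p.1 := hreg' a (ha ▸ s.2) p
      have : IsField (FractionRing (red (A ⧸ p.1))) := by
        have : IsDomain (red (A ⧸ p.1)) := by
          have h3 : (nilradical (A ⧸ p.1)).IsPrime := by
            rw [nilradical_eq_zero]; exact Ideal.isPrime_bot
          exact Ideal.Quotient.isDomain _
        exact Field.toIsField _
      let := this.toField
      refine isUnit_iff_ne_zero.2 fun h4 => h2 ?_
      exact (algebraMap_frac_eq_zero_iff p.1 a).1 h4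
    · choose a b hb hab using fun p : minimalPrimes A => exists_frac p.1 (z p)
      choose e he he' using exists_mem_forall_ne hfin
      let s : A := ∑ p, e p * b p
      let r : A := ∑ p, e p * a p
      have hsum : ∀ (c : minimalPrimes A → A) (q : minimalPrimes A),
          algebraMap A (FractionRing (red (A ⧸ q.1))) (∑ p, e p * c p) =
            algebraMap A _ (e q) * algebraMap A _ (c q) := by
        intro c q
        rw [map_sum, Finset.sum_eq_single q, map_mul]
        · intro p _ hpq
          rw [map_mul, (algebraMap_frac_eq_zero_iff q.1 (e p)).2 (he' p q (Ne.symm hpq)), zero_mul]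
        · intro h; exact absurd (Finset.mem_univ _) h
      have hs : ∀ p : minimalPrimes A, s ∉ p.1 := by
        intro q hq
        have h1 := (algebraMap_frac_eq_zero_iff q.1 s).2 hq
        rw [hsum b q, ← map_mul, algebraMap_frac_eq_zero_iff] at h1
        exact ((hpr q).mem_or_mem h1).elim (he q) (hb q)
      refine ⟨(Ideal.Quotient.mk _ r, ⟨Ideal.Quotient.mk _ s, hreg s hs⟩), ?_⟩
      change z * f (Ideal.Quotient.mk _ s) = f (Ideal.Quotient.mk _ r)
      rw [hf, hf]
      funext q
      change z q * algebraMap A (FractionRing (red (A ⧸ q.1))) s = algebraMap A (FractionRing (red (A ⧸ q.1))) r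
      rw [hsum b q, hsum a q, ← hab q]
      ring
    · refine ⟨1, ?_⟩
      obtain ⟨x, rfl⟩ := Ideal.Quotient.mk_surjective x
      obtain ⟨y, rfl⟩ := Ideal.Quotient.mk_surjective y
      have h1 : f (Ideal.Quotient.mk _ x) = f (Ideal.Quotient.mk _ y) := hxy
      rw [hf, hf, ← sub_eq_zero, ← map_sub, h0] at h1
      rw [Ideal.Quotient.eq.2 h1]
  exact ⟨(IsLocalization.algEquiv (nonZeroDivisors (red A)) (FractionRing (red A)) P).restrictScalars A⟩


/-- A family of integral elements is integral. -/
theorem isIntegral_pi {R : Type*} [CommRing R] {ι : Type*} [Finite ι] {F : ι → Type*} [∀ i, CommRing (F i)]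
    [∀ i, Algebra R (F i)] (z : ∀ i, F i) (h : ∀ i, IsIntegral R (z i)) : IsIntegral R z := by
  classical
  cases nonempty_fintype ι
  choose f hf hfz using h
  refine ⟨∏ i, f i, Polynomial.monic_prod_of_monic _ _ fun i _ => hf i, ?_⟩
  funext i
  have h1 := Polynomial.hom_eval₂ (∏ i, f i) (algebraMap R (∀ i, F i)) (Pi.evalRingHom F i) z
  refine h1.trans ?_
  have h2 : (Pi.evalRingHom F i).comp (algebraMap R (∀ i, F i)) = algebraMap R (F i) := rfl
  rw [h2, Polynomial.eval₂_finsetProd]
  exact Finset.prod_eq_zero (Finset.mem_univ i) (hfz i)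

theorem isIntegral_iff_of_surjective {R S T : Type*} [CommRing R] [CommRing S] [CommRing T] [Algebra R S]
    [Algebra R T] [Algebra S T] [IsScalarTower R S T] (hs : Function.Surjective (algebraMap R S)) (x : T) :
    IsIntegral S x ↔ IsIntegral R x := by
  have : Algebra.IsIntegral R S := Algebra.isIntegral_of_surjective hs
  exact ⟨fun h => isIntegral_trans x h, fun h => h.tower_top⟩

/-- `normRed A` is the product of the rings `normRed (A/p)`, `p` the minimal primes of `A`. -/
theorem exists_normRedEquiv (hfin : (minimalPrimes A).Finite) :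
    ∃ e : normRed A ≃+* (∀ p : minimalPrimes A, normRed (A ⧸ p.1)), ∀ (a : A) (p : minimalPrimes A),
      e (algebraMap (red A) (normRed A) (Ideal.Quotient.mk (nilradical A) a)) p =
        algebraMap (red (A ⧸ p.1)) (normRed (A ⧸ p.1)) (Ideal.Quotient.mk _ (Ideal.Quotient.mk p.1 a)) := by
  have hF : Finite (minimalPrimes A) := hfin.to_subtype
  obtain ⟨e⟩ := exists_fracEquiv A hfin
  have h1 : ∀ x : FractionRing (red A), IsIntegral (red A) x ↔ IsIntegral A x :=
    isIntegral_iff_of_surjective Ideal.Quotient.mk_surjective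
  have h2 : ∀ (p : minimalPrimes A) (x : FractionRing (red (A ⧸ p.1))),
      IsIntegral (red (A ⧸ p.1)) x ↔ IsIntegral A x := fun p =>
    isIntegral_iff_of_surjective (by
      intro y
      obtain ⟨y, rfl⟩ := Ideal.Quotient.mk_surjective y
      obtain ⟨y, rfl⟩ := Ideal.Quotient.mk_surjective y
      exact ⟨y, rfl⟩)
  have h3 : ∀ x : FractionRing (red A), IsIntegral A x ↔ ∀ p, IsIntegral A (e x p) := by
    intro x
    constructor
    · intro hx p
      exact (hx.map e).map (Pi.evalAlgHom A (fun p : minimalPrimes A => FractionRing (red (A ⧸ p.1))) p)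
    · intro hx
      have h4 := (isIntegral_pi (e x) hx).map e.symm
      rwa [AlgEquiv.symm_apply_apply] at h4
  refine ⟨{ toFun := fun x p => ⟨e x.1 p, (h2 p _).2 ((h3 _).1 ((h1 _).1 x.2) p)⟩
            invFun := fun y => ⟨e.symm (fun p => (y p).1), (h1 _).2 ((h3 _).2 fun p => by
              rw [AlgEquiv.apply_symm_apply]
              exact (h2 p _).1 (y p).2)⟩
            left_inv := fun x => Subtype.ext (e.symm_apply_apply x.1)
            right_inv := fun y => by
              funext p
              apply Subtype.ext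
              exact congrFun (e.apply_symm_apply _) p
            map_mul' := fun x y => by
              funext p
              apply Subtype.ext
              exact congrFun (map_mul e x.1 y.1) p
            map_add' := fun x y => by
              funext p
              apply Subtype.ext
              exact congrFun (map_add e x.1 y.1) p }, ?_⟩
  intro a p
  apply Subtype.ext
  exact congrFun (e.commutes a) p

end K580.NormRed
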