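import Groth.Agent.Brnch.K580.PunctGen
import Groth.Agent.Brnch.K580.Cpl

/-!
# Connectedness of the punctured spectrum of the completion and of the henselization
-/

set_option autoImplicit false
set_option linter.unusedSectionVars false
universe u

noncomputable section

namespace K580.PunctConn

open IsLocalRing Groth.Agent.Sga2lef.H75.PConn

theorem mem_compl {A : Type u} [CommRing A] [IsLocalRing A] (y : PrimeSpectrum A) :
    y ∈ ({closedPoint A}ᶜ : Set (PrimeSpectrum A)) ↔ y.asIdeal ≠ maximalIdeal A := by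
  rw [Set.mem_compl_singleton_iff, Ne, Ne, PrimeSpectrum.ext_iff]
  rfl

/-- Connectedness of the punctured spectrum in terms of ideals. -/
theorem isPreconnected_iff {A : Type u} [CommRing A] [IsLocalRing A] [IsNoetherianRing A] :
    IsPreconnected ({closedPoint A}ᶜ : Set (PrimeSpectrum A)) ↔ IsPConn A := by
  constructor
  · rintro h J₁ J₂ hJ ⟨n, hn⟩
    have hpre := isPreconnected_closed_iff.mp h
      (PrimeSpectrum.zeroLocus (J₁ : Set A)) (PrimeSpectrum.zeroLocus (J₂ : Set A))
      (PrimeSpectrum.isClosed_zeroLocus _) (PrimeSpectrum.isClosed_zeroLocus _) (by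
        intro z _
        have h1 : J₁ * J₂ ≤ z.asIdeal := hJ.trans (nilradical_le_prime _)
        exact (z.isPrime.mul_le.mp h1).imp id id)
    by_contra! hcon
    have key : ∀ J : Ideal A, (∀ n, ¬ maximalIdeal A ^ n ≤ J) →
        (({closedPoint A}ᶜ : Set (PrimeSpectrum A)) ∩
          PrimeSpectrum.zeroLocus (J : Set A)).Nonempty := by
      intro J hJn
      by_contra hne
      obtain ⟨n, hn⟩ := exists_pow_le_of_forall J (by
        intro p hp hJp
        by_contra hpm
        exact hne ⟨⟨p, hp⟩, (mem_compl _).2 hpm, hJp⟩)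
      exact hJn n hn
    obtain ⟨z, hz, hz1, hz2⟩ := hpre (key _ hcon.1) (key _ hcon.2)
    exact (mem_compl _).mp hz (eq_of_pow_le hn z.isPrime (sup_le hz1 hz2))
  · intro h
    refine isPreconnected_closed_iff.mpr ?_
    intro W₁ W₂ hW₁ hW₂ h12 ⟨z₁, hz₁, hz₁'⟩ ⟨z₂, hz₂, hz₂'⟩
    obtain ⟨J₁, rfl⟩ := (PrimeSpectrum.isClosed_iff_zeroLocus_ideal _).mp hW₁
    obtain ⟨J₂, rfl⟩ := (PrimeSpectrum.isClosed_iff_zeroLocus_ideal _).mp hW₂
    by_contra hne
    have h12' : ∀ p : Ideal A, p.IsPrime → p ≠ maximalIdeal A → J₁ ≤ p ∨ J₂ ≤ p := by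
      intro p hp hpm
      exact h12 ((mem_compl ⟨p, hp⟩).2 hpm)
    have hsup : ∃ n, maximalIdeal A ^ n ≤ J₁ ⊔ J₂ := by
      refine exists_pow_le_of_forall _ fun p hp hle => ?_
      by_contra hpm
      exact hne ⟨⟨p, hp⟩, (mem_compl _).2 hpm, le_sup_left.trans hle, le_sup_right.trans hle⟩
    have hJm : ∀ (J : Ideal A) (z : PrimeSpectrum A), z ∈ PrimeSpectrum.zeroLocus (J : Set A) →
        J ≤ maximalIdeal A := by
      intro J z hz
      exact le_trans hz (le_maximalIdeal z.isPrime.ne_top)
    have hmul : J₁ * J₂ ≤ nilradical A := by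
      rw [nilradical_eq_sInf]
      refine le_sInf fun p hp => ?_
      by_cases hpm : p = maximalIdeal A
      · rw [hpm]
        exact Ideal.mul_le_right.trans (hJm _ _ hz₂')
      · rcases h12' p hp hpm with h | h
        · exact Ideal.mul_le_left.trans h
        · exact Ideal.mul_le_right.trans h
    rcases h J₁ J₂ hmul hsup with ⟨n, hn⟩ | ⟨n, hn⟩
    · exact (mem_compl _).1 hz₁ (eq_of_pow_le hn z₁.isPrime hz₁')
    · exact (mem_compl _).1 hz₂ (eq_of_pow_le hn z₂.isPrime hz₂')

variable {A A' : Type u} [CommRing A] [CommRing A'] [IsLocalRing A'] [Algebra A A']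

/-- The punctured spectrum of `A'` is connected if that of the henselian ring `A` is. -/
theorem isPConn_of_henselian [IsNoetherianRing A] [HenselianLocalRing A]
    [IsNoetherianRing A'] [Module.Flat A A']
    (hm : (maximalIdeal A).map (algebraMap A A') = maximalIdeal A')
    (hres : ∀ y : A', ∃ a : A, y - algebraMap A A' a ∈ maximalIdeal A') (hA : IsPConn A) :
    IsPConn A' := by
  intro J₁ J₂ hJ hn
  obtain ⟨I₁, I₂, hI, hk, hiff⟩ := PunctGen.exists_ideals hm hres J₁ J₂ hJ hn
  have hpow : ∀ (I : Ideal A) (k : ℕ), maximalIdeal A ^ k ≤ I →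
      maximalIdeal A' ^ k ≤ I.map (algebraMap A A') := by
    intro I k hk
    rw [← hm, ← Ideal.map_pow]
    exact Ideal.map_mono hk
  rcases hA I₁ I₂ hI hk with ⟨k, hk⟩ | ⟨k, hk⟩
  · left
    refine exists_pow_le_of_forall _ fun p hp hle => ?_
    by_contra hpm
    exact hpm (eq_of_pow_le (hpow _ _ hk) hp ((hiff p hp hpm).1 hle))
  · right
    obtain ⟨n, hn⟩ := hn
    refine exists_pow_le_of_forall _ fun p hp hle => ?_
    by_contra hpm
    have h1 : I₂.map (algebraMap A A') ≤ p := by
      have h2 : I₁.map (algebraMap A A') * I₂.map (algebraMap A A') ≤ p := by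
        rw [← Ideal.map_mul]
        refine le_trans ?_ (nilradical_le_prime p)
        rw [Ideal.map_le_iff_le_comap]
        intro a ha
        exact mem_nilradical.2 ((mem_nilradical.1 (hI ha)).map _)
      refine (hp.mul_le.1 h2).resolve_left fun h3 => ?_
      rw [← hiff p hp hpm] at h3
      exact hpm (eq_of_pow_le hn hp (sup_le h3 hle))
    exact hpm (eq_of_pow_le (hpow _ _ hk) hp h1)

/-- Converse. -/
theorem isPreconnected_of_faithfullyFlat [IsLocalRing A] [Module.FaithfullyFlat A A']
    (hm : (maximalIdeal A).map (algebraMap A A') = maximalIdeal A')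
    (h : IsPreconnected ({closedPoint A'}ᶜ : Set (PrimeSpectrum A'))) :
    IsPreconnected ({closedPoint A}ᶜ : Set (PrimeSpectrum A)) := by
  have himg : PrimeSpectrum.comap (algebraMap A A') '' {closedPoint A'}ᶜ = {closedPoint A}ᶜ := by
    ext y
    constructor
    · rintro ⟨z, hz, rfl⟩
      rw [mem_compl] at hz ⊢
      intro hy
      apply hz
      have h1 : maximalIdeal A ≤ z.asIdeal.comap (algebraMap A A') := hy.ge
      rw [← Ideal.map_le_iff_le_comap, hm] at h1
      exact ((maximalIdeal.isMaximal A').eq_of_le z.isPrime.ne_top h1).symm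
    · intro hy
      obtain ⟨z, rfl⟩ := PrimeSpectrum.comap_surjective_of_faithfullyFlat (A := A) (B := A') y
      refine ⟨z, ?_, rfl⟩
      rw [mem_compl] at hy ⊢
      intro hz
      apply hy
      change z.asIdeal.comap (algebraMap A A') = _
      rw [hz]
      refine (IsLocalRing.eq_maximalIdeal ?_)
      have h1 : maximalIdeal A ≤ (maximalIdeal A').comap (algebraMap A A') := by
        rw [← Ideal.map_le_iff_le_comap, hm]
      have h2 := (maximalIdeal.isMaximal A).eq_of_le (Ideal.IsPrime.comap _).ne_top h1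
      exact h2 ▸ maximalIdeal.isMaximal A
  rw [← himg]
  exact h.image _ (PrimeSpectrum.continuous_comap _).continuousOn

section Cpl

variable {A S : Type u} [CommRing A] [IsLocalRing A] [IsNoetherianRing A] [CommRing S] [IsLocalRing S]
    [Algebra A S] [IsLocalHom (algebraMap A S)] [Hensel.IsHenselization A S]
    (ψ : S →+* AdicCompletion (maximalIdeal A) A)
    (hψ : ψ.comp (algebraMap A S) = algebraMap A (AdicCompletion (maximalIdeal A) A))

include hψ in
theorem map_maximalIdeal : (maximalIdeal S).map ψ = maximalIdeal _ := by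
  rw [← Groth.Agent.Hensel.Exist.map_maximalIdeal_of_isHenselization A S, Ideal.map_map, hψ,
    AdicCompletion.maximalIdeal_eq_map]

include hψ in
theorem exists_sub_mem (y : AdicCompletion (maximalIdeal A) A) : ∃ s : S, y - ψ s ∈ maximalIdeal _ := by
  obtain ⟨a, ha⟩ := Groth.Agent.Ega4A.CplFlat.surjective_algebraMap_quotient A 1 (Ideal.Quotient.mk _ y)
  refine ⟨algebraMap A S a, ?_⟩
  rw [pow_one] at ha
  have h1 : ψ (algebraMap A S a) = algebraMap A _ a := congr($hψ a)
  rw [AdicCompletion.maximalIdeal_eq_map, h1]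
  exact (Ideal.Quotient.eq.mp ha.symm)

/-- Connectedness of the punctured spectra of completion and henselization. -/
theorem isPreconnected_completion_iff (A S : Type u) [CommRing A]
    [IsLocalRing A] [IsNoetherianRing A] [CommRing S] [IsLocalRing S] [Algebra A S]
    [IsLocalHom (algebraMap A S)] [hS : Hensel.IsHenselization A S] :
    IsPreconnected ({closedPoint (AdicCompletion (maximalIdeal A) A)}ᶜ :
          Set (PrimeSpectrum (AdicCompletion (maximalIdeal A) A))) ↔
      IsPreconnected ({closedPoint S}ᶜ : Set (PrimeSpectrum S)) := by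
  have hhens := Cpl.henselian A
  have hhensS := hS.henselian
  have := Cpl.isNoetherianRing A
  have := Cpl.isNoetherianRing_henselization A S
  obtain ⟨ψ, hψ, -⟩ := hS.universal (AdicCompletion (maximalIdeal A) A)
    (algebraMap A _) inferInstance
  have hff := Cpl.faithfullyFlat_comp ψ hψ
  have hm := map_maximalIdeal ψ hψ
  have hres := exists_sub_mem ψ hψ
  let _ := ψ.toAlgebra
  constructor
  · intro h
    exact isPreconnected_of_faithfullyFlat (A := S) (A' := AdicCompletion (maximalIdeal A) A) hm h
  · intro h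
    rw [isPreconnected_iff] at h ⊢
    exact isPConn_of_henselian (A := S) (A' := AdicCompletion (maximalIdeal A) A) hm hres h

end Cpl

end K580.PunctConn
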