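import Groth.Agent.Brnch.K580.PunctKey

/-!
# Clopen subsets of the punctured spectrum descend from the completion to a henselian local ring

The general case, in terms of ideals.
-/

set_option autoImplicit false
universe u

noncomputable section

namespace K580.PunctGen

open TensorProduct IsLocalRing Groth.Agent.Sga2lef.H75.PConn Groth.Agent.Sga2lef.H75.FlatConn

/-- A reduced Noetherian local ring whose maximal ideal is not minimal has a regular element in its
maximal ideal. -/
theorem exists_regular {A : Type u} [CommRing A] [IsLocalRing A] [IsNoetherianRing A] [IsReduced A]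
    (h : maximalIdeal A ∉ minimalPrimes A) :
    ∃ x ∈ maximalIdeal A, x ∈ nonZeroDivisors A := by
  by_contra! hcon
  have hsub : (maximalIdeal A : Set A) ⊆ ⋃ p ∈ minimalPrimes A, (p : Set A) := by
    intro x hx
    by_contra hx'
    simp only [Set.mem_iUnion, not_exists] at hx'
    apply hcon x hx
    rw [mem_nonZeroDivisors_iff_right]
    intro y hy
    have h1 : y ∈ nilradical A := by
      rw [nilradical, ← Ideal.sInf_minimalPrimes, Ideal.mem_sInf]
      intro p hp
      have hpp : p.IsPrime := hp.1.1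
      have h2 : y * x ∈ p := by rw [hy]; exact Ideal.zero_mem _
      exact (hpp.mem_or_mem h2).resolve_right (hx' p hp)
    rw [nilradical_eq_zero] at h1
    exact h1
  obtain ⟨p, hp, hle⟩ := (Ideal.subset_union_prime_finite
    (minimalPrimes.finite_of_isNoetherianRing A) (f := id) ⊥ ⊥ (fun p hp _ _ => hp.1.1)).mp hsub
  have hpp : p.IsPrime := hp.1.1
  have h3 : maximalIdeal A = p := le_antisymm hle (le_maximalIdeal hpp.ne_top)
  exact h (h3 ▸ hp)

variable {A A' : Type u} [CommRing A] [CommRing A'] [IsLocalRing A'] [Algebra A A']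

/-- If the maximal ideal of `A` is minimal then `A'` has a unique prime. -/
theorem eq_maximalIdeal_of_minimal [IsLocalRing A]
    (hm : (maximalIdeal A).map (algebraMap A A') = maximalIdeal A') (h : maximalIdeal A ∈ minimalPrimes A)
    (p : Ideal A') (hp : p.IsPrime) : p = maximalIdeal A' := by
  have h1 : p.comap (algebraMap A A') ≤ maximalIdeal A := le_maximalIdeal (Ideal.IsPrime.comap _).ne_top
  have h2 : maximalIdeal A ≤ p.comap (algebraMap A A') := h.2 ⟨Ideal.IsPrime.comap _, bot_le⟩ h1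
  rw [← Ideal.map_le_iff_le_comap, hm] at h2
  exact ((maximalIdeal.isMaximal A').eq_of_le hp.ne_top h2).symm

/-- The reduced case. -/
theorem exists_ideals_of_isReduced [IsNoetherianRing A] [HenselianLocalRing A] [IsReduced A]
    [IsNoetherianRing A'] [Module.Flat A A']
    (hm : (maximalIdeal A).map (algebraMap A A') = maximalIdeal A')
    (hres : ∀ y : A', ∃ a : A, y - algebraMap A A' a ∈ maximalIdeal A')
    (J₁ J₂ : Ideal A') (hJ : J₁ * J₂ ≤ nilradical A') (hn : ∃ n, maximalIdeal A' ^ n ≤ J₁ ⊔ J₂) :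
    ∃ I₁ I₂ : Ideal A, I₁ * I₂ ≤ nilradical A ∧ (∃ n, maximalIdeal A ^ n ≤ I₁ ⊔ I₂) ∧
      ∀ p : Ideal A', p.IsPrime → p ≠ maximalIdeal A' →
        (J₁ ≤ p ↔ I₁.map (algebraMap A A') ≤ p) := by
  by_cases hmin : maximalIdeal A ∈ minimalPrimes A
  · refine ⟨⊤, ⊥, ?_, ⟨0, ?_⟩, fun p hp hpm => absurd (eq_maximalIdeal_of_minimal hm hmin p hp) hpm⟩
    · rw [Ideal.mul_bot]; exact bot_le
    · exact le_top.trans le_sup_left
  obtain ⟨x, hxm, hx⟩ := exists_regular hmin
  obtain ⟨n, hn⟩ := hn
  obtain ⟨k, hk⟩ := IsNoetherianRing.isNilpotent_nilradical A'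
  have h1 : J₁ ^ (k + 1) * J₂ ^ (k + 1) = ⊥ := by
    rw [← mul_pow, eq_bot_iff]
    refine (Ideal.pow_right_mono hJ _).trans ?_
    rw [pow_succ, hk, zero_mul]
    exact le_rfl
  obtain ⟨n', hn'⟩ : ∃ n, maximalIdeal A' ^ n ≤ J₁ ^ (k + 1) ⊔ J₂ ^ (k + 1) := by
    refine exists_pow_le_of_forall _ fun p hp hle => ?_
    exact eq_of_pow_le hn hp (sup_le (hp.le_of_pow_le (le_sup_left.trans hle))
      (hp.le_of_pow_le (le_sup_right.trans hle)))
  obtain ⟨I₁, I₂, hI, hsup, hiff⟩ := PunctKey.exists_ideals_of_regular hm hres hxm hx _ _ h1 n' hn'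
  refine ⟨I₁, I₂, hI.le.trans bot_le, ⟨n', hsup⟩, fun p hp hpm => ?_⟩
  rw [← hiff p hp hpm]
  exact ⟨fun h => (Ideal.pow_le_self k.succ_ne_zero).trans h, fun h => hp.le_of_pow_le h⟩

/-- The key lemma: clopen subsets of the punctured spectrum of `A'` come from `A`. -/
theorem exists_ideals [IsNoetherianRing A] [HenselianLocalRing A]
    [IsNoetherianRing A'] [Module.Flat A A']
    (hm : (maximalIdeal A).map (algebraMap A A') = maximalIdeal A')
    (hres : ∀ y : A', ∃ a : A, y - algebraMap A A' a ∈ maximalIdeal A')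
    (J₁ J₂ : Ideal A') (hJ : J₁ * J₂ ≤ nilradical A') (hn : ∃ n, maximalIdeal A' ^ n ≤ J₁ ⊔ J₂) :
    ∃ I₁ I₂ : Ideal A, I₁ * I₂ ≤ nilradical A ∧ (∃ n, maximalIdeal A ^ n ≤ I₁ ⊔ I₂) ∧
      ∀ p : Ideal A', p.IsPrime → p ≠ maximalIdeal A' →
        (J₁ ≤ p ↔ I₁.map (algebraMap A A') ≤ p) := by
  let N := nilradical A
  have hNle : N ≤ maximalIdeal A := nilradical_le_prime _
  have hN'le : N.map (algebraMap A A') ≤ nilradical A' := by
    rw [Ideal.map_le_iff_le_comap]
    intro a ha
    rw [mem_nilradical] at ha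
    rw [Ideal.mem_comap, mem_nilradical]
    exact ha.map _
  have hnt : Nontrivial (A ⧸ N) := Ideal.Quotient.nontrivial_iff.mpr
    (fun h => (maximalIdeal.isMaximal A).ne_top (top_le_iff.mp (h ▸ hNle)))
  have hnt' : Nontrivial (A' ⧸ N.map (algebraMap A A')) := Ideal.Quotient.nontrivial_iff.mpr
    (fun h => (maximalIdeal.isMaximal A').ne_top
      (top_le_iff.mp (h ▸ hN'le.trans (nilradical_le_prime _))))
  have hloc : IsLocalRing (A ⧸ N) := IsLocalRing.of_surjective' _ Ideal.Quotient.mk_surjective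
  have hloc' : IsLocalRing (A' ⧸ N.map (algebraMap A A')) :=
    IsLocalRing.of_surjective' _ Ideal.Quotient.mk_surjective
  have hint : Algebra.IsIntegral A (A ⧸ N) := Algebra.IsIntegral.of_finite A _
  have hhens : HenselianLocalRing (A ⧸ N) :=
    Groth.Agent.Etrest.IntHens.henselianLocalRing_of_isIntegral A (A ⧸ N)
  have hred : IsReduced (A ⧸ N) :=
    (Ideal.isRadical_iff_quotient_reduced N).mp (Ideal.radical_isRadical _)
  have hflat : Module.Flat (A ⧸ N) (A' ⧸ N.map (algebraMap A A')) := Module.Flat.of_linearEquiv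
    (Algebra.TensorProduct.quotIdealMapEquivQuotTensor A' N).toLinearEquiv
  have hmap : ∀ a : A, algebraMap (A ⧸ N) (A' ⧸ N.map (algebraMap A A')) (Ideal.Quotient.mk N a) =
      Ideal.Quotient.mk _ (algebraMap A A' a) := fun a => rfl
  have h3 : (maximalIdeal (A ⧸ N)).map (algebraMap (A ⧸ N) (A' ⧸ N.map (algebraMap A A'))) =
      maximalIdeal _ := by
    rw [← map_maximalIdeal (Ideal.Quotient.mk N) Ideal.Quotient.mk_surjective,
      ← map_maximalIdeal (Ideal.Quotient.mk (N.map (algebraMap A A'))) Ideal.Quotient.mk_surjective,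
      ← hm, Ideal.map_map, Ideal.map_map]
    rfl
  have h4 : ∀ y : A' ⧸ N.map (algebraMap A A'), ∃ a : A ⧸ N,
      y - algebraMap (A ⧸ N) _ a ∈ maximalIdeal _ := by
    intro y
    obtain ⟨y, rfl⟩ := Ideal.Quotient.mk_surjective y
    obtain ⟨a, ha⟩ := hres y
    refine ⟨Ideal.Quotient.mk N a, ?_⟩
    rw [hmap, ← map_sub,
      ← map_maximalIdeal (Ideal.Quotient.mk (N.map (algebraMap A A'))) Ideal.Quotient.mk_surjective]
    exact Ideal.mem_map_of_mem _ ha
  let π := Ideal.Quotient.mk N
  let π' := Ideal.Quotient.mk (N.map (algebraMap A A'))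
  have hπ' : Function.Surjective π' := Ideal.Quotient.mk_surjective
  have hJ' : J₁.map π' * J₂.map π' ≤ nilradical _ := by
    rw [← Ideal.map_mul, Ideal.map_le_iff_le_comap]
    intro y hy
    rw [Ideal.mem_comap, mem_nilradical]
    exact (mem_nilradical.1 (hJ hy)).map _
  have hn' : ∃ n, maximalIdeal (A' ⧸ N.map (algebraMap A A')) ^ n ≤ J₁.map π' ⊔ J₂.map π' := by
    obtain ⟨n, hn⟩ := hn
    refine ⟨n, ?_⟩
    rw [← map_maximalIdeal π' hπ', ← Ideal.map_pow, ← Ideal.map_sup]
    exact Ideal.map_mono hn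
  obtain ⟨I₁, I₂, hI, ⟨k, hk⟩, hiff⟩ := exists_ideals_of_isReduced h3 h4 _ _ hJ' hn'
  have hπN : RingHom.ker π = N := Ideal.mk_ker
  refine ⟨I₁.comap π, I₂.comap π, ?_, ?_, ?_⟩
  · rw [Ideal.mul_le]
    intro a ha b hb
    have h5 : π (a * b) ∈ nilradical (A ⧸ N) := by
      rw [map_mul]
      exact hI (Ideal.mul_mem_mul ha hb)
    rw [nilradical_eq_zero] at h5
    exact Ideal.Quotient.eq_zero_iff_mem.1 h5
  · refine exists_pow_le_of_forall _ fun p hp hle => ?_
    have hNp : N ≤ p := nilradical_le_prime p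
    have hπ : Function.Surjective π := Ideal.Quotient.mk_surjective
    have hpp : (p.map π).IsPrime := Ideal.map_isPrime_of_surjective hπ (by rw [hπN]; exact hNp)
    have h6 : I₁ ⊔ I₂ ≤ p.map π := by
      rw [← Ideal.map_comap_of_surjective π hπ I₁, ← Ideal.map_comap_of_surjective π hπ I₂,
        ← Ideal.map_sup]
      exact Ideal.map_mono hle
    have h7 := eq_of_pow_le hk hpp h6
    have h8 := comap_maximalIdeal π hπ
    rw [← h7, Ideal.comap_map_of_surjective π hπ, ← RingHom.ker_eq_comap_bot, hπN,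
      sup_eq_left.2 hNp] at h8
    exact h8
  · intro p hp hpm
    have hNp : N.map (algebraMap A A') ≤ p := hN'le.trans (nilradical_le_prime p)
    have hker : RingHom.ker π' ≤ p := by rw [Ideal.mk_ker]; exact hNp
    have hpp : (p.map π').IsPrime := Ideal.map_isPrime_of_surjective hπ' hker
    have hcm : (p.map π').comap π' = p := by
      rw [Ideal.comap_map_of_surjective π' hπ', ← RingHom.ker_eq_comap_bot, sup_eq_left.2 hker]
    have hpm' : p.map π' ≠ maximalIdeal _ := by
      intro h
      apply hpm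
      rw [← hcm, h, comap_maximalIdeal π' hπ']
    have h5 := hiff _ hpp hpm'
    rw [Ideal.map_le_iff_le_comap, hcm, Ideal.map_le_iff_le_comap] at h5
    rw [h5, Ideal.map_le_iff_le_comap]
    have h6 : (p.map π').comap (algebraMap (A ⧸ N) (A' ⧸ N.map (algebraMap A A'))) =
        (p.comap (algebraMap A A')).map π := by
      have hπ : Function.Surjective π := Ideal.Quotient.mk_surjective
      rw [← Ideal.map_comap_of_surjective π hπ ((p.map π').comap _), Ideal.comap_comap]
      congr 1
      have h7 : (algebraMap (A ⧸ N) (A' ⧸ N.map (algebraMap A A'))).comp π =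
          π'.comp (algebraMap A A') := rfl
      rw [h7, ← Ideal.comap_comap, hcm]
    rw [h6]
    have hπ : Function.Surjective π := Ideal.Quotient.mk_surjective
    have hNp' : RingHom.ker π ≤ p.comap (algebraMap A A') := by
      rw [hπN, ← Ideal.map_le_iff_le_comap]
      exact hNp
    constructor
    · intro h
      have h8 := Ideal.comap_mono (f := π) h
      rwa [Ideal.comap_map_of_surjective π hπ, ← RingHom.ker_eq_comap_bot, sup_eq_left.2 hNp'] at h8
    · intro h
      have h8 := Ideal.map_mono (f := π) h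
      rwa [Ideal.map_comap_of_surjective π hπ] at h8

end K580.PunctGen
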