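import Groth.Agent.Brnch.K580.IdemDesc
import Groth.Agent.Sga2lef.H75.FlatConn

/-!
# Clopen subsets of the punctured spectrum descend from the completion to a henselian local ring

Here: in terms of ideals, in the presence of a regular element of the maximal ideal.
-/

set_option autoImplicit false
universe u

noncomputable section

namespace K580.PunctKey

open TensorProduct IsLocalRing Polynomial

variable {A A' : Type u} [CommRing A] [CommRing A'] [IsLocalRing A'] [Algebra A A']

/-- An element of `A'` multiplied into `t A'` by a power of the maximal ideal comes from `A` modulo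
`t A'`. -/
theorem exists_eq_add [IsLocalRing A] [IsNoetherianRing A] [Module.Flat A A']
    (hm : (maximalIdeal A).map (algebraMap A A') = maximalIdeal A')
    (hres : ∀ y : A', ∃ a : A, y - algebraMap A A' a ∈ maximalIdeal A') (t : A) (n : ℕ) (j : A')
    (hj : ∀ a ∈ maximalIdeal A ^ n, ∃ i : A', algebraMap A A' a * j = algebraMap A A' t * i) :
    ∃ (c : A) (w : A'), j = algebraMap A A' c + algebraMap A A' t * w := by
  obtain ⟨k, f, hf⟩ : ∃ (k : ℕ) (f : Fin k → A), Ideal.span (Set.range f) = maximalIdeal A ^ n := by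
    obtain ⟨k, f, hf⟩ := Submodule.fg_iff_exists_fin_generating_family.mp
      (IsNoetherian.noetherian (maximalIdeal A ^ n))
    exact ⟨k, f, hf⟩
  have hfm : ∀ j, f j ∈ maximalIdeal A ^ n := fun j => hf ▸ Ideal.subset_span ⟨j, rfl⟩
  choose i hi using fun l => hj (f l) (hfm l)
  obtain ⟨l, c, d, hjc, hcf⟩ := Groth.Agent.Ega4B.Zariski.exists_colon_of_flat f t j i (by
    intro j
    rw [Algebra.smul_def, Algebra.smul_def, hi])
  have hcf' : ∀ i, ∀ a ∈ maximalIdeal A ^ n, a * c i ∈ Ideal.span {t} := by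
    intro i a ha
    rw [← hf] at ha
    refine Submodule.span_induction ?_ ?_ ?_ ?_ ha
    · rintro _ ⟨j, rfl⟩
      exact hcf i j
    · rw [zero_mul]; exact Ideal.zero_mem _
    · intro a b _ _ ha hb
      rw [add_mul]
      exact Ideal.add_mem _ ha hb
    · intro a b _ hb
      rw [smul_eq_mul, mul_assoc]
      exact Ideal.mul_mem_left _ _ hb
  choose α hα using fun i => Groth.Agent.Sga2lef.H75.FlatConn.exists_sub_mem_pow hm hres n (d i)
  have hμ : ∀ i, ∃ w, algebraMap A A' (c i) * (d i - algebraMap A A' (α i)) =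
      algebraMap A A' t * w := by
    intro i
    have h1 : ∀ z ∈ (maximalIdeal A ^ n).map (algebraMap A A'), ∃ w,
        algebraMap A A' (c i) * z = algebraMap A A' t * w := by
      intro z hz
      refine Submodule.span_induction ?_ ?_ ?_ ?_ hz
      · rintro _ ⟨b, hb, rfl⟩
        obtain ⟨w, hw⟩ := Ideal.mem_span_singleton.mp (hcf' i b hb)
        exact ⟨algebraMap A A' w, by rw [← map_mul, mul_comm, hw, map_mul]⟩
      · exact ⟨0, by rw [mul_zero, mul_zero]⟩
      · rintro z z' - - ⟨w, hw⟩ ⟨w', hw'⟩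
        exact ⟨w + w', by rw [mul_add, mul_add, hw, hw']⟩
      · rintro b z - ⟨w, hw⟩
        exact ⟨b * w, by rw [smul_eq_mul, mul_left_comm, hw, mul_left_comm]⟩
    exact h1 _ (hα i)
  choose w hw using hμ
  refine ⟨∑ i, c i * α i, ∑ i, w i, ?_⟩
  rw [hjc, map_sum, Finset.mul_sum, ← Finset.sum_add_distrib]
  refine Finset.sum_congr rfl fun i _ => ?_
  rw [← hw, Algebra.smul_def, map_mul]
  ring

/-- Powers of the maximal ideal escape every other prime. -/
theorem exists_notMem [IsLocalRing A]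
    (hm : (maximalIdeal A).map (algebraMap A A') = maximalIdeal A') (n : ℕ) (p : Ideal A')
    (hp : p.IsPrime) (hpm : p ≠ maximalIdeal A') (I : Ideal A) (hI : maximalIdeal A ^ n ≤ I) :
    ∃ a ∈ I, algebraMap A A' a ∉ p := by
  by_contra! hcon
  apply hpm
  refine Groth.Agent.Sga2lef.H75.PConn.eq_of_pow_le (n := n) (J := p) ?_ hp le_rfl
  rw [← hm, ← Ideal.map_pow, Ideal.map_le_iff_le_comap]
  exact fun a ha => hcon a (hI ha)

/-- The key lemma in the presence of a regular element of the maximal ideal. -/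
theorem exists_ideals_of_regular [IsNoetherianRing A] [HenselianLocalRing A] [Module.Flat A A']
    (hm : (maximalIdeal A).map (algebraMap A A') = maximalIdeal A')
    (hres : ∀ y : A', ∃ a : A, y - algebraMap A A' a ∈ maximalIdeal A')
    {x : A} (hxm : x ∈ maximalIdeal A) (hx : x ∈ nonZeroDivisors A)
    (J₁ J₂ : Ideal A') (hJ : J₁ * J₂ = ⊥) (n : ℕ) (hn : maximalIdeal A' ^ n ≤ J₁ ⊔ J₂) :
    ∃ I₁ I₂ : Ideal A, I₁ * I₂ = ⊥ ∧ maximalIdeal A ^ n ≤ I₁ ⊔ I₂ ∧
      ∀ p : Ideal A', p.IsPrime → p ≠ maximalIdeal A' →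
        (J₁ ≤ p ↔ I₁.map (algebraMap A A') ≤ p) := by
  have hloc : IsLocalHom (algebraMap A A') :=
    ((local_hom_TFAE (algebraMap A A')).out 0 2).2 hm.le
  have hff : Module.FaithfullyFlat A A' := Module.FaithfullyFlat.of_flat_of_isLocalHom
  obtain ⟨t, ht, htm⟩ : ∃ t ∈ nonZeroDivisors A, t ∈ maximalIdeal A ^ n :=
    ⟨x ^ n, pow_mem hx n, Ideal.pow_mem_pow hxm n⟩
  have hmul : ∀ a ∈ J₁, ∀ b ∈ J₂, a * b = 0 := fun a ha b hb => by
    have : a * b ∈ J₁ * J₂ := Ideal.mul_mem_mul ha hb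
    rwa [hJ, Ideal.mem_bot] at this
  obtain ⟨j₁, hj₁, j₂, hj₂, hj⟩ := Submodule.mem_sup.mp
    (hn (by rw [← hm, ← Ideal.map_pow]; exact Ideal.mem_map_of_mem (algebraMap A A') htm))
  have hdec : ∀ a ∈ maximalIdeal A ^ n, ∃ i₁ ∈ J₁, ∃ i₂ ∈ J₂, algebraMap A A' a = i₁ + i₂ ∧
      algebraMap A A' a * j₁ = algebraMap A A' t * i₁ := by
    intro a ha
    have h1 : algebraMap A A' a ∈ J₁ ⊔ J₂ := by
      apply hn
      rw [← hm, ← Ideal.map_pow]
      exact Ideal.mem_map_of_mem _ ha
    obtain ⟨i₁, hi₁, i₂, hi₂, hi⟩ := Submodule.mem_sup.mp h1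
    refine ⟨i₁, hi₁, i₂, hi₂, hi.symm, ?_⟩
    rw [← hi, ← hj, add_mul, add_mul, mul_comm i₂, hmul j₁ hj₁ i₂ hi₂, mul_comm j₂,
      hmul i₁ hi₁ j₂ hj₂, mul_comm]
  have hjj : j₁ * j₁ = algebraMap A A' t * j₁ := by
    rw [← hj, add_mul, mul_comm j₂, hmul j₁ hj₁ j₂ hj₂, add_zero]
  obtain ⟨c, w, hcw⟩ := exists_eq_add hm hres t n j₁ (fun a ha => by
    obtain ⟨i₁, -, i₂, -, -, h⟩ := hdec a ha
    exact ⟨i₁, h⟩)
  -- the quadratic equation
  obtain ⟨β, α, hβα⟩ : ∃ β α : A, β * (t * c) + α * (t * t) = c * c := by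
    rw [← Ideal.mem_span_pair]
    have h1 : algebraMap A A' (c * c) ∈ (Ideal.span {t * c, t * t}).map (algebraMap A A') := by
      rw [Ideal.map_span, Set.image_pair, Ideal.mem_span_pair]
      refine ⟨1 - 2 * w, w - w * w, ?_⟩
      rw [map_mul, map_mul, map_mul]
      rw [hcw] at hjj
      linear_combination -hjj
    rw [← Ideal.mem_comap, Ideal.comap_map_eq_self_of_faithfullyFlat] at h1
    exact h1
  -- the localizations
  let L := Localization.Away t
  have hLinj : Function.Injective (algebraMap A L) := IsLocalization.injective _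
    (Submonoid.powers_le.mpr ht)
  have hu : IsUnit (algebraMap A L t) := IsLocalization.Away.algebraMap_isUnit _
  let ρ : A' →+* L ⊗[A] A' := (Algebra.TensorProduct.includeRight : A' →ₐ[A] L ⊗[A] A').toRingHom
  have hρ : Function.Injective ρ := Algebra.TensorProduct.includeRight_injective hLinj
  have hρa : ∀ a : A, ρ (algebraMap A A' a) = algebraMap L (L ⊗[A] A') (algebraMap A L a) := fun a =>
    congr($(IdemDesc.comp_eq L) a)
  let τ := ρ (algebraMap A A' t)
  have hτ : IsUnit τ := by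
    change IsUnit (ρ (algebraMap A A' t))
    rw [hρa]
    exact hu.map _
  obtain ⟨s, hs⟩ : ∃ s : L, algebraMap A L t * s = algebraMap A L c := by
    obtain ⟨v, hv⟩ := hu
    exact ⟨↑v⁻¹ * algebraMap A L c, by rw [← mul_assoc, ← hv, Units.mul_inv, one_mul]⟩
  have hsint : IsIntegral A s := by
    refine ⟨X ^ 2 - (C β * X + C α), monic_X_pow_sub (lt_of_le_of_lt degree_linear_le (by norm_num)), ?_⟩
    rw [eval₂_sub, eval₂_add, eval₂_mul, eval₂_pow, eval₂_X, eval₂_C, eval₂_C]
    have h1 : algebraMap A L t * algebraMap A L t *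
        (s ^ 2 - (algebraMap A L β * s + algebraMap A L α)) = 0 := by
      have h2 := congrArg (algebraMap A L) hβα
      simp only [map_add, map_mul] at h2
      linear_combination (algebraMap A L t * s + algebraMap A L c -
        algebraMap A L β * algebraMap A L t) * hs - h2
    exact (hu.mul hu).mul_right_eq_zero.1 h1
  let E : Subalgebra A L := Algebra.adjoin A {s}
  have hEfin : Module.Finite A E := by
    refine ⟨(Submodule.fg_top _).mpr (fg_adjoin_of_finite (Set.finite_singleton s) fun y hy => ?_)⟩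
    rw [Set.mem_singleton_iff.mp hy]
    exact hsint
  have hEint : Algebra.IsIntegral A E := Algebra.IsIntegral.of_finite A E
  let κ : E ⊗[A] A' →ₐ[A] L ⊗[A] A' := Algebra.TensorProduct.map E.val (AlgHom.id A A')
  have hκ : Function.Injective κ := by
    have := Module.Flat.rTensor_preserves_injective_linearMap (M := A') E.val.toLinearMap
      Subtype.val_injective
    exact this
  let s₀ : E := ⟨s, Algebra.self_mem_adjoin_singleton _ _⟩
  let ε : E ⊗[A] A' := s₀ ⊗ₜ 1 + 1 ⊗ₜ w
  have hκε : κ ε = algebraMap L (L ⊗[A] A') s + ρ w := by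
    rw [map_add, Algebra.TensorProduct.map_tmul, Algebra.TensorProduct.map_tmul]
    rfl
  have hτe : τ * κ ε = ρ j₁ := by
    rw [hκε, mul_add, hcw, map_add, map_mul]
    congr 1
    change ρ (algebraMap A A' t) * _ = _
    rw [hρa, hρa, ← map_mul, hs]
  have hee : κ ε * κ ε = κ ε := by
    apply (hτ.mul hτ).mul_left_cancel
    calc τ * τ * (κ ε * κ ε) = (τ * κ ε) * (τ * κ ε) := by ring
      _ = ρ (j₁ * j₁) := by rw [hτe, map_mul]
      _ = τ * ρ j₁ := by rw [hjj, map_mul]
      _ = τ * τ * κ ε := by rw [← hτe]; ring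
  have hε : IsIdempotentElem ε := hκ (by rw [map_mul]; exact hee)
  obtain ⟨e₀, he₀, he₀'⟩ := IdemDesc.exists_idempotent hm hres E ε hε
  let f : L := e₀
  have hff' : f * f = f := congrArg Subtype.val he₀
  have hf : algebraMap L (L ⊗[A] A') f = κ ε := by
    rw [← he₀']
    rfl
  -- the ideals
  let I₁ : Ideal A := LinearMap.ker ((LinearMap.mulRight A (1 - f)).comp (Algebra.linearMap A L))
  let I₂ : Ideal A := LinearMap.ker ((LinearMap.mulRight A f).comp (Algebra.linearMap A L))
  have hI₁ : ∀ a, a ∈ I₁ ↔ algebraMap A L a * (1 - f) = 0 := fun a => Iff.rfl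
  have hI₂ : ∀ a, a ∈ I₂ ↔ algebraMap A L a * f = 0 := fun a => Iff.rfl
  have hI₁' : ∀ a ∈ I₁, ρ (algebraMap A A' a) * κ ε = ρ (algebraMap A A' a) := by
    intro a ha
    rw [hI₁, mul_sub, mul_one, sub_eq_zero] at ha
    rw [hρa, ← hf, ← map_mul, ← ha]
  have hI₂' : ∀ a ∈ I₂, ρ (algebraMap A A' a) * κ ε = 0 := by
    intro a ha
    rw [hI₂] at ha
    rw [hρa, ← hf, ← map_mul, ha, map_zero]
  have hdec' : ∀ a ∈ maximalIdeal A ^ n, ∃ i₁ ∈ J₁, ∃ i₂ ∈ J₂, algebraMap A A' a = i₁ + i₂ ∧
      ρ (algebraMap A A' a) * κ ε = ρ i₁ := by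
    intro a ha
    obtain ⟨i₁, hi₁, i₂, hi₂, hi, hi'⟩ := hdec a ha
    refine ⟨i₁, hi₁, i₂, hi₂, hi, ?_⟩
    apply hτ.mul_left_cancel
    rw [mul_left_comm, hτe, ← map_mul, hi', map_mul]
  have hsup : maximalIdeal A ^ n ≤ I₁ ⊔ I₂ := by
    intro a ha
    obtain ⟨i₁, hi₁, i₂, hi₂, hi, hi'⟩ := hdec' a ha
    obtain ⟨k, b, hb⟩ := IsLocalization.Away.surj t (algebraMap A L a * f)
    have h1 : ρ (algebraMap A A' b) = ρ (i₁ * algebraMap A A' t ^ k) := by
      rw [hρa, ← hb, map_mul, map_mul, hf, ← hρa, hi', map_mul, map_pow, map_pow, hρa]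
    have h2 : b ∈ Ideal.span {t ^ k} := by
      rw [← Ideal.comap_map_eq_self_of_faithfullyFlat (B := A') (Ideal.span {t ^ k}), Ideal.mem_comap,
        hρ h1, Ideal.map_span, Set.image_singleton, map_pow]
      exact Ideal.mul_mem_left _ _ (Ideal.mem_span_singleton_self _)
    obtain ⟨g, rfl⟩ := Ideal.mem_span_singleton'.1 h2
    have h3 : algebraMap A L a * f = algebraMap A L g := by
      rw [map_mul, map_pow] at hb
      exact (hu.pow k).mul_right_cancel hb
    have h4 : a = g + (a - g) := by ring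
    rw [h4]
    refine Submodule.add_mem_sup ?_ ?_
    · rw [hI₁, ← h3, mul_sub, mul_one, mul_assoc, hff', sub_self]
    · rw [hI₂, map_sub, ← h3, sub_mul, mul_assoc, hff', sub_self]
  refine ⟨I₁, I₂, ?_, hsup, ?_⟩
  · rw [eq_bot_iff, Ideal.mul_le]
    intro a ha b hb
    rw [hI₁] at ha
    rw [hI₂] at hb
    rw [Ideal.mem_bot]
    apply hLinj
    rw [map_mul, map_zero]
    linear_combination algebraMap A L b * ha + algebraMap A L a * hb
  · intro p hp hpm
    constructor
    · intro hJp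
      rw [Ideal.map_le_iff_le_comap]
      intro g hg
      rw [Ideal.mem_comap]
      obtain ⟨a, ha, hap⟩ := exists_notMem hm n p hp hpm _ le_rfl
      obtain ⟨i₁, hi₁, i₂, hi₂, hi, hi'⟩ := hdec' a ha
      have h1 : algebraMap A A' a * algebraMap A A' g = i₁ * algebraMap A A' g := by
        apply hρ
        rw [map_mul, map_mul, ← hi', ← hI₁' g hg]
        linear_combination (-ρ (algebraMap A A' a) * ρ (algebraMap A A' g)) * hee
      have h2 : algebraMap A A' a * algebraMap A A' g ∈ p := by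
        rw [h1]
        exact Ideal.mul_mem_right _ _ (hJp hi₁)
      exact (hp.mem_or_mem h2).resolve_left hap
    · intro hIp j hj'
      obtain ⟨a, ha, hap⟩ := exists_notMem hm n p hp hpm _ hsup
      obtain ⟨g, hg, h, hh, rfl⟩ := Submodule.mem_sup.1 ha
      have hhp : algebraMap A A' h ∉ p := by
        intro hhp
        apply hap
        rw [map_add]
        exact p.add_mem (hIp (Ideal.mem_map_of_mem _ hg)) hhp
      have h1 : ρ j * κ ε = ρ j := by
        apply hτ.mul_left_cancel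
        rw [mul_left_comm, hτe, ← map_mul, ← map_mul]
        congr 1
        rw [← hj, add_mul, mul_comm j₂, hmul j hj' j₂ hj₂, add_zero, mul_comm]
      have h2 : j * algebraMap A A' h = 0 := by
        apply hρ
        rw [map_mul, map_zero, ← h1, mul_assoc, mul_comm (κ ε), hI₂' h hh, mul_zero]
      exact (hp.mem_or_mem (h2 ▸ p.zero_mem)).resolve_right hhp

end K580.PunctKey
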