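import Groth.Agent.Brnch.K580.CountHens
import Mathlib.RingTheory.Ideal.GoingDown

/-!
# Fibres of minimal primes along flat maps and radicals of extended ideals
-/

set_option autoImplicit false

noncomputable section

namespace K580.RadPrime

variable {A B : Type*} [CommRing A] [CommRing B] [Algebra A B] 

/-- The primes minimal over the extension of a minimal prime `q` along a flat map are the minimal primes
over `q`. -/
theorem mem_minimalPrimes_map_iff [Module.Flat A B] {q : Ideal A} (hq : q ∈ minimalPrimes A) {Q : Ideal B} :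
    Q ∈ (q.map (algebraMap A B)).minimalPrimes ↔
      Q ∈ minimalPrimes B ∧ Q.comap (algebraMap A B) = q := by
  have hqp : q.IsPrime := hq.1.1
  constructor
  · rintro ⟨⟨hQp, hQ⟩, hmin⟩
    have h1 : q ≤ Q.comap (algebraMap A B) := Ideal.map_le_iff_le_comap.1 hQ
    have : Q.LiesOver (Q.comap (algebraMap A B)) := ⟨rfl⟩
    obtain ⟨P, hPQ, hP, hPq⟩ := Ideal.exists_ideal_le_liesOver_of_le Q h1
    have h2 : q.map (algebraMap A B) ≤ P := by
      rw [Ideal.map_le_iff_le_comap, ← Ideal.under_def, ← hPq.over]
    have h3 : Q = P := le_antisymm (hmin ⟨hP, h2⟩ hPQ) hPQ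
    have h4 : Q.comap (algebraMap A B) = q := by
      rw [h3]
      exact hPq.over.symm
    refine ⟨⟨⟨hQp, bot_le⟩, fun P' hP' hle => ?_⟩, h4⟩
    have hP'p : P'.IsPrime := hP'.1
    have h5 : P'.comap (algebraMap A B) ≤ q := by
      rw [← h4]
      exact Ideal.comap_mono hle
    have h6 : q ≤ P'.comap (algebraMap A B) := hq.2 ⟨Ideal.comap_isPrime _ _, bot_le⟩ h5
    exact hmin ⟨hP'p, Ideal.map_le_iff_le_comap.2 h6⟩ hle
  · rintro ⟨⟨⟨hQp, -⟩, hmin⟩, h1⟩
    refine ⟨⟨hQp, Ideal.map_le_iff_le_comap.2 h1.ge⟩, fun P hP hle => hmin ⟨hP.1, bot_le⟩ hle⟩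

/-- For a faithfully flat map with finitely many minimal primes upstairs, there are equally many minimal
primes iff the extensions of all minimal primes have prime radical. -/
theorem encard_eq_iff [Module.FaithfullyFlat A B] (hfin : (minimalPrimes B).Finite) :
    (minimalPrimes A).encard = (minimalPrimes B).encard ↔
      ∀ q ∈ minimalPrimes A, (q.map (algebraMap A B)).radical.IsPrime := by
  have hmaps := CountHens.mapsTo_comap_minimalPrimes (A := A) (S := B)
  have hsurj := CountHens.surjective_comap_minimalPrimes (A := A) (S := B)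
  have himg : Ideal.comap (algebraMap A B) '' minimalPrimes B = minimalPrimes A :=
    le_antisymm hmaps.image_subset hsurj
  have hinj : (minimalPrimes A).encard = (minimalPrimes B).encard ↔
      Set.InjOn (Ideal.comap (algebraMap A B)) (minimalPrimes B) := by
    rw [← himg]
    constructor
    · intro h
      exact hfin.injOn_of_encard_image_eq h
    · intro h
      exact h.encard_image
  rw [hinj]
  constructor
  · intro h q hq
    obtain ⟨Q, hQ, rfl⟩ := hsurj hq
    have h1 : ((Q.comap (algebraMap A B)).map (algebraMap A B)).minimalPrimes = {Q} := by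
      ext P
      rw [mem_minimalPrimes_map_iff hq, Set.mem_singleton_iff]
      constructor
      · rintro ⟨hP, hPQ⟩
        exact h hP hQ hPQ
      · rintro rfl
        exact ⟨hQ, rfl⟩
    rw [← Ideal.sInf_minimalPrimes, h1, sInf_singleton]
    exact hQ.1.1
  · intro h Q₁ h₁ Q₂ h₂ he
    have hp := h _ (hmaps h₁)
    have hle₁ : ((Q₁.comap (algebraMap A B)).map (algebraMap A B)).radical ≤ Q₁ :=
      (Ideal.IsPrime.radical_le_iff h₁.1.1).2 Ideal.map_comap_le
    have hle₂ : ((Q₁.comap (algebraMap A B)).map (algebraMap A B)).radical ≤ Q₂ := by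
      rw [he]
      exact (Ideal.IsPrime.radical_le_iff h₂.1.1).2 Ideal.map_comap_le
    exact (le_antisymm (h₁.2 ⟨hp, bot_le⟩ hle₁) hle₁).trans (le_antisymm hle₂ (h₂.2 ⟨hp, bot_le⟩ hle₂))

end K580.RadPrime
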