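import Groth.Agent.Brnch.K580.HullBij
import Groth.Agent.UnramA.UnibranchTensor
import Groth.Agent.Sga2lef.H75.PunctRed
import Groth.Agent.Hensel.Exist

/-!
# Ind-smooth local algebras over strictly henselian domains are domains
-/

set_option autoImplicit false
universe u

noncomputable section

namespace K580.SmoothDom

open TensorProduct IsLocalRing Groth.Agent.CalgC.IndEtale Groth.Agent.UnramA.Unibranch
  Groth.Agent.UnramA.UnibranchTensor

/-- An integral local algebra over a local ring with separably closed residue field has purely inseparable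
residue field extension. -/
theorem geomLocal_of_isSepClosed (D N : Type u) [CommRing D] [IsLocalRing D]
    [IsSepClosed (ResidueField D)] [CommRing N] [IsLocalRing N] [Algebra D N] [Algebra.IsIntegral D N] :
    GeomLocal D N := by
  have hl : IsLocalHom (algebraMap D N) := by
    refine ((local_hom_TFAE (algebraMap D N)).out 0 4).mpr ?_
    exact IsLocalRing.eq_maximalIdeal (Ideal.isMaximal_comap_of_isIntegral_of_isMaximal (maximalIdeal N))
  have halg : Algebra.IsAlgebraic (ResidueField D) (ResidueField N) := by
    have : Algebra.IsIntegral (ResidueField D) (ResidueField N) := by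
      refine ⟨fun x => ?_⟩
      obtain ⟨x, rfl⟩ := residue_surjective x
      obtain ⟨p, hp, hpx⟩ := Algebra.IsIntegral.isIntegral (R := D) x
      refine ⟨p.map (residue D), hp.map _, ?_⟩
      rw [Polynomial.eval₂_map]
      have h1 := Polynomial.hom_eval₂ p (algebraMap D N) (residue N) x
      rw [hpx, map_zero] at h1
      exact h1.symm
    infer_instance
  have hpi : IsPurelyInseparable (ResidueField D) (ResidueField N) := inferInstance
  refine ⟨inferInstance, fun x => ?_⟩
  have hq : ExpChar (ResidueField D) (ringExpChar (ResidueField N)) := by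
    rw [← ringExpChar_residueField_eq (algebraMap D N)]
    infer_instance
  obtain ⟨n, y, hy⟩ := IsPurelyInseparable.pow_mem (ResidueField D) (ringExpChar (ResidueField N)) (residue N x)
  obtain ⟨a, rfl⟩ := residue_surjective y
  refine ⟨n, a, ?_⟩
  rw [← residue_eq_zero_iff, map_sub, map_pow, sub_eq_zero, ← hy]
  rfl

/-- A local ind-smooth algebra over a strictly henselian domain is a domain. -/
theorem isDomain_of_isIndSmooth (D T : Type u) [CommRing D] [IsDomain D] [HenselianLocalRing D]
    [IsSepClosed (ResidueField D)] [CommRing T] [IsLocalRing T] [Algebra D T]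
    [IsLocalHom (algebraMap D T)] (h : IsIndSmooth D T) : IsDomain T := by
  let N := integralClosure D (FractionRing D)
  have hNloc : IsLocalRing N := Groth.Agent.CalgC.HenselIntDom.isLocalRing_of_isIntegral (A := D)
  have hg : GeomLocal D N := geomLocal_of_isSepClosed D N
  have hfl : Module.Flat D T := IsInd.flat isGood_smooth ((isIndSmooth_iff D T).1 h)
  have hff : Module.FaithfullyFlat D T := Module.FaithfullyFlat.of_flat_of_isLocalHom
  have hinj : Function.Injective (algebraMap D N) := FaithfulSMul.algebraMap_injective D N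
  have hinj' : Function.Injective (algebraMap T (T ⊗[D] N)) := by
    have h := Module.Flat.lTensor_preserves_injective_linearMap (M := T)
      (Algebra.linearMap D N) hinj
    intro x y hxy
    have h2 : (x ⊗ₜ[D] (1 : D)) = y ⊗ₜ[D] 1 := by
      apply h
      simpa using hxy
    have h3 := congrArg (TensorProduct.rid D T) h2
    simpa using h3
  have hnt : Nontrivial (T ⊗[D] N) := hinj'.nontrivial
  obtain ⟨hloc, -⟩ := geomLocal_tensor (B := T) hg
  have hloc' : IsLocalRing (N ⊗[D] T) := (Algebra.TensorProduct.comm D T N).toRingEquiv.isLocalRing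
  have h1 : IsIndSmooth N (N ⊗[D] T) := IsInd.baseChange isGood_smooth ((isIndSmooth_iff D T).1 h) N
  have hic : IsIntegrallyClosed N :=
    integralClosure.isIntegrallyClosedOfFiniteExtension (FractionRing D)
  obtain ⟨h2, -⟩ := Groth.Agent.CalgC.IndNormal.isDomain_and_isIntegrallyClosed' h1
  have h3 : IsDomain (T ⊗[D] N) := (Algebra.TensorProduct.comm D T N).toRingEquiv.toMulEquiv.isDomain _
  exact hinj'.isDomain (algebraMap T (T ⊗[D] N))

/-- Prime elements of strictly henselian local rings stay prime in local ind-smooth algebras. -/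
theorem prime_of_isIndSmooth (R T : Type u) [CommRing R] [HenselianLocalRing R]
    [IsSepClosed (ResidueField R)] [CommRing T] [IsLocalRing T] [Algebra R T]
    [IsLocalHom (algebraMap R T)] (h : IsIndSmooth R T) (Δ : R) (hΔ : Prime Δ) :
    Prime (algebraMap R T Δ) := by
  have hfl : Module.Flat R T := IsInd.flat isGood_smooth ((isIndSmooth_iff R T).1 h)
  have hff : Module.FaithfullyFlat R T := Module.FaithfullyFlat.of_flat_of_isLocalHom
  have hinj : Function.Injective (algebraMap R T) := FaithfulSMul.algebraMap_injective R T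
  let I : Ideal R := Ideal.span {Δ}
  have hI : I.IsPrime := (Ideal.span_singleton_prime hΔ.ne_zero).2 hΔ
  have hD : IsDomain (R ⧸ I) := inferInstance
  have hsurj : Function.Surjective (algebraMap R (R ⧸ I)) := Ideal.Quotient.mk_surjective
  have hDhens : HenselianLocalRing (R ⧸ I) :=
    Groth.Agent.Sga2lef.H75.PunctRed.henselianLocalRing_quotient I
  have hlocD : IsLocalHom (algebraMap R (R ⧸ I)) := IsLocalHom.of_surjective _ hsurj
  have hsc : IsSepClosed (ResidueField (R ⧸ I)) := by
    have h1 : Function.Bijective (ResidueField.map (algebraMap R (R ⧸ I))) :=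
      ⟨RingHom.injective _, fun y => by
        obtain ⟨b, rfl⟩ := residue_surjective y
        obtain ⟨a, rfl⟩ := hsurj b
        exact ⟨residue R a, rfl⟩⟩
    exact Groth.Agent.Hensel.Exist.isSepClosed_of_ringEquiv (RingEquiv.ofBijective _ h1).symm
  let J : Ideal T := I.map (algebraMap R T)
  have hJ : J ≠ ⊤ := by
    intro h1
    have h2 : J ≤ maximalIdeal T := by
      refine (Ideal.map_mono (IsLocalRing.le_maximalIdeal hI.ne_top)).trans ?_
      rw [Ideal.map_le_iff_le_comap, IsLocalRing.maximalIdeal_comap (algebraMap R T)]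
    exact (maximalIdeal.isMaximal T).ne_top (top_le_iff.1 (h1 ▸ h2))
  have hnt : Nontrivial (T ⧸ J) := Ideal.Quotient.nontrivial_iff.2 hJ
  have hTloc : IsLocalRing (T ⧸ J) := IsLocalRing.of_surjective' _ Ideal.Quotient.mk_surjective
  have hlocT : IsLocalHom (algebraMap T (T ⧸ J)) := IsLocalHom.of_surjective _ Ideal.Quotient.mk_surjective
  have hloc : IsLocalHom (algebraMap (R ⧸ I) (T ⧸ J)) := by
    refine ⟨fun x hx => ?_⟩
    obtain ⟨x, rfl⟩ := hsurj x
    have h1 : IsUnit (algebraMap T (T ⧸ J) (algebraMap R T x)) := hx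
    exact (isUnit_of_map_unit _ _ (isUnit_of_map_unit _ _ h1)).map _
  have hind : IsIndSmooth (R ⧸ I) (T ⧸ J) := by
    have h1 : IsIndSmooth (R ⧸ I) ((R ⧸ I) ⊗[R] T) :=
      IsInd.baseChange isGood_smooth ((isIndSmooth_iff R T).1 h) (R ⧸ I)
    exact IsIndP.of_algEquiv h1 (Algebra.TensorProduct.quotIdealMapEquivQuotTensor T I).symm
  have hdom := isDomain_of_isIndSmooth (R ⧸ I) (T ⧸ J) hind
  have hJp : J.IsPrime := (Ideal.Quotient.isDomain_iff_prime J).1 hdom
  have hJeq : J = Ideal.span {algebraMap R T Δ} := by
    change I.map (algebraMap R T) = _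
    rw [Ideal.map_span, Set.image_singleton]
  refine (Ideal.span_singleton_prime ?_).1 (hJeq ▸ hJp)
  intro h0
  exact hΔ.ne_zero (hinj (h0.trans (map_zero _).symm))

end K580.SmoothDom
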