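import Groth.Agent.Brnch.K580.FlatLe
import Groth.Agent.Etbc.H225.TensorSH

/-!
# Maps between strict henselizations
-/

set_option autoImplicit false
universe u

noncomputable section

namespace K580.StrictIso

open TensorProduct IsLocalRing Groth.Agent.CalgC.IndEtale Groth.Agent.Hensel.Hull Groth.Agent.Hensel.HullLocal

/-- A strict henselization `S` of `A` embeds into henselian local algebras with the same residue field as `S`. -/
theorem exists_section {A S T : Type u} [CommRing A] [IsLocalRing A] [CommRing S] [IsLocalRing S]
    [Algebra A S] [IsLocalHom (algebraMap A S)] [hS : Hensel.IsStrictHenselization A S]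
    [CommRing T] [HenselianLocalRing T] [Algebra A T] [IsLocalHom (algebraMap A T)]
    (g : T →+* S) [IsLocalHom g] (hg : g.comp (algebraMap A T) = algebraMap A S)
    (hres : Function.Surjective (ResidueField.map g)) :
    ∃ h : S →+* T, g.comp h = RingHom.id S ∧ h.comp (algebraMap A S) = algebraMap A T := by
  have hSh := hS.henselian
  let e : ResidueField T ≃+* ResidueField S :=
    RingEquiv.ofBijective (ResidueField.map g) ⟨(ResidueField.map g).injective, hres⟩
  obtain ⟨h, ⟨h1, h2⟩, -⟩ := hS.universal T (algebraMap A T) (e.symm : ResidueField S →+* ResidueField T) (by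
    ext x
    obtain ⟨a, rfl⟩ := residue_surjective x
    change e.symm (residue S (algebraMap A S a)) = residue T (algebraMap A T a)
    rw [RingEquiv.symm_apply_eq]
    change _ = residue S (g (algebraMap A T a))
    rw [← RingHom.comp_apply g, hg])
  refine ⟨h, ?_, h1⟩
  obtain ⟨i, hi, hiu⟩ := hS.universal S (algebraMap A S) (RingHom.id _) (by ext; rfl)
  rw [hiu (g.comp h) ⟨?_, fun x => ?_⟩, hiu (RingHom.id S) ⟨by simp, fun x => rfl⟩]
  · rw [RingHom.comp_assoc, h1, hg]
  · change ResidueField.map g (residue T (h x)) = residue S x
    rw [h2]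
    exact e.apply_symm_apply _

/-- A local map between strict henselizations of `A` is an isomorphism. -/
theorem bijective {A S T : Type u} [CommRing A] [IsLocalRing A] [CommRing S] [IsLocalRing S]
    [Algebra A S] [IsLocalHom (algebraMap A S)] [hS : Hensel.IsStrictHenselization A S]
    [CommRing T] [IsLocalRing T] [Algebra A T] [IsLocalHom (algebraMap A T)]
    [hT : Hensel.IsStrictHenselization A T]
    (g : T →+* S) [IsLocalHom g] (hg : g.comp (algebraMap A T) = algebraMap A S) :
    Function.Bijective g := by
  have hTh := hT.henselian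
  have hTs := hT.isSepClosure
  have hSs := hS.isSepClosure
  have hTc : IsSepClosed (ResidueField T) := hTs.sep_closed
  have hSsep : Algebra.IsSeparable (ResidueField A) (ResidueField S) := hSs.separable
  have hres : Function.Surjective (ResidueField.map g) := by
    let _ : Algebra (ResidueField T) (ResidueField S) := (ResidueField.map g).toAlgebra
    have : IsScalarTower (ResidueField A) (ResidueField T) (ResidueField S) := by
      refine IsScalarTower.of_algebraMap_eq fun x => ?_
      obtain ⟨a, rfl⟩ := residue_surjective x
      change residue S (algebraMap A S a) = residue S (g (algebraMap A T a))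
      rw [← RingHom.comp_apply g, hg]
    have : Algebra.IsSeparable (ResidueField T) (ResidueField S) :=
      Algebra.isSeparable_tower_top_of_isSeparable (ResidueField A) _ _
    exact IsSepClosed.algebraMap_surjective (ResidueField T) (ResidueField S)
  obtain ⟨h, hgh, hh⟩ := exists_section g hg hres
  have hhg : h.comp g = RingHom.id T := by
    obtain ⟨i, hi, hiu⟩ := hT.universal T (algebraMap A T) (RingHom.id _) (by ext; rfl)
    rw [hiu (h.comp g) ⟨?_, fun x => ?_⟩, hiu (RingHom.id T) ⟨by simp, fun x => rfl⟩]
    · rw [RingHom.comp_assoc, hg, hh]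
    · apply (ResidueField.map g).injective
      change residue S (g (h (g x))) = residue S (g x)
      rw [← RingHom.comp_apply g h, hgh]
      rfl
  refine ⟨fun x y hxy => ?_, fun y => ⟨h y, congr($hgh y)⟩⟩
  have := congrArg h hxy
  rw [← RingHom.comp_apply h, ← RingHom.comp_apply h, hhg] at this
  exact this

/-- Strict henselizations of `A` are strict henselizations of the intermediate ind-étale local algebras. -/
theorem of_tower (A B S : Type u) [CommRing A] [IsLocalRing A] [CommRing B] [IsLocalRing B]
    [CommRing S] [IsLocalRing S] [Algebra A B] [Algebra A S] [Algebra B S] [IsScalarTower A B S]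
    [IsLocalHom (algebraMap A B)] [IsLocalHom (algebraMap B S)] [IsLocalHom (algebraMap A S)]
    [hS : Hensel.IsStrictHenselization A S] (hB : IsIndEtale A B) : Hensel.IsStrictHenselization B S := by
  have hwe : Algebra.WeaklyEtale A B := Groth.Agent.Flat2G.StrictHens.weaklyEtale_of_laz hB
  have hSh := hS.henselian
  have hSs := hS.isSepClosure
  have hSc : IsSepClosed (ResidueField S) := hSs.sep_closed
  obtain ⟨T, _, _, _, _, hT, -⟩ := Groth.Agent.Hensel.Exist.exists_isStrictHenselization (R := B)
  let _ : Algebra A T := ((algebraMap B T).comp (algebraMap A B)).toAlgebra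
  have : IsScalarTower A B T := IsScalarTower.of_algebraMap_eq fun _ => rfl
  have : IsLocalHom (algebraMap A T) := RingHom.isLocalHom_comp _ _
  have hTA : Hensel.IsStrictHenselization A T :=
    Groth.Agent.Flat2G.StrictHens.isStrictHenselization_of_weaklyEtale A B T
  obtain ⟨g, hg⟩ := FlatLe.exists_lift_strictHens (A := B) (S := T) (T := S)
  have hgl : IsLocalHom g := FlatLe.isLocalHom_of_comp
    (Groth.Agent.Hensel.Exist.map_maximalIdeal_of_isStrictHenselization B T) (algebraMap B S) g hg
  have hgA : g.comp (algebraMap A T) = algebraMap A S := by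
    change g.comp ((algebraMap B T).comp (algebraMap A B)) = _
    rw [← RingHom.comp_assoc, hg, ← IsScalarTower.algebraMap_eq A B S]
  have hb := bijective g hgA
  let e : T ≃ₐ[B] S := AlgEquiv.ofBijective { g with commutes' := fun b => congr($hg b) } hb
  exact Groth.Agent.Flat2G.StrictHens.isStrictHenselization_of_algEquiv B T S e

/-- Let `C` be a henselian local `A`-algebra, and `S` a strict henselization of both `A` and `C`. Then `C` is
ind-étale over `A`. -/
theorem isIndEtale_of_strict (A C S : Type u) [CommRing A] [IsLocalRing A] [CommRing C] [HenselianLocalRing C]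
    [CommRing S] [IsLocalRing S] [Algebra A C] [Algebra A S] [Algebra C S] [IsScalarTower A C S]
    [IsLocalHom (algebraMap A C)] [IsLocalHom (algebraMap C S)] [IsLocalHom (algebraMap A S)]
    [hS : Hensel.IsStrictHenselization A S] [hC : Hensel.IsStrictHenselization C S] : IsIndEtale A C := by
  let K := ResidueField C
  have hlK : IsLocalHom (algebraMap A K) := by
    rw [IsScalarTower.algebraMap_eq A C K]
    have : IsLocalHom (algebraMap C K) := inferInstanceAs (IsLocalHom (residue C))
    exact RingHom.isLocalHom_comp _ _
  obtain ⟨B, _, _, π, hB⟩ := exists_isHull A K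
  have hBloc := hB.isLocalRing
  have hBh := hB.henselianLocalRing
  have hlAB : IsLocalHom (algebraMap A B) := isLocalHom_algebraMap hB
  have hsep : Algebra.IsSeparable (ResidueField A) K := by
    have h1 : IsScalarTower (ResidueField A) K (ResidueField S) := by
      refine IsScalarTower.of_algebraMap_eq fun x => ?_
      obtain ⟨a, rfl⟩ := residue_surjective x
      change residue S (algebraMap A S a) = residue S (algebraMap C S (algebraMap A C a))
      rw [← IsScalarTower.algebraMap_apply]
    have h2 : Algebra.IsSeparable (ResidueField A) (ResidueField S) := hS.isSepClosure.separable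
    exact Algebra.isSeparable_tower_bot_of_isSeparable (ResidueField A) K (ResidueField S)
  have hπ : Function.Surjective π := π_surjective hB
  obtain ⟨β, hβ, -⟩ := hB.existsUnique_algHom (T := C) (RingHom.id K) (fun r => rfl)
  have hβl : IsLocalHom β.toRingHom := by
    refine ⟨fun s hs => hB.isUnit_of_ne_zero s ?_⟩
    have h1 : residue C (β s) = π s := hβ s
    rw [← h1, residue_ne_zero_iff_isUnit]
    exact hs
  let _ : Algebra B C := β.toRingHom.toAlgebra
  have towABC : IsScalarTower A B C := IsScalarTower.of_algebraMap_eq fun a => (β.commutes a).symm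
  have hlBC : IsLocalHom (algebraMap B C) := hβl
  let _ : Algebra B S := ((algebraMap C S).comp (algebraMap B C)).toAlgebra
  have towBCS : IsScalarTower B C S := IsScalarTower.of_algebraMap_eq fun _ => rfl
  have towABS : IsScalarTower A B S := IsScalarTower.of_algebraMap_eq fun a => by
    rw [IsScalarTower.algebraMap_apply A C S, IsScalarTower.algebraMap_apply A B C,
      IsScalarTower.algebraMap_apply B C S]
  have hlBS : IsLocalHom (algebraMap B S) := RingHom.isLocalHom_comp _ _
  have hBS : Hensel.IsStrictHenselization B S := of_tower A B S hB.lazard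
  have hres : Function.Surjective (ResidueField.map (algebraMap B C)) := by
    intro x
    obtain ⟨s, hs⟩ := hπ x
    exact ⟨residue B s, (hβ s).trans hs⟩
  have hTloc : IsLocalRing (C ⊗[B] S) := Groth.Agent.Etbc.H225.TensorSH.isLocalRing_tensor B C S hres
  have hTl : IsLocalHom (algebraMap C (C ⊗[B] S)) :=
    Groth.Agent.Etbc.H225.TensorSH.isLocalHom_includeLeft B C S
  have hT : Hensel.IsStrictHenselization C (C ⊗[B] S) :=
    Groth.Agent.Etbc.H225.TensorSH.isStrictHenselization_tensor B C S hres
  let μ : C ⊗[B] S →ₐ[C] S := Algebra.TensorProduct.lift (Algebra.ofId C S) (AlgHom.id B S)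
    (fun _ _ => Commute.all _ _)
  have hμs : ∀ s : S, μ (1 ⊗ₜ s) = s := fun s => by simp [μ]
  have hμl : IsLocalHom μ.toRingHom := FlatLe.isLocalHom_of_comp
    (Groth.Agent.Hensel.Exist.map_maximalIdeal_of_isStrictHenselization C (C ⊗[B] S)) (algebraMap C S)
    μ.toRingHom μ.comp_algebraMap
  have hμ : Function.Bijective μ := bijective μ.toRingHom μ.comp_algebraMap
  have hff : Module.FaithfullyFlat B S :=
    Groth.Agent.Hensel.Lazard.faithfullyFlat_of_isStrictHenselization B S
  -- `B → C` is surjective
  have hsurj : Function.Surjective (Algebra.linearMap B C) := by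
    rw [← Module.FaithfullyFlat.lTensor_surjective_iff_surjective B S]
    intro z
    obtain ⟨z, rfl⟩ := (TensorProduct.comm B C S).surjective z
    refine ⟨μ z ⊗ₜ 1, ?_⟩
    rw [LinearMap.lTensor_tmul, Algebra.linearMap_apply, map_one]
    have h1 : z = 1 ⊗ₜ μ z := hμ.1 (hμs (μ z)).symm
    conv_rhs => rw [h1]
    rw [TensorProduct.comm_tmul]
  have hinj : Function.Injective (algebraMap B C) := by
    have h1 : Function.Injective (algebraMap B S) := FaithfulSMul.algebraMap_injective B S
    exact Function.Injective.of_comp (f := algebraMap C S) h1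
  let e : B ≃ₐ[A] C := AlgEquiv.ofBijective β ⟨hinj, hsurj⟩
  exact IsIndP.of_algEquiv ((isIndEtale_iff A B).1 hB.lazard) e

end K580.StrictIso
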