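import Groth.Agent.Brnch.K580.StrictIso
import Groth.Agent.Brnch.K580.AlgOver

/-!
# When is a strict henselization of `A` a strict henselization of a subring
-/

set_option autoImplicit false
universe u

noncomputable section

namespace K580.StrictOf

open TensorProduct IsLocalRing Groth.Agent.CalgC.IndEtale Brnch K580.AlgOver

/-- Ind-étale algebras over reduced rings are reduced. -/
theorem isReduced_of_isIndEtale (A S : Type u) [CommRing A] [CommRing S] [Algebra A S] [IsReduced A]
    (h : IsIndEtale A S) : IsReduced S := by
  have : Algebra.WeaklyEtale A S := Groth.Agent.Flat2G.StrictHens.weaklyEtale_of_laz h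
  exact K361.ReducedWE.isReduced A S

variable {A D S : Type u} [CommRing A] [IsLocalRing A] [IsNoetherianRing A] [IsReduced A] [CommRing D]
    [IsLocalRing D] [CommRing S] [IsLocalRing S] [Algebra A D] [Algebra A S] [Algebra D S] [IsScalarTower A D S]
    [IsLocalHom (algebraMap A S)] [IsLocalHom (algebraMap D S)]
    [hS : Hensel.IsStrictHenselization A S]

/-- If `D ⊆ S` has as many geometric branches as `A` then `S` is a strict henselization of `D`. -/
theorem strict_of_card (hinj : Function.Injective (algebraMap D S))
    (hcard : numGeomBranches D = numGeomBranches A) : Hensel.IsStrictHenselization D S := by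
  have hSlaz : IsIndEtale A S := Groth.Agent.Hensel.Lazard.laz_of_isStrictHenselization A S
  have hSh := hS.henselian
  have hSs := hS.isSepClosure
  have hSc : IsSepClosed (ResidueField S) := hSs.sep_closed
  have hSsep : Algebra.IsSeparable (ResidueField A) (ResidueField S) := hSs.separable
  have hffS : Module.FaithfullyFlat A S := Groth.Agent.Hensel.Lazard.faithfullyFlat_of_isStrictHenselization A S
  have hSN : IsNoetherianRing S := (Groth.Agent.Hensel.EtaleNbhd.isNoetherianRing_iff (R := A)
      (Groth.Agent.Hensel.Exist.isHull_of_isStrictHenselization A S).exists_etale_finset).1 inferInstance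
  have hSred : IsReduced S := isReduced_of_isIndEtale A S hSlaz
  have hDred : IsReduced D := isReduced_of_injective _ hinj
  have hAD : IsAlgOver A D := (algOver_of_isIndEtale hSlaz).of_injective (IsScalarTower.toAlgHom A D S) hinj
  have hlAD : IsLocalHom (algebraMap A D) := by
    refine ⟨fun a ha => ?_⟩
    have h1 : IsUnit (algebraMap A S a) := by
      rw [IsScalarTower.algebraMap_apply A D S]
      exact ha.map _
    exact isUnit_of_map_unit _ _ h1
  obtain ⟨T, _, _, _, _, hT, -⟩ := Groth.Agent.Hensel.Exist.exists_isStrictHenselization (R := D)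
  have hTlaz : IsIndEtale D T := Groth.Agent.Hensel.Lazard.laz_of_isStrictHenselization D T
  have hTh := hT.henselian
  have hTs := hT.isSepClosure
  have hTc : IsSepClosed (ResidueField T) := hTs.sep_closed
  have hTred : IsReduced T := isReduced_of_isIndEtale D T hTlaz
  obtain ⟨g, hg⟩ := FlatLe.exists_lift_strictHens (A := D) (S := T) (T := S)
  have hgl : IsLocalHom g := FlatLe.isLocalHom_of_comp
    (Groth.Agent.Hensel.Exist.map_maximalIdeal_of_isStrictHenselization D T) (algebraMap D S) g hg
  let _ : Algebra A T := ((algebraMap D T).comp (algebraMap A D)).toAlgebra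
  have towADT : IsScalarTower A D T := IsScalarTower.of_algebraMap_eq fun _ => rfl
  have hlAT : IsLocalHom (algebraMap A T) := RingHom.isLocalHom_comp _ _
  have hgA : g.comp (algebraMap A T) = algebraMap A S := by
    change g.comp ((algebraMap D T).comp (algebraMap A D)) = _
    rw [← RingHom.comp_assoc, hg, ← IsScalarTower.algebraMap_eq A D S]
  have hres : Function.Surjective (ResidueField.map g) := by
    let _ : Algebra (ResidueField T) (ResidueField S) := (ResidueField.map g).toAlgebra
    have : IsScalarTower (ResidueField A) (ResidueField T) (ResidueField S) := by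
      refine IsScalarTower.of_algebraMap_eq fun x => ?_
      obtain ⟨a, rfl⟩ := residue_surjective x
      change residue S (algebraMap A S a) = residue S (g (algebraMap A T a))
      rw [← RingHom.comp_apply g, hgA]
    have : Algebra.IsSeparable (ResidueField T) (ResidueField S) :=
      Algebra.isSeparable_tower_top_of_isSeparable (ResidueField A) _ _
    exact IsSepClosed.algebraMap_surjective (ResidueField T) (ResidueField S)
  obtain ⟨h, hgh, -⟩ := StrictIso.exists_section g hgA hres
  have hgs : Function.Surjective g := fun y => ⟨h y, congr($hgh y)⟩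
  have hfinS : (minimalPrimes S).Finite := minimalPrimes.finite_of_isNoetherianRing S
  have hmaps : Set.MapsTo (Ideal.comap g) (minimalPrimes S) (minimalPrimes T) := by
    intro Q hQ
    have hQp : Q.IsPrime := hQ.1.1
    have hav : ∀ a ∈ nonZeroDivisors A, algebraMap A S a ∉ Q := fun a ha haQ =>
      (Ideal.disjoint_nonZeroDivisors_of_mem_minimalPrimes hQ).le_bot ⟨haQ, map_mem_nonZeroDivisors a ha⟩
    have hP : (Q.comap g).IsPrime := Ideal.comap_isPrime _ _
    have hPD : ((Q.comap g).comap (algebraMap D T)) ∈ minimalPrimes D := by
      have : ((Q.comap g).comap (algebraMap D T)).IsPrime := Ideal.comap_isPrime _ _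
      refine hAD.mem_minimalPrimes _ fun a ha haP => hav a ha ?_
      rw [← hgA]
      exact haP
    refine ⟨⟨hP, bot_le⟩, ?_⟩
    rintro P' ⟨hP', -⟩ hle
    have h1 : P'.comap (algebraMap D T) ≤ (Q.comap g).comap (algebraMap D T) := Ideal.comap_mono hle
    have h2 : (Q.comap g).comap (algebraMap D T) ≤ P'.comap (algebraMap D T) :=
      hPD.2 ⟨Ideal.comap_isPrime _ _, bot_le⟩ h1
    exact (Groth.Agent.Hensel.EtaleNbhd.eq_of_le_of_comap_eq (HullBij.isEtaleCovered hTlaz) P' (Q.comap g) hle
      (le_antisymm h1 h2)).ge
  have hinjOn : Set.InjOn (Ideal.comap g) (minimalPrimes S) := (Ideal.comap_injective_of_surjective g hgs).injOn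
  have hcard' : (minimalPrimes T).encard = (minimalPrimes S).encard := by
    change ENat.card (minimalPrimes T) = ENat.card (minimalPrimes S)
    rw [CountHens.strictHenselization D T, CountHens.strictHenselization A S, hcard]
  have himage : Ideal.comap g '' (minimalPrimes S) = minimalPrimes T := by
    refine (hfinS.image _).eq_of_subset_of_encard_le hmaps.image_subset ?_
    rw [hinjOn.encard_image, hcard']
  have hker : RingHom.ker g = ⊥ := by
    have h1 : sInf (minimalPrimes T) = ⊥ := by
      rw [minimalPrimes, Ideal.sInf_minimalPrimes]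
      exact nilradical_eq_zero T
    rw [eq_bot_iff, ← h1]
    refine le_sInf fun P hP => ?_
    rw [← himage] at hP
    obtain ⟨Q, -, rfl⟩ := hP
    intro x hx
    rw [Ideal.mem_comap, RingHom.mem_ker.1 hx]
    exact Q.zero_mem
  have hb : Function.Bijective g := ⟨(RingHom.injective_iff_ker_eq_bot g).2 hker, hgs⟩
  let e : T ≃ₐ[D] S := AlgEquiv.ofBijective { g with commutes' := fun b => congr($hg b) } hb
  exact Groth.Agent.Flat2G.StrictHens.isStrictHenselization_of_algEquiv D T S e

end K580.StrictOf
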