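import Groth.Agent.Brnch.K580.EmbCount

/-!
# The number of (geometric) branches is the sum over the minimal primes
-/

set_option autoImplicit false
universe u

noncomputable section

namespace K580.SumMin

open CAlg2 IsLocalRing Brnch K580.NormRed K580.PiSpec K580.EmbCount

theorem numBranches_of_finite {A : Type u} [CommRing A] [IsLocalRing A] (h : (minimalPrimes A).Finite) :
    numBranches A = ENat.card (MaximalSpectrum (normRed A)) := by
  unfold numBranches
  exact if_pos h

theorem numBranches_of_not_finite {A : Type u} [CommRing A] [IsLocalRing A] (h : ¬ (minimalPrimes A).Finite) :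
    numBranches A = ⊤ := by
  unfold numBranches
  exact if_neg h

theorem numGeomBranches_of_finite {A : Type u} [CommRing A] [IsLocalRing A] (h : (minimalPrimes A).Finite) :
    numGeomBranches A = ENat.card (Σ m' : MaximalSpectrum (normRed A), Emb A m') := by
  unfold numGeomBranches
  exact if_pos h

theorem numGeomBranches_of_not_finite {A : Type u} [CommRing A] [IsLocalRing A]
    (h : ¬ (minimalPrimes A).Finite) : numGeomBranches A = ⊤ := by
  unfold numGeomBranches
  exact if_neg h

theorem finite_minimalPrimes_of_isDomain (B : Type u) [CommRing B] [IsDomain B] : (minimalPrimes B).Finite := by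
  rw [IsDomain.minimalPrimes_eq_singleton_bot]
  exact Set.finite_singleton _

theorem nontrivial_normRed (A : Type u) [CommRing A] [Nontrivial A] : Nontrivial (normRed A) := by
  have hnt : Nontrivial (red A) := by
    refine Ideal.Quotient.nontrivial_iff.2 ?_
    intro h
    have h1 : (1 : A) ∈ nilradical A := h ▸ Submodule.mem_top
    exact not_isNilpotent_one h1
  have h1 : Function.Injective (algebraMap (red A) (FractionRing (red A))) := IsFractionRing.injective _ _
  have : Nontrivial (FractionRing (red A)) := h1.nontrivial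
  infer_instance

theorem isLocalRing_quot (A : Type u) [CommRing A] [IsLocalRing A] (p : Ideal A) [p.IsPrime] :
    IsLocalRing (A ⧸ p) :=
  IsLocalRing.of_surjective' (Ideal.Quotient.mk p) Ideal.Quotient.mk_surjective

theorem residueField_map_surjective {A B : Type*} [CommRing A] [IsLocalRing A] [CommRing B] [IsLocalRing B]
    (f : A →+* B) [IsLocalHom f] (hf : Function.Surjective f) : Function.Surjective (ResidueField.map f) := by
  intro x
  obtain ⟨b, rfl⟩ := residue_surjective x
  obtain ⟨a, rfl⟩ := hf b
  exact ⟨residue A a, ResidueField.map_residue f a⟩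

variable (A : Type u) [CommRing A] [IsLocalRing A]

theorem numBranches_eq_sum (h : (minimalPrimes A).Finite) :
    numBranches A = ∑ᶠ p : minimalPrimes A, haveI : p.1.IsPrime := p.2.1.1; haveI := isLocalRing_quot A p.1; numBranches (A ⧸ p.1) := by
  have hF : Finite (minimalPrimes A) := h.to_subtype
  cases nonempty_fintype (minimalPrimes A)
  obtain ⟨e, he⟩ := exists_normRedEquiv A h
  rw [numBranches_of_finite h, finsum_eq_sum_of_fintype]
  rw [← ENat.card_congr (maxCongr e), ← ENat.card_congr (maxEquiv (fun p : minimalPrimes A => normRed (A ⧸ p.1))),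
    enatCard_sigma]
  refine Finset.sum_congr rfl fun p _ => ?_
  have : p.1.IsPrime := p.2.1.1
  have := isLocalRing_quot A p.1
  rw [numBranches_of_finite (finite_minimalPrimes_of_isDomain (A ⧸ p.1))]

theorem numGeomBranches_eq_sum (h : (minimalPrimes A).Finite) :
    numGeomBranches A = ∑ᶠ p : minimalPrimes A, haveI : p.1.IsPrime := p.2.1.1; haveI := isLocalRing_quot A p.1; numGeomBranches (A ⧸ p.1) := by
  have hF : Finite (minimalPrimes A) := h.to_subtype
  cases nonempty_fintype (minimalPrimes A)
  obtain ⟨e, he⟩ := exists_normRedEquiv A h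
  have hpr : ∀ p : minimalPrimes A, p.1.IsPrime := isPrime_minimalPrimes A
  have hloc : ∀ p : minimalPrimes A, IsLocalRing (A ⧸ p.1) := fun p => isLocalRing_quot A p.1
  rw [numGeomBranches_of_finite h, finsum_eq_sum_of_fintype]
  let E : (Σ p : minimalPrimes A, MaximalSpectrum (normRed (A ⧸ p.1))) ≃ MaximalSpectrum (normRed A) :=
    (maxEquiv (fun p : minimalPrimes A => normRed (A ⧸ p.1))).trans (maxCongr e)
  have key : ∀ x : (Σ p : minimalPrimes A, MaximalSpectrum (normRed (A ⧸ p.1))),
      Nonempty (Emb A (E x) ≃ Emb (A ⧸ x.1.1) x.2) := by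
    rintro ⟨p, m⟩
    have := hpr p
    have hs : Function.Surjective (Ideal.Quotient.mk p.1) := Ideal.Quotient.mk_surjective
    have : IsLocalHom (Ideal.Quotient.mk p.1) := IsLocalHom.of_surjective _ hs
    refine emb_equiv (Ideal.Quotient.mk p.1) (residueField_map_surjective _ hs) hs
      ((Pi.evalRingHom (fun p : minimalPrimes A => normRed (A ⧸ p.1)) p).comp (e : normRed A →+* _))
      ((Function.surjective_eval p).comp e.surjective) (fun a => he a p) _ _ ?_
    rfl
  let F : ∀ x, Emb A (E x) ≃ Emb (A ⧸ x.1.1) x.2 := fun x => Classical.choice (key x)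
  have e2 : (Σ m' : MaximalSpectrum (normRed A), Emb A m') ≃
      (Σ p : minimalPrimes A, Σ m'' : MaximalSpectrum (normRed (A ⧸ p.1)), Emb (A ⧸ p.1) m'') :=
    (Equiv.sigmaCongrLeft (β := fun m' => Emb A m') E).symm.trans ((Equiv.sigmaCongrRight F).trans
      (Equiv.sigmaAssoc (fun (p : minimalPrimes A) (m'' : MaximalSpectrum (normRed (A ⧸ p.1))) => Emb (A ⧸ p.1) m'')))
  rw [ENat.card_congr e2, enatCard_sigma]
  refine Finset.sum_congr rfl fun p _ => ?_
  have : p.1.IsPrime := p.2.1.1
  have := isLocalRing_quot A p.1
  rw [numGeomBranches_of_finite (finite_minimalPrimes_of_isDomain (A ⧸ p.1))]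

end K580.SumMin
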